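import Cfsg.Agent.Lib.Helper84.FusionFocal
import Cfsg.Agent.Lib.Helper47.PRes
import Cfsg.Agent.Lib.Helper89.RelSat
import Cfsg.Agent.Lib.Helper2.PGroupFrattini

set_option autoImplicit false

/-! The hyperfocal subgroup theorem `hyp(F_S(G)) = S ∩ O^p(G)` (helper84). -/

namespace Cfsg.Agent.Lib.Helper84

open Cfsg Cfsg.FusionSystem

section general

variable {Ω : Type*} [Group Ω]

theorem pResidual_map_le_of_injective {A B : Type*} [Group A] [Group B] (p : ℕ) (f : A →* B)
    (hf : Function.Injective f) : (pResidual p A).map f ≤ pResidual p B := by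
  unfold pResidual
  rw [MonoidHom.map_closure, Subgroup.closure_le]
  rintro _ ⟨a, ha, rfl⟩
  apply Subgroup.subset_closure
  show Nat.Coprime (orderOf (f a)) p
  rw [orderOf_injective f hf]
  exact ha

theorem hyperfocal_le {S : Subgroup Ω} (F : FusionSystem S) (p : ℕ) : F.hyperfocalSubgroup p ≤ S := by
  unfold FusionSystem.hyperfocalSubgroup
  rw [Subgroup.closure_le]
  rintro _ ⟨P, α, x, hP, -, rfl⟩
  exact hP (P.mul_mem (P.inv_mem x.2) ((α : MulAut P) x).2)

theorem hyperfocal_mono {S0 S : Subgroup Ω} (h : S0 ≤ S) (F0 : FusionSystem S0) (F : FusionSystem S)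
    (p : ℕ) (hA : ∀ P ≤ S0, F0.autGroup P ≤ F.autGroup P) :
    F0.hyperfocalSubgroup p ≤ F.hyperfocalSubgroup p := by
  unfold FusionSystem.hyperfocalSubgroup
  rw [Subgroup.closure_le]
  rintro _ ⟨P, α, x, hP, hα, rfl⟩
  refine Subgroup.subset_closure ⟨P, Subgroup.inclusion (hA P hP) α, x, hP.trans h, ?_, rfl⟩
  exact pResidual_map_le_of_injective p (Subgroup.inclusion (hA P hP))
    (Subgroup.inclusion_injective _) ⟨α, hα, rfl⟩

/-- a subgroup of a finite `p`-group which together with the commutator subgroup generates it is everything. -/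
theorem eq_of_sup_commutator {p : ℕ} [Fact p.Prime] {S H : Subgroup Ω} [Finite S] (hS : IsPGroup p S)
    (hH : H ≤ S) (h : S ≤ H ⊔ ⁅S, S⁆) : H = S := by
  have h1 : H.subgroupOf S ⊔ frattini S = ⊤ := by
    rw [eq_top_iff]
    refine le_trans ?_ (sup_le_sup_left (Cfsg.Agent.Lib.Helper2.commutator_le_frattini hS) _)
    intro x _
    have hx := h x.2
    have h2 : H ⊔ ⁅S, S⁆ = (H.subgroupOf S ⊔ commutator S).map S.subtype := by
      rw [Subgroup.map_sup, Subgroup.map_subgroupOf_eq_of_le hH, Subgroup.map_subtype_commutator]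
    rw [h2] at hx
    obtain ⟨y, hy, hyx⟩ := hx
    have : y = x := Subtype.ext hyx
    exact this ▸ hy
  have h3 := frattini_nongenerating h1
  apply le_antisymm hH
  intro x hx
  have : (⟨x, hx⟩ : S) ∈ H.subgroupOf S := h3 ▸ Subgroup.mem_top _
  exact this

/-- In a finite group with `O^p(K) = K`, a `p`-subgroup lies in the commutator subgroup. -/
theorem le_commutator_of_pResidual_eq_top {K : Type*} [Group K] {p : ℕ} [Fact p.Prime]
    (hK : pResidual p K = ⊤) {R : Subgroup K} (hR : IsPGroup p R) : R ≤ commutator K := by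
  have key : ∀ x : K, ∃ m : ℕ, m.Coprime p ∧ (Abelianization.of x) ^ m = 1 := by
    intro x
    have hx : x ∈ pResidual p K := hK ▸ Subgroup.mem_top x
    unfold pResidual at hx
    induction hx using Subgroup.closure_induction with
    | mem y hy =>
      exact ⟨orderOf y, hy, by rw [← map_pow, pow_orderOf_eq_one, map_one]⟩
    | one => exact ⟨1, Nat.coprime_one_left p, by simp⟩
    | mul a b _ _ iha ihb =>
      obtain ⟨m, hm, hm'⟩ := iha
      obtain ⟨n, hn, hn'⟩ := ihb
      refine ⟨m * n, Nat.Coprime.mul_left hm hn, ?_⟩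
      rw [map_mul, mul_pow, pow_mul, hm', one_pow, mul_comm m n, pow_mul, hn', one_pow, one_mul]
    | inv a _ iha =>
      obtain ⟨m, hm, hm'⟩ := iha
      exact ⟨m, hm, by rw [map_inv, inv_pow, hm', inv_one]⟩
  intro x hx
  obtain ⟨m, hm, hm'⟩ := key x
  obtain ⟨k, hk⟩ := hR ⟨x, hx⟩
  have hk' : (Abelianization.of x) ^ (p ^ k) = 1 := by
    have : x ^ (p ^ k) = 1 := congrArg Subtype.val hk
    rw [← map_pow, this, map_one]
  have h1 : orderOf (Abelianization.of x) ∣ Nat.gcd m (p ^ k) :=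
    Nat.dvd_gcd (orderOf_dvd_of_pow_eq_one hm') (orderOf_dvd_of_pow_eq_one hk')
  rw [Nat.Coprime.pow_right k hm, Nat.dvd_one, orderOf_eq_one_iff] at h1
  exact (QuotientGroup.eq_one_iff x).1 h1

end general

section group

variable {G : Type*} [Group G]

theorem groupFus_aut_pow {P : Subgroup G} {α : MulAut P} {g : G}
    (h : ∀ x : P, ((α x : P) : G) = g * x * g⁻¹) (n : ℕ) :
    ∀ x : P, (((α ^ n) x : P) : G) = g ^ n * x * (g ^ n)⁻¹ := by
  induction n with
  | zero => intro x; simp
  | succ n ih =>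
    intro x
    rw [pow_succ', MulAut.mul_apply, h, ih, pow_succ']
    simp [mul_assoc]

theorem hyperfocal_groupFus_le [Finite G] (p : ℕ) [Fact p.Prime] (S : Subgroup G) :
    (groupFusionSystem S).hyperfocalSubgroup p ≤ S ⊓ pResidual p G := by
  refine le_inf (hyperfocal_le _ p) ?_
  have hKn : (pResidual p G).Normal := Cfsg.Agent.Lib.Helper34.pResidual_normal p G
  unfold FusionSystem.hyperfocalSubgroup
  rw [Subgroup.closure_le]
  rintro _ ⟨P, α, x, hP, hα, rfl⟩
  show (x : G)⁻¹ * (((α : MulAut P) x : P) : G) ∈ pResidual p G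
  revert x
  unfold pResidual at hα
  induction hα using Subgroup.closure_induction with
  | mem β hβ =>
    intro x
    obtain ⟨-, -, g, hg⟩ := (mem_autGroup_iff (groupFusionSystem S) hP (β : MulAut P)).1 β.2
    have hg' : ∀ x : P, (((β : MulAut P) x : P) : G) = g * x * g⁻¹ := hg
    obtain ⟨k, hk⟩ := Cfsg.Agent.Lib.Helper47.exists_pow_coprime (p := p) g
    have hβ' : Nat.Coprime (orderOf (β : MulAut P)) p := by
      rw [Subgroup.orderOf_coe]; exact hβ
    obtain ⟨m, hm⟩ := exists_pow_eq_self_of_coprime (x := (β : MulAut P)) (n := p ^ k)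
      (Nat.Coprime.pow_left k hβ'.symm)
    have h1 := groupFus_aut_pow (groupFus_aut_pow hg' (p ^ k)) m x
    rw [hm] at h1
    rw [h1]
    have h2 : (g ^ p ^ k) ^ m ∈ pResidual p G := by
      apply Subgroup.pow_mem
      exact Subgroup.subset_closure hk
    have h3 := (pResidual p G).mul_mem (hKn.conj_mem _ h2 (x : G)⁻¹) ((pResidual p G).inv_mem h2)
    simpa [mul_assoc] using h3
  | one => intro x; simp
  | mul a b _ _ iha ihb =>
    intro x
    have := (pResidual p G).mul_mem (ihb x) (iha ((b : MulAut P) x))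
    simpa [mul_assoc] using this
  | inv a _ iha =>
    intro x
    have := (pResidual p G).inv_mem (iha ((a : MulAut P)⁻¹ x))
    simpa using this

open Cfsg.Agent.Lib.Helper85 (SylIn sylIn_iff_card) in
theorem le_hyperfocal_groupFus [Finite G] (p : ℕ) [Fact p.Prime] (S : Sylow p G) :
    (S : Subgroup G) ⊓ pResidual p G ≤ (groupFusionSystem (S : Subgroup G)).hyperfocalSubgroup p := by
  obtain ⟨K, hK⟩ : ∃ K, K = pResidual p G := ⟨_, rfl⟩
  rw [← hK]
  have hKn : K.Normal := hK ▸ Cfsg.Agent.Lib.Helper34.pResidual_normal p G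
  obtain ⟨S0, hS0⟩ : ∃ S0, S0 = (S : Subgroup G) ⊓ K := ⟨_, rfl⟩
  rw [← hS0]
  have hS0K : S0 ≤ K := hS0 ▸ inf_le_right
  have hS0S : S0 ≤ S := hS0 ▸ inf_le_left
  have htop : SylIn p (S : Subgroup G) ⊤ := by
    rw [sylIn_iff_card le_top, Subgroup.card_top]
    exact S.card_eq_multiplicity
  have hSyl : SylIn p S0 K := hS0 ▸ htop.inf_normal le_top le_top (by rw [Subgroup.normalizer_eq_top])
  have hS0p : IsPGroup p S0 := hSyl.isPGroup hS0K
  have hsat : (fusionSystemOfSubgroup K S0 hS0K).IsSaturated p :=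
    Cfsg.Agent.Lib.Helper89.fusSub_saturated hS0K hSyl
  have hfoc := focal_eq hS0p _ hsat
  have hKK : pResidual p K = ⊤ := by
    rw [← Cfsg.Agent.Lib.Helper47.pResOf_subgroupOf]
    have : Cfsg.Agent.Lib.Helper47.pResOf p K = K := by
      rw [hK, ← Cfsg.Agent.Lib.Helper47.pResOf_top, Cfsg.Agent.Lib.Helper47.pResOf_pResOf]
    rw [this]
    exact Subgroup.subgroupOf_self K
  have h1 : S0 ≤ (fusionSystemOfSubgroup K S0 hS0K).focalSubgroup := by
    obtain ⟨R, hR⟩ := hSyl
    have hRc : (R : Subgroup K) ≤ commutator K := le_commutator_of_pResidual_eq_top hKK R.isPGroup'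
    have hfs := Subgroup.commutator_inf_eq_focalSubgroup R
    rw [inf_eq_right.2 hRc] at hfs
    have hmap : ((R : Subgroup K).focalSubgroup).map K.subtype ≤
        (fusionSystemOfSubgroup K S0 hS0K).focalSubgroup := by
      rw [Subgroup.focalSubgroup_def, MonoidHom.map_closure, Subgroup.closure_le]
      rintro _ ⟨g, ⟨hg, y, hy, u, hgu⟩, rfl⟩
      rw [hR, Subgroup.mem_subgroupOf] at hg hy
      apply Subgroup.subset_closure
      have hconj : (u : G) * (y : G)⁻¹ * (u : G)⁻¹ ∈ S0 := by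
        have := S0.mul_mem (S0.inv_mem hy) hg
        rw [hgu, commutatorElement_def] at this
        simpa [mul_assoc] using this
      refine ⟨Subgroup.zpowers ((y : G)⁻¹), conjHom _ (u : G), ⟨(y : G)⁻¹, Subgroup.mem_zpowers _⟩,
        ⟨?_, ?_, (u : G), u.2, fun x => rfl⟩, ?_⟩
      · rw [Subgroup.zpowers_le]; exact S0.inv_mem hy
      · rintro ⟨z, hz⟩
        obtain ⟨n, rfl⟩ := Subgroup.mem_zpowers_iff.1 hz
        rw [conjHom_apply]
        have := S0.zpow_mem hconj n
        rwa [conj_zpow] at this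
      · rw [conjHom_apply, hgu, commutatorElement_def]
        simp [mul_assoc]
    intro x hx
    apply hmap
    refine ⟨⟨x, hS0K hx⟩, ?_, rfl⟩
    rw [← hfs, hR]
    exact hx
  have h2 : (fusionSystemOfSubgroup K S0 hS0K).hyperfocalSubgroup p = S0 :=
    eq_of_sup_commutator hS0p (hyperfocal_le _ p) (hfoc ▸ h1)
  rw [← h2]
  apply hyperfocal_mono hS0S
  intro P hP α hα
  rw [mem_autGroup_iff _ hP] at hα
  rw [mem_autGroup_iff _ (hP.trans hS0S)]
  obtain ⟨-, h3, g, -, hg⟩ := hα
  exact ⟨hP.trans hS0S, fun x => hS0S (h3 x), g, hg⟩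

theorem hyperfocal_groupFus [Finite G] (p : ℕ) [Fact p.Prime] (S : Sylow p G) :
    (groupFusionSystem (S : Subgroup G)).hyperfocalSubgroup p = (S : Subgroup G) ⊓ pResidual p G :=
  le_antisymm (hyperfocal_groupFus_le p (S : Subgroup G)) (le_hyperfocal_groupFus p S)

end group

end Cfsg.Agent.Lib.Helper84
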