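import Cfsg.Agent.Lib.Helper84.BisetTransfer

set_option autoImplicit false

/-! The degree homomorphism of a biset (helper84).

`X` is a `(T,T)`-biset free on the right, `χ : T →* Z` a homomorphism to a commutative group and `f : X → Z` an equivariant
function.  Then `g ↦ ∏_j f (g y_j) / f (y_j)` is a homomorphism on the group of permutations commuting with the right
action.  We compute it on the centralizer of a `p`-subgroup. -/

namespace Cfsg.Agent.Lib.Helper84.BisetTr

open scoped Classical

/-- existence of equivariant maps, relative to an invariant subset -/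
theorem exists_equivariant_on {G X R : Type*} [Group G] [MulAction G X] [MulAction G R] [Nonempty R]
    (Y : Set X) (hY : ∀ g : G, ∀ x ∈ Y, g • x ∈ Y)
    (H : ∀ x ∈ Y, ∃ r : R, ∀ g : G, g • x = x → g • r = r) :
    ∃ f : X → R, ∀ (g : G), ∀ x ∈ Y, f (g • x) = g • f x := by
  have H' : ∀ x : X, ∃ r : R, x ∈ Y → ∀ g : G, g • x = x → g • r = r := by
    intro x
    by_cases hx : x ∈ Y
    · obtain ⟨r, hr⟩ := H x hx
      exact ⟨r, fun _ => hr⟩
    · exact ⟨Classical.arbitrary R, fun h => absurd h hx⟩
  choose r hr using H'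
  have hex : ∀ x : X, ∃ g : G,
      g • (Quotient.out (Quotient.mk (MulAction.orbitRel G X) x)) = x := by
    intro x
    have h1 := (MulAction.orbitRel G X).symm
      (Quotient.exact (Quotient.out_eq (Quotient.mk (MulAction.orbitRel G X) x)))
    obtain ⟨g, hg⟩ := h1
    exact ⟨g, hg⟩
  choose γ hγ using hex
  refine ⟨fun x => γ x • r (Quotient.out (Quotient.mk (MulAction.orbitRel G X) x)), ?_⟩
  intro g x hx
  have hq : Quotient.mk (MulAction.orbitRel G X) (g • x) = Quotient.mk (MulAction.orbitRel G X) x :=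
    Quotient.sound ⟨g, rfl⟩
  show γ (g • x) • r (Quotient.out (Quotient.mk (MulAction.orbitRel G X) (g • x))) =
    g • γ x • r (Quotient.out (Quotient.mk (MulAction.orbitRel G X) x))
  have h1 := hγ (g • x)
  rw [hq] at h1 ⊢
  have h0 := hγ x
  generalize γ (g • x) = c at h1 ⊢
  generalize Quotient.out (Quotient.mk (MulAction.orbitRel G X) x) = y at h1 h0 ⊢
  have hy : y ∈ Y := by
    have h5 := hY (γ x)⁻¹ x hx
    have h6 : (γ x)⁻¹ • x = y := by rw [inv_smul_eq_iff, h0]
    rwa [h6] at h5
  have h2 : (c⁻¹ * (g * γ x)) • y = y := by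
    rw [mul_smul, mul_smul, h0, ← h1, inv_smul_smul]
  have h3 := hr y hy _ h2
  rw [mul_smul, inv_smul_eq_iff, mul_smul] at h3
  exact h3.symm

/-- a product of an invariant function over a `p`-group set, with values in a group of exponent `p`, only depends on the
fixed points -/
theorem prod_eq_prod_fixedPoints {P J Z : Type*} [Group P] [MulAction P J] [Fintype J] [CommGroup Z]
    {p : ℕ} [Fact p.Prime] (hP : IsPGroup p P) (hZ : ∀ z : Z, z ^ p = 1) (d : J → Z)
    (hd : ∀ (x : P) (j : J), d (x • j) = d j) :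
    ∏ j, d j = ∏ j ∈ Finset.univ.filter (fun j => j ∈ MulAction.fixedPoints P J), d j := by
  have key : ∀ z : Z, z ^ (Finset.card (Finset.univ.filter (fun j => d j = z))) =
      z ^ (Finset.card ((Finset.univ.filter (fun j => j ∈ MulAction.fixedPoints P J)).filter
        (fun j => d j = z))) := by
    intro z
    let M : SubMulAction P J := ⟨{j | d j = z}, fun x j hj => by
      show d (x • j) = z
      rw [hd]; exact hj⟩
    have h1 := hP.card_modEq_card_fixedPoints (↥M)
    have e1 : Nat.card ↥M = Finset.card (Finset.univ.filter (fun j => d j = z)) := by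
      rw [Nat.card_eq_fintype_card]
      exact Fintype.card_subtype _
    have e2 : Nat.card (MulAction.fixedPoints P ↥M) =
        Finset.card ((Finset.univ.filter (fun j => j ∈ MulAction.fixedPoints P J)).filter
          (fun j => d j = z)) := by
      rw [Finset.filter_filter,
        ← Fintype.card_subtype (fun j => j ∈ MulAction.fixedPoints P J ∧ d j = z),
        ← Nat.card_eq_fintype_card]
      refine Nat.card_congr ⟨fun m => ⟨m.1.1, fun x => congrArg Subtype.val (m.2 x), m.1.2⟩,
        fun j => ⟨⟨j.1, j.2.2⟩, fun x => Subtype.ext (j.2.1 x)⟩, fun m => rfl, fun j => rfl⟩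
    rw [e1, e2] at h1
    have hord : orderOf z ∣ p := orderOf_dvd_of_pow_eq_one (hZ z)
    exact pow_eq_pow_iff_modEq.2 (h1.of_dvd hord)
  have h1 := Finset.prod_comp (s := Finset.univ) (fun z : Z => z) d
  have h2 := Finset.prod_comp (s := Finset.univ.filter (fun j => j ∈ MulAction.fixedPoints P J))
    (fun z : Z => z) d
  rw [h1, h2]
  symm
  rw [Finset.prod_subset (Finset.image_subset_image
    (Finset.filter_subset (fun j => j ∈ MulAction.fixedPoints P J) Finset.univ))]
  · exact Finset.prod_congr rfl (fun z _ => (key z).symm)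
  · intro z _ hz
    have : ((Finset.univ.filter (fun j => j ∈ MulAction.fixedPoints P J)).filter
        (fun j => d j = z)) = ∅ := by
      rw [Finset.filter_eq_empty_iff]
      intro j hj hjz
      exact hz (Finset.mem_image.2 ⟨j, hj, hjz⟩)
    rw [this]
    simp

variable {T : Type*} [Group T] {X : Type*} [MulAction (T × T) X] {Z : Type*} [CommGroup Z]

/-- equivariant functions -/
def IsEqv (χ : T →* Z) (f : X → Z) : Prop :=
  ∀ (a b : T) (y : X), f ((a, b) • y) = χ a * f y * (χ b)⁻¹

/-- the local degree -/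
def dfun (f : X → Z) (g : comm T X) (y : X) : Z := f ((g : Equiv.Perm X) y) * (f y)⁻¹

theorem dfun_right {χ : T →* Z} {f : X → Z} (hf : IsEqv χ f) (g : comm T X) (b : T) (y : X) :
    dfun f g (((1 : T), b) • y) = dfun f g y := by
  unfold dfun
  rw [g.2, hf, hf]
  simp

/-- the local degree on right orbits -/
def dq {χ : T →* Z} {f : X → Z} (hf : IsEqv χ f) (g : comm T X) : RQ T X → Z :=
  Quotient.lift (dfun f g) (by
    rintro y y' ⟨b, rfl⟩
    exact (dfun_right hf g b y).symm)

theorem dq_mk {χ : T →* Z} {f : X → Z} (hf : IsEqv χ f) (g : comm T X) (y : X) :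
    dq hf g (Quotient.mk (rSetoid T X) y) = dfun f g y := rfl

theorem dq_mul {χ : T →* Z} {f : X → Z} (hf : IsEqv χ f) (g h : comm T X) (j : RQ T X) :
    dq hf (g * h) j = dq hf g (sig h j) * dq hf h j := by
  induction j using Quotient.inductionOn with
  | h y =>
    rw [sig_mk, dq_mk, dq_mk, dq_mk]
    unfold dfun
    show f ((g : Equiv.Perm X) ((h : Equiv.Perm X) y)) * _ = _
    simp

/-- the degree homomorphism -/
noncomputable def Deg [Finite X] {χ : T →* Z} {f : X → Z} (hf : IsEqv χ f) : comm T X →* Z where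
  toFun g := ∏ᶠ j, dq hf g j
  map_one' := by
    have : ∀ j, dq hf (1 : comm T X) j = 1 := by
      intro j
      induction j using Quotient.inductionOn with
      | h y =>
        rw [dq_mk]
        unfold dfun
        show f y * (f y)⁻¹ = 1
        simp
    simp [this]
  map_mul' := by
    intro g h
    have e : (fun j => dq hf (g * h) j) = fun j => dq hf g (sig h j) * dq hf h j :=
      funext (dq_mul hf g h)
    show ∏ᶠ j, dq hf (g * h) j = _
    rw [e, finprod_mul_distrib (Set.toFinite _) (Set.toFinite _),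
      finprod_comp (g := dq hf g) (sig h) (sig_bijective h)]

theorem Deg_apply [Finite X] {χ : T →* Z} {f : X → Z} (hf : IsEqv χ f) (g : comm T X) :
    Deg hf g = ∏ᶠ j, dq hf g j := rfl

theorem Deg_lft [Finite X] {χ : T →* Z} {f : X → Z} (hf : IsEqv χ f) (s : T) :
    Deg hf (lft T X s) = χ s ^ Nat.card (RQ T X) := by
  have : ∀ j, dq hf (lft T X s) j = χ s := by
    intro j
    induction j using Quotient.inductionOn with
    | h y =>
      rw [dq_mk]
      unfold dfun
      rw [lft_apply, hf]
      simp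
  let _ := Fintype.ofFinite (RQ T X)
  rw [Deg_apply, finprod_eq_prod_of_fintype, Finset.prod_congr rfl (fun j _ => this j),
    Finset.prod_const, Finset.card_univ, Nat.card_eq_fintype_card]

/-- the action of a subgroup of `T` on the right orbits -/
def pAct (P : Subgroup T) : MulAction P (RQ T X) where
  smul x j := sig (lft T X x) j
  one_smul j := by
    show sig (lft T X ((1 : P) : T)) j = j
    rw [Subgroup.coe_one, map_one, sig_one]
  mul_smul x y j := by
    show sig (lft T X ((x * y : P) : T)) j = sig _ (sig _ j)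
    rw [Subgroup.coe_mul, map_mul, sig_mul]

/-- the action of `C × T` on `X` -/
def cAct (C : Subgroup (comm T X)) : MulAction (C × T) X where
  smul γ y := ((γ.1 : comm T X) : Equiv.Perm X) (((1 : T), γ.2) • y)
  one_smul y := one_smul (T × T) y
  mul_smul γ γ' y := by
    show ((γ.1 : comm T X) : Equiv.Perm X) (((γ'.1 : comm T X) : Equiv.Perm X)
      (((1 : T), γ.2 * γ'.2) • y)) = ((γ.1 : comm T X) : Equiv.Perm X) (((1 : T), γ.2) •
        ((γ'.1 : comm T X) : Equiv.Perm X) (((1 : T), γ'.2) • y))
    rw [← (γ'.1 : comm T X).2, ← mul_smul]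
    simp

/-- the action of `C × T` on `Z` -/
def zAct (C : Subgroup (comm T X)) (χ : T →* Z) : MulAction (C × T) Z where
  smul γ z := z * (χ γ.2)⁻¹
  one_smul z := by
    show z * (χ 1)⁻¹ = z
    simp
  mul_smul γ γ' z := by
    show z * (χ (γ.2 * γ'.2))⁻¹ = z * (χ γ'.2)⁻¹ * (χ γ.2)⁻¹
    rw [map_mul, mul_inv_rev, mul_assoc]

theorem stab_move {P : Subgroup T} {c : comm T X}
    (hc : ∀ x ∈ P, c * lft T X x = lft T X x * c) {x s : T} (hx : x ∈ P) (b : T) {y : X}
    (hy : (x, s) • y = y) :
    (x, b * s * b⁻¹) • (c : Equiv.Perm X) (((1 : T), b) • y) =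
      (c : Equiv.Perm X) (((1 : T), b) • y) := by
  have h1 : ((x, b * s * b⁻¹) : T × T) = (x, (1 : T)) * ((1 : T), b * s * b⁻¹) := by simp
  have h2 : ∀ y' : X, (x, (1 : T)) • (c : Equiv.Perm X) y' = (c : Equiv.Perm X) ((x, (1 : T)) • y') := by
    intro y'
    have := congrArg (fun k : comm T X => (k : Equiv.Perm X) y') (hc x hx)
    exact this.symm
  rw [h1, mul_smul, ← c.2, h2, ← mul_smul, ← mul_smul]
  have h3 : ((x, (1 : T)) * ((1 : T), b * s * b⁻¹) * ((1 : T), b) : T × T) =
      ((1 : T), b) * (x, s) := by simp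
  rw [h3, mul_smul, hy]

/-- **The degree is trivial on the centralizer of a `p`-subgroup `P`**, provided `χ` is trivial on the centralizers of the
images of `P` under the maps read off from the point stabilizers. -/
theorem Deg_eq_one_of_commute [Finite X] {p : ℕ} [Fact p.Prime] (hfree : RFree T X) {χ : T →* Z}
    {f : X → Z} (hf : IsEqv χ f) (hZ : ∀ z : Z, z ^ p = 1) (P : Subgroup T) (hP : IsPGroup p P)
    (g : comm T X) (hg : ∀ x ∈ P, g * lft T X x = lft T X x * g)
    (hc : ∀ (y : X) (b : T), (∀ x ∈ P, ∃ s : T, (x, s) • y = y ∧ b * s = s * b) → χ b = 1) :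
    Deg hf g = 1 := by
  let _ := Fintype.ofFinite (RQ T X)
  letI := pAct (X := X) P
  have hsm : ∀ (x : P) (j : RQ T X), x • j = sig (lft T X x) j := fun _ _ => rfl
  let C : Subgroup (comm T X) :=
    { carrier := {c | ∀ x ∈ P, c * lft T X x = lft T X x * c}
      one_mem' := fun x _ => by simp
      mul_mem' := by
        intro a b ha hb x hx
        rw [mul_assoc, hb x hx, ← mul_assoc, ha x hx, mul_assoc]
      inv_mem' := by
        intro a ha x hx
        rw [inv_mul_eq_iff_eq_mul, ← mul_assoc, ha x hx, mul_assoc, mul_inv_cancel, mul_one] }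
  have hgC : g ∈ C := hg
  let Y : Set X := {y | ∀ x ∈ P, ∃ s : T, (x, s) • y = y}
  letI a1 := cAct C
  letI a2 := zAct C χ
  have hs1 : ∀ (γ : C × T) (y : X),
      γ • y = ((γ.1 : comm T X) : Equiv.Perm X) (((1 : T), γ.2) • y) := fun _ _ => rfl
  have hs2 : ∀ (γ : C × T) (z : Z), γ • z = z * (χ γ.2)⁻¹ := fun _ _ => rfl
  obtain ⟨f', hf'⟩ := exists_equivariant_on (G := C × T) (R := Z) Y (by
      intro γ y hy x hx
      obtain ⟨s, hs⟩ := hy x hx
      exact ⟨γ.2 * s * γ.2⁻¹, by rw [hs1]; exact stab_move γ.1.2 hx γ.2 hs⟩) (by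
      intro y hy
      refine ⟨1, fun γ hγ => ?_⟩
      rw [hs2, hc y γ.2]
      · simp
      · intro x hx
        obtain ⟨s, hs⟩ := hy x hx
        refine ⟨s, hs, ?_⟩
        have h1 := stab_move γ.1.2 hx γ.2 hs
        rw [← hs1, hγ] at h1
        have h2 : ((1 : T), γ.2 * s * γ.2⁻¹) • y = ((1 : T), s) • y := by
          have e1 : (((1 : T), γ.2 * s * γ.2⁻¹) : T × T) = (x⁻¹, (1 : T)) * (x, γ.2 * s * γ.2⁻¹) := by
            simp
          have e2 : (((1 : T), s) : T × T) = (x⁻¹, (1 : T)) * (x, s) := by simp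
          rw [e1, e2, mul_smul, mul_smul, h1, hs]
        have h3 := hfree.cancel y _ _ h2
        rw [mul_inv_eq_iff_eq_mul] at h3
        exact h3)
  have hfix : ∀ c ∈ C, ∀ j : RQ T X, j ∈ MulAction.fixedPoints P (RQ T X) →
      sig c j ∈ MulAction.fixedPoints P (RQ T X) := by
    intro c hcC j hj x
    rw [hsm, ← sig_mul, ← hcC x x.2, sig_mul, ← hsm, hj x]
  have hYt : ∀ j : RQ T X, j ∈ MulAction.fixedPoints P (RQ T X) → Quotient.out j ∈ Y := by
    intro j hj x hx
    have h1 := hj ⟨x, hx⟩
    rw [hsm] at h1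
    conv at h1 => rw [← Quotient.out_eq j]
    rw [sig_mk] at h1
    obtain ⟨b, hb⟩ := Quotient.exact h1
    refine ⟨b, ?_⟩
    rw [lft_apply, ← mul_smul] at hb
    simpa using hb
  rw [Deg_apply, finprod_eq_prod_of_fintype, prod_eq_prod_fixedPoints hP hZ (dq hf g)]
  · let e : RQ T X → Z := fun j => f (Quotient.out j) * (f' (Quotient.out j))⁻¹
    have key : ∀ j ∈ Finset.univ.filter (fun j => j ∈ MulAction.fixedPoints P (RQ T X)),
        dq hf g j = e (sig g j) * (e j)⁻¹ := by
      intro j hj
      have hj' : j ∈ MulAction.fixedPoints P (RQ T X) := (Finset.mem_filter.1 hj).2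
      have h1 : Quotient.mk (rSetoid T X) (Quotient.out (sig g j)) =
          Quotient.mk (rSetoid T X) ((g : Equiv.Perm X) (Quotient.out j)) := by
        rw [Quotient.out_eq, ← sig_mk, Quotient.out_eq]
      obtain ⟨b, hb⟩ := Quotient.exact h1
      have h2 := hf' (⟨g, hgC⟩, 1) _ (hYt j hj')
      rw [hs1, hs2] at h2
      have h3 := hf' (1, b) _ (hYt _ (hfix g hgC j hj'))
      rw [hs1, hs2] at h3
      simp only [map_one, inv_one, mul_one] at h2
      have h4 : (((1 : T), (1 : T)) : T × T) • Quotient.out j = Quotient.out j := one_smul _ _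
      rw [h4] at h2
      have h5 : (((1 : C) : comm T X) : Equiv.Perm X) (((1 : T), b) • Quotient.out (sig g j)) =
          (g : Equiv.Perm X) (Quotient.out j) := hb
      simp only at h3
      rw [h5, h2] at h3
      have h6 : dq hf g j = dfun f g (Quotient.out j) := by
        conv_lhs => rw [← Quotient.out_eq j]
        rfl
      rw [h6]
      unfold dfun
      show _ = f (Quotient.out (sig g j)) * (f' (Quotient.out (sig g j)))⁻¹ *
        (f (Quotient.out j) * (f' (Quotient.out j))⁻¹)⁻¹
      rw [← hb, hf, h3]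
      simp only [map_one, one_mul, mul_inv_rev, inv_inv]
      have : ∀ a b c d : Z, a * b⁻¹ * c⁻¹ = a * d⁻¹ * (d * b⁻¹ * c⁻¹) := by
        intro a b c d
        rw [mul_assoc a d⁻¹, ← mul_assoc d⁻¹, ← mul_assoc d⁻¹, inv_mul_cancel, one_mul, mul_assoc]
      exact this _ _ _ _
    rw [Finset.prod_congr rfl key, Finset.prod_mul_distrib, Finset.prod_inv_distrib]
    rw [mul_inv_eq_one]
    refine Finset.prod_bijective (sig g) (sig_bijective g) ?_ (fun _ _ => rfl)
    intro j
    simp only [Finset.mem_filter, Finset.mem_univ, true_and]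
    refine ⟨hfix g hgC j, fun h => ?_⟩
    have := hfix g⁻¹ (C.inv_mem hgC) _ h
    rwa [← sig_mul, inv_mul_cancel, sig_one] at this
  · intro x j
    rw [hsm]
    induction j using Quotient.inductionOn with
    | h y =>
      rw [sig_mk, dq_mk, dq_mk]
      unfold dfun
      have h2 : (g : Equiv.Perm X) ((lft T X (x : T) : Equiv.Perm X) y) =
          (lft T X (x : T) : Equiv.Perm X) ((g : Equiv.Perm X) y) :=
        congrArg (fun k : comm T X => (k : Equiv.Perm X) y) (hg x x.2)
      rw [h2, lft_apply, lft_apply, hf, hf]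
      simp only [map_one, inv_one, mul_one, mul_inv_rev]
      have : ∀ a b c : Z, a * b * (c⁻¹ * a⁻¹) = b * c⁻¹ := by
        intro a b c
        rw [mul_comm a b, mul_comm c⁻¹, mul_assoc, ← mul_assoc a, mul_inv_cancel, one_mul]
      exact this _ _ _

end Cfsg.Agent.Lib.Helper84.BisetTr
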