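import Mathlib

set_option autoImplicit false

/-! A refined transfer attached to a biset, with values in a central section (helper84).

`X` is a `(T,T)`-biset, written as a `T × T`-set (`(a,b) • x = a x b⁻¹`), free on the right. -/

namespace Cfsg.Agent.Lib.Helper84.BisetTr

/-- existence of equivariant maps -/
theorem exists_equivariant {G X R : Type*} [Group G] [MulAction G X] [MulAction G R]
    (H : ∀ x : X, ∃ r : R, ∀ g : G, g • x = x → g • r = r) :
    ∃ f : X → R, ∀ (g : G) (x : X), f (g • x) = g • f x := by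
  classical
  choose r hr using H
  have hex : ∀ x : X, ∃ g : G,
      g • (Quotient.out (Quotient.mk (MulAction.orbitRel G X) x)) = x := by
    intro x
    have h1 := (MulAction.orbitRel G X).symm
      (Quotient.exact (Quotient.out_eq (Quotient.mk (MulAction.orbitRel G X) x)))
    obtain ⟨g, hg⟩ := h1
    exact ⟨g, hg⟩
  choose γ hγ using hex
  refine ⟨fun x => γ x • r (Quotient.out (Quotient.mk (MulAction.orbitRel G X) x)), ?_⟩
  intro g x
  have hq : Quotient.mk (MulAction.orbitRel G X) (g • x) = Quotient.mk (MulAction.orbitRel G X) x :=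
    Quotient.sound ⟨g, rfl⟩
  show γ (g • x) • r (Quotient.out (Quotient.mk (MulAction.orbitRel G X) (g • x))) =
    g • γ x • r (Quotient.out (Quotient.mk (MulAction.orbitRel G X) x))
  have h1 := hγ (g • x)
  rw [hq] at h1 ⊢
  have h0 := hγ x
  generalize γ (g • x) = c at h1 ⊢
  generalize Quotient.out (Quotient.mk (MulAction.orbitRel G X) x) = y at h1 h0 ⊢
  have h2 : (c⁻¹ * (g * γ x)) • y = y := by
    rw [mul_smul, mul_smul, h0, ← h1, inv_smul_smul]
  have h3 := hr y _ h2
  rw [mul_smul, inv_smul_eq_iff, mul_smul] at h3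
  exact h3.symm

variable {T : Type*} [Group T] {X : Type*} [MulAction (T × T) X]

/-- the right orbit relation -/
def rSetoid (T X : Type*) [Group T] [MulAction (T × T) X] : Setoid X where
  r y y' := ∃ b : T, ((1 : T), b) • y = y'
  iseqv := by
    refine ⟨fun y => ⟨1, one_smul _ y⟩, ?_, ?_⟩
    · rintro y y' ⟨b, rfl⟩
      refine ⟨b⁻¹, ?_⟩
      rw [← mul_smul]
      simp only [Prod.mk_mul_mk, mul_one, inv_mul_cancel]
      exact one_smul (T × T) y
    · rintro y y' y'' ⟨b, rfl⟩ ⟨b', rfl⟩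
      refine ⟨b' * b, ?_⟩
      rw [← mul_smul]
      simp

/-- the set of right orbits -/
abbrev RQ (T X : Type*) [Group T] [MulAction (T × T) X] := Quotient (rSetoid T X)

/-- permutations commuting with the right action -/
def comm (T X : Type*) [Group T] [MulAction (T × T) X] : Subgroup (Equiv.Perm X) where
  carrier := {g | ∀ (b : T) (x : X), g (((1 : T), b) • x) = ((1 : T), b) • g x}
  one_mem' := fun _ _ => rfl
  mul_mem' := by
    intro g h hg hh b x
    show g (h _) = _ • g (h x)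
    rw [hh, hg]
  inv_mem' := by
    intro g hg b x
    apply g.injective
    rw [hg]
    simp

/-- left multiplication -/
def lft (T X : Type*) [Group T] [MulAction (T × T) X] : T →* comm T X where
  toFun a := ⟨MulAction.toPerm ((a, (1 : T)) : T × T), by
    intro b x
    show (a, (1 : T)) • ((1 : T), b) • x = ((1 : T), b) • (a, (1 : T)) • x
    rw [← mul_smul, ← mul_smul]
    simp⟩
  map_one' := by
    apply Subtype.ext
    ext x
    show ((1 : T), (1 : T)) • x = x
    exact one_smul _ x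
  map_mul' := by
    intro a b
    apply Subtype.ext
    ext x
    show (a * b, (1 : T)) • x = (a, (1 : T)) • (b, (1 : T)) • x
    rw [← mul_smul]
    simp

theorem lft_apply (a : T) (x : X) : (lft T X a : Equiv.Perm X) x = (a, (1 : T)) • x := rfl

/-- the action on right orbits -/
def sig (g : comm T X) : RQ T X → RQ T X :=
  Quotient.map (g : Equiv.Perm X) (by
    rintro y y' ⟨b, rfl⟩
    exact ⟨b, (g.2 b y).symm⟩)

theorem sig_mk (g : comm T X) (y : X) :
    sig g (Quotient.mk (rSetoid T X) y) = Quotient.mk (rSetoid T X) ((g : Equiv.Perm X) y) := rfl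

theorem sig_mul (g g' : comm T X) (j : RQ T X) : sig (g * g') j = sig g (sig g' j) := by
  induction j using Quotient.inductionOn with
  | h y => rfl

theorem sig_one (j : RQ T X) : sig (1 : comm T X) j = j := by
  induction j using Quotient.inductionOn with
  | h y => rfl

theorem sig_bijective (g : comm T X) : Function.Bijective (sig g) := by
  rw [Function.bijective_iff_has_inverse]
  refine ⟨sig g⁻¹, fun j => ?_, fun j => ?_⟩
  · rw [← sig_mul, inv_mul_cancel, sig_one]
  · rw [← sig_mul, mul_inv_cancel, sig_one]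

/-- a system of representatives of the right orbits -/
structure Frame (T X : Type*) [Group T] [MulAction (T × T) X] where
  x : RQ T X → X
  hx : ∀ j, Quotient.mk (rSetoid T X) (x j) = j

theorem Frame.exists_co (Fr : Frame T X) (y : X) :
    ∃ b : T, ((1 : T), b) • Fr.x (Quotient.mk (rSetoid T X) y) = y :=
  Quotient.exact (Fr.hx (Quotient.mk (rSetoid T X) y))

/-- the coordinate of a point -/
noncomputable def Frame.co (Fr : Frame T X) (y : X) : T := Classical.choose (Fr.exists_co y)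

theorem Frame.co_spec (Fr : Frame T X) (y : X) :
    ((1 : T), Fr.co y) • Fr.x (Quotient.mk (rSetoid T X) y) = y :=
  Classical.choose_spec (Fr.exists_co y)

/-- the cocycle -/
noncomputable def Frame.bet (Fr : Frame T X) (g : comm T X) (j : RQ T X) : T :=
  Fr.co ((g : Equiv.Perm X) (Fr.x j))

theorem Frame.bet_spec (Fr : Frame T X) (g : comm T X) (j : RQ T X) :
    ((1 : T), Fr.bet g j) • Fr.x (sig g j) = (g : Equiv.Perm X) (Fr.x j) := by
  have h := Fr.co_spec ((g : Equiv.Perm X) (Fr.x j))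
  rw [← sig_mk, Fr.hx] at h
  exact h

/-- freeness of the right action -/
def RFree (T X : Type*) [Group T] [MulAction (T × T) X] : Prop :=
  ∀ (y : X) (c : T), ((1 : T), c) • y = y → c = 1

theorem RFree.cancel (hf : RFree T X) (y : X) (b c : T)
    (hc : ((1 : T), b) • y = ((1 : T), c) • y) : b = c := by
  have h1 : ((1 : T), c⁻¹ * b) • y = y := by
    have : (((1 : T), c⁻¹ * b) : T × T) = ((1 : T), c⁻¹) * ((1 : T), b) := by simp
    rw [this, mul_smul, hc, ← mul_smul]
    simp only [Prod.mk_mul_mk, mul_one, inv_mul_cancel]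
    exact one_smul (T × T) y
  have := hf y _ h1
  rwa [inv_mul_eq_one, eq_comm] at this

theorem Frame.bet_mul (hf : RFree T X) (Fr : Frame T X) (g g' : comm T X) (j : RQ T X) :
    Fr.bet (g * g') j = Fr.bet g' j * Fr.bet g (sig g' j) := by
  apply hf.cancel (Fr.x (sig (g * g') j))
  rw [Fr.bet_spec]
  show (g : Equiv.Perm X) ((g' : Equiv.Perm X) (Fr.x j)) = _
  rw [← Fr.bet_spec g' j, g.2, ← Fr.bet_spec g, ← mul_smul, sig_mul]
  simp

theorem card_eq [Finite T] [Finite X] (hf : RFree T X) (Fr : Frame T X) :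
    Nat.card X = Nat.card (RQ T X) * Nat.card T := by
  rw [← Nat.card_prod]
  apply Nat.card_congr
  refine (Equiv.ofBijective (fun q : RQ T X × T => ((1 : T), q.2) • Fr.x q.1) ⟨?_, ?_⟩).symm
  · rintro ⟨j, b⟩ ⟨j', b'⟩ h
    have h' : ((1 : T), b) • Fr.x j = ((1 : T), b') • Fr.x j' := h
    have h1 : j = j' := by
      rw [← Fr.hx j, ← Fr.hx j']
      apply Quotient.sound
      refine ⟨b'⁻¹ * b, ?_⟩
      have : (((1 : T), b'⁻¹ * b) : T × T) = ((1 : T), b'⁻¹) * ((1 : T), b) := by simp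
      rw [this, mul_smul, h', ← mul_smul]
      simp only [Prod.mk_mul_mk, mul_one, inv_mul_cancel]
      exact one_smul (T × T) _
    subst h1
    rw [hf.cancel _ _ _ h']
  · intro y
    exact ⟨(_, Fr.co y), Fr.co_spec y⟩

section transfer

variable {Z : Type*} [CommGroup Z]

/-- a function which is an invariant homomorphism on the normal subgroup `h` -/
structure IsChar (h : Subgroup T) (χ : T → Z) : Prop where
  mul : ∀ a ∈ h, ∀ b ∈ h, χ (a * b) = χ a * χ b
  conj : ∀ s : T, ∀ a ∈ h, χ (s * a * s⁻¹) = χ a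

theorem IsChar.one {h : Subgroup T} {χ : T → Z} (hχ : IsChar h χ) : χ 1 = 1 := by
  have := hχ.mul 1 h.one_mem 1 h.one_mem
  rw [mul_one] at this
  exact (mul_eq_left.1 this.symm)

theorem IsChar.inv {h : Subgroup T} {χ : T → Z} (hχ : IsChar h χ) {a : T} (ha : a ∈ h) :
    χ a⁻¹ = (χ a)⁻¹ := by
  have := hχ.mul a ha a⁻¹ (h.inv_mem ha)
  rw [mul_inv_cancel, hχ.one] at this
  exact (inv_eq_of_mul_eq_one_right this.symm).symm

theorem IsChar.conj' {h : Subgroup T} {χ : T → Z} (hχ : IsChar h χ) (s : T) {a : T} (ha : a ∈ h) :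
    χ (s⁻¹ * a * s) = χ a := by
  have := hχ.conj s⁻¹ a ha
  rwa [inv_inv] at this

theorem telescope {J : Type*} [Fintype J] {h : Subgroup T} [h.Normal] {χ : T → Z}
    (hχ : IsChar h χ) (σ : J → J) (hσ : Function.Bijective σ) (c : J → T)
    (hc : ∀ j, (c j)⁻¹ * c (σ j) ∈ h) : ∏ j, χ ((c j)⁻¹ * c (σ j)) = 1 := by
  set d : J → T := fun j => ((c j : T ⧸ h)).out with hd
  have hdσ : ∀ j, d (σ j) = d j := by
    intro j
    have : ((c (σ j) : T) : T ⧸ h) = (c j : T ⧸ h) := (QuotientGroup.eq.2 (hc j)).symm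
    simp only [hd, this]
  have he : ∀ j, (d j)⁻¹ * c j ∈ h := by
    intro j
    apply QuotientGroup.eq.1
    exact QuotientGroup.out_eq' _
  have h1 : ∀ j, χ ((c j)⁻¹ * c (σ j)) = (χ ((d j)⁻¹ * c j))⁻¹ * χ ((d (σ j))⁻¹ * c (σ j)) := by
    intro j
    rw [← hχ.inv (he j), ← hχ.mul _ (h.inv_mem (he j)) _ (he (σ j)), hdσ]
    congr 1
    group
  rw [Finset.prod_congr rfl (fun j _ => h1 j), Finset.prod_mul_distrib, Finset.prod_inv_distrib,
    hσ.prod_comp (fun j => χ ((d j)⁻¹ * c j)), inv_mul_cancel]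

variable [Fintype (RQ T X)]

/-- the product of the values of the cocycle -/
noncomputable def Frame.w (Fr : Frame T X) (χ : T → Z) (g : comm T X) : Z :=
  ∏ j, χ (Fr.bet g j)

theorem Frame.w_conj (hf : RFree T X) (Fr : Frame T X) {h : Subgroup T} [h.Normal] {χ : T → Z}
    (hχ : IsChar h χ) (a a' γ : comm T X) (ha : ∀ j, Fr.bet a j ∈ h) (ha' : ∀ j, Fr.bet a' j ∈ h)
    (hc : a' * γ = γ * a) : Fr.w χ a' = Fr.w χ a := by
  have h1 : ∀ j, Fr.bet a' (sig γ j) =
      ((Fr.bet γ j)⁻¹ * Fr.bet a j * Fr.bet γ j) * ((Fr.bet γ j)⁻¹ * Fr.bet γ (sig a j)) := by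
    intro j
    have e1 := Fr.bet_mul hf a' γ j
    have e2 := Fr.bet_mul hf γ a j
    rw [hc, e2] at e1
    have : Fr.bet a' (sig γ j) = (Fr.bet γ j)⁻¹ * (Fr.bet a j * Fr.bet γ (sig a j)) := by
      rw [e1]; group
    rw [this]; group
  have h2 : ∀ j, (Fr.bet γ j)⁻¹ * Fr.bet a j * Fr.bet γ j ∈ h := by
    intro j
    have := (inferInstance : h.Normal).conj_mem _ (ha j) (Fr.bet γ j)⁻¹
    rwa [inv_inv] at this
  have h3 : ∀ j, (Fr.bet γ j)⁻¹ * Fr.bet γ (sig a j) ∈ h := by
    intro j
    have := h.mul_mem (h.inv_mem (h2 j)) (ha' (sig γ j))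
    rw [h1 j, inv_mul_cancel_left] at this
    exact this
  unfold Frame.w
  rw [← (sig_bijective γ).prod_comp (fun j => χ (Fr.bet a' j))]
  rw [Finset.prod_congr rfl (fun j _ => by
    rw [h1 j, hχ.mul _ (h2 j) _ (h3 j), hχ.conj' _ (ha j)]), Finset.prod_mul_distrib,
    telescope hχ (sig a) (sig_bijective a) (fun j => Fr.bet γ j) h3, mul_one]

/-- a frame adapted to the normal subgroup `h` -/
def Frame.Good (Fr : Frame T X) (h : Subgroup T) : Prop :=
  ∀ (s : T) (j : RQ T X), s * Fr.bet (lft T X s) j ∈ h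

/-- the refined transfer -/
noncomputable def Frame.del (Fr : Frame T X) (χ : T → Z) (s : T) : Z :=
  ∏ j, χ (s * Fr.bet (lft T X s) j)

theorem Frame.del_mul (hf : RFree T X) (Fr : Frame T X) {h : Subgroup T} [h.Normal] {χ : T → Z}
    (hχ : IsChar h χ) (hg : Fr.Good h) (s s' : T) :
    Fr.del χ (s * s') = Fr.del χ s * Fr.del χ s' := by
  unfold Frame.del
  rw [← (sig_bijective (lft T X s')).prod_comp (fun j => χ (s * Fr.bet (lft T X s) j)),
    ← Finset.prod_mul_distrib]
  apply Finset.prod_congr rfl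
  intro j _
  rw [map_mul, Fr.bet_mul hf, mul_comm (χ _),
    ← hχ.conj s _ (hg s' j), ← hχ.mul _ ((inferInstance : h.Normal).conj_mem _ (hg s' j) s) _
      (hg s _)]
  congr 1
  group

theorem Frame.del_of_mem (Fr : Frame T X) {h : Subgroup T} {χ : T → Z}
    (hχ : IsChar h χ) (hg : Fr.Good h) {t : T} (ht : t ∈ h) :
    Fr.del χ t = χ t ^ Fintype.card (RQ T X) * Fr.w χ (lft T X t) := by
  unfold Frame.del Frame.w
  have h1 : ∀ j, Fr.bet (lft T X t) j ∈ h := by
    intro j
    have := h.mul_mem (h.inv_mem ht) (hg t j)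
    rwa [inv_mul_cancel_left] at this
  rw [Finset.prod_congr rfl (fun j _ => hχ.mul t ht _ (h1 j)), Finset.prod_mul_distrib,
    Finset.prod_const, Finset.card_univ]

omit [Fintype (RQ T X)] in
theorem Frame.bet_mem (Fr : Frame T X) {h : Subgroup T} (hg : Fr.Good h) {t : T} (ht : t ∈ h)
    (j : RQ T X) : Fr.bet (lft T X t) j ∈ h := by
  have := h.mul_mem (h.inv_mem ht) (hg t j)
  rwa [inv_mul_cancel_left] at this

end transfer

/-- the biset structure on a quotient group -/
abbrev quotAct (h : Subgroup T) [h.Normal] : MulAction (T × T) (T ⧸ h) where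
  smul g r := (g.1 : T ⧸ h) * r * (g.2 : T ⧸ h)⁻¹
  one_smul := by
    intro r
    show ((1 : T) : T ⧸ h) * r * ((1 : T) : T ⧸ h)⁻¹ = r
    simp
  mul_smul := by
    intro g g' r
    show ((g.1 * g'.1 : T) : T ⧸ h) * r * ((g.2 * g'.2 : T) : T ⧸ h)⁻¹ =
      (g.1 : T ⧸ h) * ((g'.1 : T ⧸ h) * r * (g'.2 : T ⧸ h)⁻¹) * (g.2 : T ⧸ h)⁻¹
    simp [mul_assoc]

/-- a good frame exists as soon as there is a biset map to `T ⧸ h` -/
theorem exists_good_frame (h : Subgroup T) [h.Normal] (f : X → T ⧸ h)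
    (hfe : ∀ (a b : T) (y : X), f ((a, b) • y) = (a : T ⧸ h) * f y * (b : T ⧸ h)⁻¹) :
    ∃ Fr : Frame T X, Fr.Good h := by
  classical
  obtain ⟨Fr, hFr⟩ : ∃ Fr : Frame T X, ∀ j, f (Fr.x j) = 1 := by
    refine ⟨⟨fun j => ((1 : T), (f j.out).out) • j.out, ?_⟩, ?_⟩
    · intro j
      have : Quotient.mk (rSetoid T X) (((1 : T), (f j.out).out) • j.out) =
          Quotient.mk (rSetoid T X) j.out :=
        Quotient.sound ((rSetoid T X).symm ⟨_, rfl⟩)
      rw [this, Quotient.out_eq]
    · intro j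
      show f (((1 : T), (f j.out).out) • j.out) = 1
      rw [hfe, QuotientGroup.out_eq']
      simp
  refine ⟨Fr, ?_⟩
  intro s j
  have h1 := Fr.bet_spec (lft T X s) j
  rw [lft_apply] at h1
  have h2 := congrArg f h1
  rw [hfe, hfe, hFr, hFr] at h2
  simp only [QuotientGroup.mk_one, one_mul, mul_one, inv_one] at h2
  rw [← QuotientGroup.eq_one_iff, QuotientGroup.mk_mul, ← h2]
  simp

end Cfsg.Agent.Lib.Helper84.BisetTr
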