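import Cfsg.Agent.Lib.Helper85.RedHyp
import Cfsg.Agent.Lib.Helper84.FusionKNorm4
import Cfsg.Agent.Lib.Helper84.FusionAlperin3

set_option autoImplicit false

/-! Definitions for `foc(C_F(T)) ≤ C_S(E)` (helper84, S5293 / S5201). -/

namespace Cfsg.Agent.Lib.Helper84

open Cfsg Cfsg.FusionSystem Cfsg.Agent.Lib.Helper85

variable {Ω : Type*} [Group Ω] {S : Subgroup Ω}

/-- the automorphisms in `F` of `W = P C_S(P)` acting trivially on `W / P` -/
def cenA (F : FusionSystem S) (P : Subgroup Ω) : Subgroup (MulAut ↥(P ⊔ centralizerIn S P)) :=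
  F.autGroup (P ⊔ centralizerIn S P) ⊓ commIn (P ⊔ centralizerIn S P) P

/-- the elements of `Aut_E(P)` that extend to an element of `cenA F P` -/
def cenM {T : Subgroup Ω} (E : FusionSystem T) (F : FusionSystem S) (P : Subgroup Ω) :
    Subgroup (MulAut P) where
  carrier := {φ | φ ∈ E.autGroup P ∧ ∃ β ∈ cenA F P, ∀ x : P,
    β (Subgroup.inclusion le_sup_left x) = Subgroup.inclusion le_sup_left (φ x)}
  one_mem' := ⟨Subgroup.one_mem _, 1, Subgroup.one_mem _, fun _ => rfl⟩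
  mul_mem' := by
    rintro φ φ' ⟨h1, β, hβ, h2⟩ ⟨h1', β', hβ', h2'⟩
    refine ⟨Subgroup.mul_mem _ h1 h1', β * β', Subgroup.mul_mem _ hβ hβ', fun x => ?_⟩
    rw [MulAut.mul_apply, h2', h2, MulAut.mul_apply]
  inv_mem' := by
    rintro φ ⟨h1, β, hβ, h2⟩
    refine ⟨Subgroup.inv_mem _ h1, β⁻¹, Subgroup.inv_mem _ hβ, fun x => ?_⟩
    have := h2 (φ⁻¹ x)
    rw [MulAut.apply_inv_self] at this
    rw [← this, MulAut.inv_apply_self]

theorem mem_cenM {T : Subgroup Ω} {E : FusionSystem T} {F : FusionSystem S} {P : Subgroup Ω}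
    {φ : MulAut P} : φ ∈ cenM E F P ↔ φ ∈ E.autGroup P ∧ ∃ β ∈ cenA F P, ∀ x : P,
    β (Subgroup.inclusion le_sup_left x) = Subgroup.inclusion le_sup_left (φ x) := Iff.rfl

theorem cenM_le {T : Subgroup Ω} (E : FusionSystem T) (F : FusionSystem S) (P : Subgroup Ω) :
    cenM E F P ≤ E.autGroup P := fun _ h => h.1

end Cfsg.Agent.Lib.Helper84
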