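import Cfsg.Agent.Lib.Helper85.SylIn3
import Cfsg.Agent.Lib.Helper20.PResidual

set_option autoImplicit false

/-! Group lemmas on Sylow subgroups and `O^p` (copies of lemmas of helper85's `GrpPP`, which cannot be imported
together with `FusResLimit`; helper84). -/

namespace Cfsg.Agent.Lib.Helper84.CenGrp

open Cfsg Cfsg.Agent.Lib.Helper85

variable {X : Type*} [Group X]

/-- a normal `p`-subgroup lies in every Sylow `p`-subgroup. -/
theorem normal_le [Finite X] {p : ℕ} [hp : Fact p.Prime] {R A N : Subgroup X}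
    (h : SylIn p R A) (hNA : N ≤ A) (hN : IsPGroup p N)
    (hn : ∀ a ∈ A, ∀ n ∈ N, a⁻¹ * n * a ∈ N) : N ≤ R := by
  obtain ⟨g, hg, hgN⟩ := h.exists_conj_le hNA hN
  intro n hn'
  have h1 := hn g hg n hn'
  have h2 : g * (g⁻¹ * n * g) * g⁻¹ ∈ R := hgN ⟨_, h1, rfl⟩
  have e : g * (g⁻¹ * n * g) * g⁻¹ = n := by group
  rwa [e] at h2

/-- `H` is generated by its elements of order prime to `p` and a Sylow `p`-subgroup. -/
theorem le_of_coprime_of_sylow [Finite X] {p : ℕ} [hp : Fact p.Prime] {P H N : Subgroup X}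
    (h : SylIn p P H) (hPN : P ≤ N)
    (hN : ∀ g ∈ H, Nat.Coprime (orderOf g) p → g ∈ N) : H ≤ N := by
  intro g hg
  obtain ⟨R, hR⟩ := h
  have hn : (pResidual p H).Normal := Cfsg.Agent.Lib.Helper20.pResidual_normal p H
  have hq : IsPGroup p (H ⧸ pResidual p H) :=
    Cfsg.Agent.Lib.Helper20.pResidual_quotient_isPGroup p H
  have htop : pResidual p H ⊔ (R : Subgroup H) = ⊤ := by
    rw [← Subgroup.index_eq_one]
    have h1 : (pResidual p H ⊔ (R : Subgroup H)).index ∣ (pResidual p H).index :=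
      Subgroup.index_dvd_of_le le_sup_left
    have h2 : (pResidual p H ⊔ (R : Subgroup H)).index ∣ (R : Subgroup H).index :=
      Subgroup.index_dvd_of_le le_sup_right
    obtain ⟨n, hn'⟩ := IsPGroup.iff_card.mp hq
    rw [Subgroup.index_eq_card (pResidual p H), hn'] at h1
    obtain ⟨j, -, hj⟩ := (Nat.dvd_prime_pow hp.out).mp h1
    rcases Nat.eq_zero_or_pos j with rfl | hjpos
    · simpa using hj
    · exfalso
      apply R.not_dvd_index
      refine dvd_trans ?_ h2
      rw [hj]
      exact dvd_pow_self p hjpos.ne'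
  have hle : pResidual p H ⊔ (R : Subgroup H) ≤ N.subgroupOf H := by
    apply sup_le
    · unfold pResidual
      rw [Subgroup.closure_le]
      intro x hx
      have hx' : Nat.Coprime (orderOf x) p := hx
      rw [← Subgroup.orderOf_coe] at hx'
      exact hN x x.2 hx'
    · rw [hR]
      intro x hx
      exact hPN hx
  have hmem : (⟨g, hg⟩ : H) ∈ pResidual p H ⊔ (R : Subgroup H) := by rw [htop]; trivial
  exact hle hmem

end Cfsg.Agent.Lib.Helper84.CenGrp
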