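import Cfsg.Agent.Lib.Helper84.CenDefs

set_option autoImplicit false

/-! The subgroup `cenM E F P` of `Aut_E(P)` (helper84, S5293). -/

namespace Cfsg.Agent.Lib.Helper84

open Cfsg Cfsg.FusionSystem Cfsg.Agent.Lib.Helper85

variable {Ω : Type*} [Group Ω] {S : Subgroup Ω}

theorem exists_mul_of_mem_sup {P C : Subgroup Ω} (hcomm : ∀ x ∈ P, ∀ c ∈ C, x * c = c * x) {w : Ω}
    (hw : w ∈ P ⊔ C) : ∃ x ∈ P, ∃ c ∈ C, w = x * c := by
  let H : Subgroup Ω :=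
    { carrier := {w | ∃ x ∈ P, ∃ c ∈ C, w = x * c}
      one_mem' := ⟨1, P.one_mem, 1, C.one_mem, by simp⟩
      mul_mem' := by
        rintro _ _ ⟨x, hx, c, hc, rfl⟩ ⟨x', hx', c', hc', rfl⟩
        refine ⟨x * x', P.mul_mem hx hx', c * c', C.mul_mem hc hc', ?_⟩
        calc x * c * (x' * c') = x * (c * x') * c' := by group
          _ = x * (x' * c) * c' := by rw [hcomm x' hx' c hc]
          _ = x * x' * (c * c') := by group
      inv_mem' := by
        rintro _ ⟨x, hx, c, hc, rfl⟩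
        refine ⟨x⁻¹, P.inv_mem hx, c⁻¹, C.inv_mem hc, ?_⟩
        rw [hcomm x⁻¹ (P.inv_mem hx) c⁻¹ (C.inv_mem hc), mul_inv_rev] }
  have : P ⊔ C ≤ H := sup_le (fun x hx => ⟨x, hx, 1, C.one_mem, by simp⟩)
    (fun c hc => ⟨1, P.one_mem, c, hc, by simp⟩)
  exact this hw

theorem comm_centralizerIn {P : Subgroup Ω} : ∀ x ∈ P, ∀ c ∈ centralizerIn S P, x * c = c * x :=
  fun x hx _ hc => Subgroup.mem_centralizer_iff.1 hc.2 x hx

/-- `W ∩ T = P` -/
theorem mem_of_mem_sup_of_mem {T P : Subgroup Ω} (hPT : P ≤ T)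
    (hcen : centralizerIn T P ≤ P) {w : Ω} (hw : w ∈ P ⊔ centralizerIn S P) (hwT : w ∈ T) :
    w ∈ P := by
  obtain ⟨x, hx, c, hc, rfl⟩ := exists_mul_of_mem_sup comm_centralizerIn hw
  have hcT : c ∈ T := by
    have e : c = x⁻¹ * (x * c) := by group
    rw [e]
    exact T.mul_mem (T.inv_mem (hPT hx)) hwT
  exact P.mul_mem hx (hcen ⟨hcT, hc.2⟩)

/-- [M1] -/
theorem autGroup_le_stabIn {F : FusionSystem S} {T : Subgroup Ω} (hT : F.StronglyClosed T)
    {P : Subgroup Ω} (hPT : P ≤ T) (hcen : centralizerIn T P ≤ P) :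
    F.autGroup (P ⊔ centralizerIn S P) ≤ stabIn (P ⊔ centralizerIn S P) P := by
  intro β hβ x
  have hWS : P ⊔ centralizerIn S P ≤ S := sup_le (hPT.trans hT.1) (centralizerIn_le _ _)
  have hβF := (mem_autGroup_iff F hWS β).1 hβ
  have h1 := sc_mem_iff hT hβF x
  constructor
  · intro hx
    exact mem_of_mem_sup_of_mem hPT hcen (β x).2 (h1.2 (hPT hx))
  · intro hx
    exact mem_of_mem_sup_of_mem hPT hcen x.2 (h1.1 (hPT hx))

theorem conj_commIn_of_stab {W P : Subgroup Ω} {a n : MulAut W} (ha : a ∈ stabIn W P)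
    (hn : n ∈ commIn W P) : a * n * a⁻¹ ∈ commIn W P := by
  intro x
  have h1 := hn (a⁻¹ x)
  have h2 : (((a⁻¹ x)⁻¹ * n (a⁻¹ x) : W) : Ω) ∈ P := h1
  have h3 := (ha _).1 h2
  rw [map_mul, map_inv, MulAut.apply_inv_self] at h3
  exact h3

theorem exists_ext_sup_centralizer [Finite S] {F : FusionSystem S} {P : Subgroup Ω}
    (hrec : F.IsReceptive P) {θ : MulAut P} (hθ : θ ∈ F.autGroup P) :
    ∃ θ' ∈ F.autGroup (P ⊔ centralizerIn S P), ∀ x : P,
      θ' (Subgroup.inclusion le_sup_left x) = Subgroup.inclusion le_sup_left (θ x) := by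
  have hPS : P ≤ S := hrec.1
  have hWS : P ⊔ centralizerIn S P ≤ S := sup_le hPS (centralizerIn_le _ _)
  have hθF := (mem_autGroup_iff F hPS θ).1 hθ
  obtain ⟨ψ, hψ, hag⟩ := hrec.2 P _ hθF (range_subtype_comp_equiv θ)
  have hPN : P ≤ extender S P (P.subtype.comp θ.toMonoidHom) :=
    le_extender hPS _ (fun x => hPS (θ x).2)
  have hWN : P ⊔ centralizerIn S P ≤ extender S P (P.subtype.comp θ.toMonoidHom) :=
    sup_le hPN (centralizerIn_le_extender _)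
  have hmap := map_eq_of_agree θ ψ hPN hag
  obtain ⟨ψW, hψWdef⟩ : ∃ ψW : ↥(P ⊔ centralizerIn S P) →* Ω,
      ψW = ψ.comp (Subgroup.inclusion hWN) := ⟨_, rfl⟩
  have hψW : ψW ∈ F.Hom (P ⊔ centralizerIn S P) := by
    rw [hψWdef]; exact Cfsg.Agent.Lib.Helper84.restrict_mem F hψ hWN
  have hψWP : ∀ x : P, ψW (Subgroup.inclusion le_sup_left x) = θ x := by
    intro x
    rw [hψWdef]
    exact hag x x.2 _
  have hmaps : ∀ w, ψW w ∈ P ⊔ centralizerIn S P := by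
    apply map_sup_mem
    · intro x
      rw [hψWP]
      exact (θ x).2
    · intro c
      rw [hψWdef]
      exact map_mem_centralizerIn F hψ hmap _ c.2.2
  have hfinW : Finite ↥(P ⊔ centralizerIn S P) := finite_of_le hWS
  have hr : ψW.range = P ⊔ centralizerIn S P := by
    apply Subgroup.eq_of_le_of_card_ge
    · rintro _ ⟨x, rfl⟩
      exact hmaps x
    · exact (Nat.card_congr (MonoidHom.ofInjective (F.injective_of_mem hψW)).toEquiv).le
  refine ⟨equivOfRange ψW (F.injective_of_mem hψW) hr, ?_, fun x => Subtype.ext (hψWP x)⟩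
  rw [mem_autGroup_iff F hWS]
  exact mor_equivOfRange F hψW hr

/-- [M2] -/
theorem cenM_normal [Finite S] {F : FusionSystem S} {T : Subgroup Ω} (hT : F.StronglyClosed T)
    (E : FusionSystem T) (hEF : E.IsSubsystemOf F) {P : Subgroup Ω} (hPT : P ≤ T)
    (hrec : F.IsReceptive P) (hcen : centralizerIn T P ≤ P) :
    ∀ θ ∈ E.autGroup P, ∀ φ ∈ cenM E F P, θ * φ * θ⁻¹ ∈ cenM E F P := by
  rintro θ hθ φ ⟨hφ, β, hβ, hβφ⟩
  obtain ⟨θ', hθ', hθ'θ⟩ := exists_ext_sup_centralizer hrec (autGroup_le_of_subsystem hEF hPT hθ)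
  refine ⟨Subgroup.mul_mem _ (Subgroup.mul_mem _ hθ hφ) (Subgroup.inv_mem _ hθ), θ' * β * θ'⁻¹,
    ⟨Subgroup.mul_mem _ (Subgroup.mul_mem _ hθ' hβ.1) (Subgroup.inv_mem _ hθ'),
      conj_commIn_of_stab (autGroup_le_stabIn hT hPT hcen hθ') hβ.2⟩, fun x => ?_⟩
  have h1 : θ'⁻¹ (Subgroup.inclusion le_sup_left x) = Subgroup.inclusion le_sup_left (θ⁻¹ x) := by
    have := hθ'θ (θ⁻¹ x)
    rw [MulAut.apply_inv_self] at this
    rw [← this, MulAut.inv_apply_self]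
  rw [MulAut.mul_apply, MulAut.mul_apply, h1, hβφ, hθ'θ]
  rfl

theorem conj_mem_centralizerIn {P : Subgroup Ω} {g : Ω} (hgS : g ∈ S)
    (hgN : g ∈ Subgroup.normalizer (P : Set Ω)) {c : Ω} (hc : c ∈ centralizerIn S P) :
    g * c * g⁻¹ ∈ centralizerIn S P := by
  refine ⟨S.mul_mem (S.mul_mem hgS hc.1) (S.inv_mem hgS), Subgroup.mem_centralizer_iff.2 ?_⟩
  intro y hy
  have h1 := Subgroup.mem_centralizer_iff.1 hc.2 _ (inv_conj_mem_of_mem_normalizer hgN hy)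
  calc y * (g * c * g⁻¹) = g * ((g⁻¹ * y * g) * c) * g⁻¹ := by group
    _ = g * (c * (g⁻¹ * y * g)) * g⁻¹ := by rw [h1]
    _ = g * c * g⁻¹ * y := by group

theorem conj_mem_sup_centralizerIn {P : Subgroup Ω} {g : Ω} (hgS : g ∈ S)
    (hgN : g ∈ Subgroup.normalizer (P : Set Ω)) {w : Ω} (hw : w ∈ P ⊔ centralizerIn S P) :
    g * w * g⁻¹ ∈ P ⊔ centralizerIn S P := by
  obtain ⟨x, hx, c, hc, rfl⟩ := exists_mul_of_mem_sup comm_centralizerIn hw
  have e : g * (x * c) * g⁻¹ = (g * x * g⁻¹) * (g * c * g⁻¹) := by group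
  rw [e]
  exact Subgroup.mul_mem _ ((le_sup_left : P ≤ _) (conj_mem_of_mem_normalizer hgN hx))
    ((le_sup_right : centralizerIn S P ≤ _) (conj_mem_centralizerIn hgS hgN hc))

/-- [M3] -/
theorem autInducedBy_le_cenM {F : FusionSystem S} {T : Subgroup Ω} (hT : F.StronglyClosed T)
    (E : FusionSystem T) {P : Subgroup Ω} (hPT : P ≤ T) (hcen : centralizerIn T P ≤ P) :
    autInducedBy T P ≤ cenM E F P := by
  intro α hα
  have hWS : P ⊔ centralizerIn S P ≤ S := sup_le (hPT.trans hT.1) (centralizerIn_le _ _)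
  obtain ⟨g, hg, hg'⟩ := (Cfsg.Agent.Lib.Helper84.mem_autInducedBy_iff T P α).1 hα
  have hgS : g ∈ S := hT.1 hg
  have hgN : g ∈ Subgroup.normalizer (P : Set Ω) := mem_normalizer_of_induces hg'
  have hgW : g ∈ Subgroup.normalizer ((P ⊔ centralizerIn S P : Subgroup Ω) : Set Ω) := by
    apply mem_normalizer_of_conj_mem
    · intro w hw
      exact conj_mem_sup_centralizerIn hgS hgN hw
    · intro w hw
      have := conj_mem_sup_centralizerIn (S.inv_mem hgS) (Subgroup.inv_mem _ hgN) hw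
      rwa [inv_inv] at this
  refine ⟨autInducedBy_le_autGroup E hPT hα, conjAut _ g hgW,
    ⟨autInducedBy_le_autGroup F hWS (conjAut_mem_autInducedBy hgW hgS), fun w => ?_⟩,
    fun x => Subtype.ext (hg' x).symm⟩
  apply mem_of_mem_sup_of_mem hPT hcen
  · exact Subgroup.mul_mem _ (Subgroup.inv_mem _ w.2) (conjAut _ g hgW w).2
  · rw [conjAut_apply]
    have h1 := Helper87.sc_conj_mem hT (S.inv_mem (hWS w.2)) hg
    rw [inv_inv] at h1
    have e : (w : Ω)⁻¹ * (g * (w : Ω) * g⁻¹) = ((w : Ω)⁻¹ * g * (w : Ω)) * g⁻¹ := by group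
    rw [e]
    exact T.mul_mem h1 (T.inv_mem hg)

/-- [MT] -/
theorem autGroup_le_cenM_top {F : FusionSystem S} {T : Subgroup Ω} (E : FusionSystem T) {p : ℕ}
    (hE : E.IsNormalIn F p) : E.autGroup T ≤ cenM E F T := by
  intro α hα
  have hT : F.StronglyClosed T := hE.1.2.2.2.1
  obtain ⟨β, hβ, h1, h2⟩ := hE.2 α hα
  refine ⟨hα, β, ⟨hβ, fun w => ?_⟩, fun x => Subtype.ext (h1 x)⟩
  obtain ⟨x, hx, c, hc, hw⟩ := exists_mul_of_mem_sup comm_centralizerIn w.2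
  have hw' : w = Subgroup.inclusion le_sup_left (⟨x, hx⟩ : T) *
      Subgroup.inclusion le_sup_right (⟨c, hc⟩ : centralizerIn S T) := Subtype.ext hw
  have h3 := h2 (Subgroup.inclusion le_sup_right (⟨c, hc⟩ : centralizerIn S T)) hc
  have h4 := h1 ⟨x, hx⟩
  rw [hw', map_mul]
  set bc := ((β (Subgroup.inclusion le_sup_right (⟨c, hc⟩ : centralizerIn S T)) :
    ↥(T ⊔ centralizerIn S T)) : Ω) with hbc
  show (x * c)⁻¹ * (((β (Subgroup.inclusion le_sup_left (⟨x, hx⟩ : T)) :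
    ↥(T ⊔ centralizerIn S T)) : Ω) * bc) ∈ T
  rw [h4]
  have h5 : c⁻¹ * (x⁻¹ * ((α ⟨x, hx⟩ : T) : Ω)) * (c⁻¹)⁻¹ ∈ T :=
    Helper87.sc_conj_mem hT (S.inv_mem hc.1) (T.mul_mem (T.inv_mem hx) (α ⟨x, hx⟩).2)
  have e : (x * c)⁻¹ * (((α ⟨x, hx⟩ : T) : Ω) * bc) =
      (c⁻¹ * (x⁻¹ * ((α ⟨x, hx⟩ : T) : Ω)) * (c⁻¹)⁻¹) * (c⁻¹ * bc) := by group
  rw [e]
  exact T.mul_mem h5 h3.1

end Cfsg.Agent.Lib.Helper84
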