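import Cfsg.Agent.Lib.Helper84.CenDefs
import Cfsg.Agent.Lib.Helper84.FusionKSystem

set_option autoImplicit false

/-! Transport of the focal subgroup of a centralizer system (helper84, S5293). -/

namespace Cfsg.Agent.Lib.Helper84

open Cfsg Cfsg.FusionSystem Cfsg.Agent.Lib.Helper85

variable {Ω : Type*} [Group Ω] {S : Subgroup Ω}

theorem forall_mem_of_sup {P Q H : Subgroup Ω} (ψ : ↥(P ⊔ Q) →* Ω)
    (hP : ∀ x : P, ψ (Subgroup.inclusion le_sup_left x) ∈ H)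
    (hQ : ∀ x : Q, ψ (Subgroup.inclusion le_sup_right x) ∈ H) (v : ↥(P ⊔ Q)) : ψ v ∈ H := by
  have := eq_top_of_sup (H.comap ψ) hP hQ
  have hv : v ∈ H.comap ψ := by rw [this]; trivial
  exact hv

/-- a map of `C_F(T)` transported along `ψ` is a map of `C_F(ψ(P))`, `P ≤ T` -/
theorem exists_transport {F : FusionSystem S} {T P P' N : Subgroup Ω} (hPT : P ≤ T)
    (hPN : P ≤ N) (hCN : centralizerIn S T ≤ N) {ψ : N →* Ω} (hψ : ψ ∈ F.Hom N)
    (hmap : (P.subgroupOf N).map ψ = P') {R : Subgroup Ω} {γ : R →* Ω}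
    (hγ : γ ∈ F.centralizerHom T R) :
    ∃ (R' : Subgroup Ω) (γ' : R' →* Ω), γ' ∈ F.centralizerHom P' R' ∧
      ∀ (x : R) (h1 : (x : Ω) ∈ N) (h2 : γ x ∈ N), ∃ h3 : ψ ⟨x, h1⟩ ∈ R',
        γ' ⟨ψ ⟨x, h1⟩, h3⟩ = ψ ⟨γ x, h2⟩ := by
  obtain ⟨hγF, hRC, hγC, γ₁, hγ₁, hγ₁R, hγ₁T⟩ := hγ
  have hRN : R ≤ N := hRC.trans hCN
  have hcenP : ∀ c ∈ centralizerIn S T, c ∈ Subgroup.centralizer (P : Set Ω) :=
    fun c hc => Subgroup.centralizer_le (by exact_mod_cast hPT) hc.2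
  -- the isomorphism on `R`
  have hψR : ψ.comp (Subgroup.inclusion hRN) ∈ F.Hom R := restrict_mem F hψ hRN
  obtain ⟨eR, heR⟩ : ∃ eR : R ≃* (ψ.comp (Subgroup.inclusion hRN)).range,
      eR = equivOfRange _ (F.injective_of_mem hψR) rfl := ⟨_, rfl⟩
  have heRF : Mor F eR.toMonoidHom := by rw [heR]; exact mor_equivOfRange F hψR rfl
  have heR' : ∀ x : R, ((eR x : (ψ.comp (Subgroup.inclusion hRN)).range) : Ω) =
      ψ (Subgroup.inclusion hRN x) := by intro x; rw [heR]; rfl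
  -- the isomorphism on `V = R ⊔ P`
  have hVN : R ⊔ P ≤ N := sup_le hRN hPN
  have hψV : ψ.comp (Subgroup.inclusion hVN) ∈ F.Hom (R ⊔ P) := restrict_mem F hψ hVN
  obtain ⟨eV, heV⟩ : ∃ eV : ↥(R ⊔ P) ≃* (ψ.comp (Subgroup.inclusion hVN)).range,
      eV = equivOfRange _ (F.injective_of_mem hψV) rfl := ⟨_, rfl⟩
  have heVF : Mor F eV.toMonoidHom := by rw [heV]; exact mor_equivOfRange F hψV rfl
  have heV' : ∀ x : ↥(R ⊔ P), ((eV x : (ψ.comp (Subgroup.inclusion hVN)).range) : Ω) =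
      ψ (Subgroup.inclusion hVN x) := by intro x; rw [heV]; rfl
  -- `ψ ∘ γ`
  have hγN : ∀ x : R, γ x ∈ N := fun x => hCN (hγC x)
  have hψγ : ψ.comp (γ.codRestrict N hγN) ∈ F.Hom R := F.comp_mem hγF hψ hγN
  -- `ψ ∘ γ₁` on `V`
  have hVle : R ⊔ P ≤ R ⊔ T := sup_le_sup_left hPT R
  have hγV : γ₁.comp (Subgroup.inclusion hVle) ∈ F.Hom (R ⊔ P) := restrict_mem F hγ₁ hVle
  have hγVR : ∀ x : R, (γ₁.comp (Subgroup.inclusion hVle)) (Subgroup.inclusion le_sup_left x) =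
      γ x := fun x => hγ₁R x
  have hγVP : ∀ x : P, (γ₁.comp (Subgroup.inclusion hVle)) (Subgroup.inclusion le_sup_right x) =
      x := fun x => hγ₁T ⟨x, hPT x.2⟩
  have hγVN : ∀ v, (γ₁.comp (Subgroup.inclusion hVle)) v ∈ N :=
    forall_mem_of_sup _ (fun x => by rw [hγVR]; exact hγN x) (fun x => by rw [hγVP]; exact hPN x.2)
  have hψγV : ψ.comp ((γ₁.comp (Subgroup.inclusion hVle)).codRestrict N hγVN) ∈ F.Hom (R ⊔ P) :=
    F.comp_mem hγV hψ hγVN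
  have hle : (ψ.comp (Subgroup.inclusion hRN)).range ⊔ P' ≤
      (ψ.comp (Subgroup.inclusion hVN)).range := by
    apply sup_le
    · rintro _ ⟨x, rfl⟩
      exact ⟨Subgroup.inclusion le_sup_left x, rfl⟩
    · rw [← hmap]
      rintro _ ⟨x, hx, rfl⟩
      exact ⟨Subgroup.inclusion le_sup_right ⟨x, hx⟩, rfl⟩
  refine ⟨(ψ.comp (Subgroup.inclusion hRN)).range,
    (ψ.comp (γ.codRestrict N hγN)).comp eR.symm.toMonoidHom,
    ⟨Mor.comp_hom hψγ heRF.symm, ?_, ?_,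
      ((ψ.comp ((γ₁.comp (Subgroup.inclusion hVle)).codRestrict N hγVN)).comp
        eV.symm.toMonoidHom).comp (Subgroup.inclusion hle),
      restrict_mem F (Mor.comp_hom hψγV heVF.symm) hle, ?_, ?_⟩, ?_⟩
  · rintro _ ⟨x, rfl⟩
    exact map_mem_centralizerIn F hψ hmap _ (hcenP _ (hRC x.2))
  · intro y
    exact map_mem_centralizerIn F hψ hmap _ (hcenP _ (hγC _))
  · intro y
    obtain ⟨x, rfl⟩ := eR.surjective y
    have e1 : Subgroup.inclusion hle (Subgroup.inclusion le_sup_left (eR x)) =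
        eV (Subgroup.inclusion le_sup_left x) := by
      apply Subtype.ext
      rw [heV']
      exact heR' x
    show ψ (((γ₁.comp (Subgroup.inclusion hVle)).codRestrict N hγVN)
      (eV.symm (Subgroup.inclusion hle (Subgroup.inclusion le_sup_left (eR x))))) =
      ψ ((γ.codRestrict N hγN) (eR.symm (eR x)))
    rw [e1, MulEquiv.symm_apply_apply, MulEquiv.symm_apply_apply]
    congr 1
    exact Subtype.ext (hγVR x)
  · intro y
    obtain ⟨x, hx, hxy⟩ := hmap.ge y.2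
    have e1 : Subgroup.inclusion hle (Subgroup.inclusion le_sup_right y) =
        eV (Subgroup.inclusion le_sup_right ⟨x, hx⟩) := by
      apply Subtype.ext
      rw [heV']
      exact hxy.symm
    show ψ (((γ₁.comp (Subgroup.inclusion hVle)).codRestrict N hγVN)
      (eV.symm (Subgroup.inclusion hle (Subgroup.inclusion le_sup_right y)))) = y
    rw [e1, MulEquiv.symm_apply_apply, ← hxy]
    congr 1
    exact Subtype.ext (hγVP ⟨x, hx⟩)
  · intro x h1 h2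
    refine ⟨⟨x, rfl⟩, ?_⟩
    have e1 : (⟨ψ ⟨x, h1⟩, ⟨x, rfl⟩⟩ : (ψ.comp (Subgroup.inclusion hRN)).range) = eR x :=
      Subtype.ext (heR' x).symm
    show ψ ((γ.codRestrict N hγN) (eR.symm _)) = _
    rw [e1, MulEquiv.symm_apply_apply]
    rfl

/-- [T] -/
theorem map_focal_mem {F : FusionSystem S} {T P P' N : Subgroup Ω} (hPT : P ≤ T)
    (hPN : P ≤ N) (hCN : centralizerIn S T ≤ N) {ψ : N →* Ω} (hψ : ψ ∈ F.Hom N)
    (hmap : (P.subgroupOf N).map ψ = P')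
    (D : FusionSystem (centralizerIn S T)) (hD : F.IsCentralizerSystem T D)
    (D' : FusionSystem (centralizerIn S P')) (hD' : F.IsCentralizerSystem P' D') :
    ∀ (y : Ω) (_ : y ∈ D.focalSubgroup) (hN : y ∈ N), ψ ⟨y, hN⟩ ∈ D'.focalSubgroup := by
  have key : D.focalSubgroup ≤ (D'.focalSubgroup.comap ψ).map N.subtype := by
    conv_lhs => unfold focalSubgroup
    rw [Subgroup.closure_le]
    rintro _ ⟨R, γ, x, hγ, rfl⟩
    have h1 : (x : Ω) ∈ N := hCN ((D.le_of_mem hγ).1 x.2)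
    have h2 : γ x ∈ N := hCN ((D.le_of_mem hγ).2 x)
    rw [hD R] at hγ
    obtain ⟨R', γ', hγ', h⟩ := exists_transport hPT hPN hCN hψ hmap hγ
    obtain ⟨h3, h4⟩ := h x h1 h2
    refine ⟨(⟨x, h1⟩ : N)⁻¹ * ⟨γ x, h2⟩, ?_, rfl⟩
    show ψ _ ∈ D'.focalSubgroup
    rw [map_mul, map_inv, ← h4]
    rw [← hD' R'] at hγ'
    exact Subgroup.subset_closure ⟨R', γ', ⟨ψ ⟨x, h1⟩, h3⟩, hγ', rfl⟩
  intro y hy hN
  obtain ⟨z, hz, hzy⟩ := key hy
  have : z = ⟨y, hN⟩ := Subtype.ext hzy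
  rw [← this]
  exact hz

end Cfsg.Agent.Lib.Helper84
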