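import Cfsg.Agent.Lib.Helper84.FusionConseq
import Cfsg.Agent.Lib.Helper34.PResidual

set_option autoImplicit false

/-! The focal subgroup is the product of the hyperfocal subgroup and `[S,S]` (helper84). -/

namespace Cfsg.Agent.Lib.Helper84

open Cfsg Cfsg.FusionSystem

variable {Ω : Type*} [Group Ω] {S : Subgroup Ω}

/-- The maps `φ` of `F` with `x⁻¹ φ(x) ∈ N` for all `x`, where `N ≥ [S,S]`. -/
def focSystem (F : FusionSystem S) (N : Subgroup Ω) (hN : ⁅S, S⁆ ≤ N) : FusionSystem S where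
  Hom P := {φ | φ ∈ F.Hom P ∧ ∀ x : P, (x : Ω)⁻¹ * φ x ∈ N}
  le_of_mem h := F.le_of_mem h.1
  injective_of_mem h := F.injective_of_mem h.1
  conj_mem := by
    intro P g hP hg
    refine ⟨F.conj_mem hP hg, fun x => hN ?_⟩
    have := Subgroup.commutator_mem_commutator (S.inv_mem (hP x.2)) hg
    rw [commutatorElement_def] at this
    simpa [conjHom_apply, mul_assoc] using this
  comp_mem := by
    rintro P Q φ ψ ⟨hφ, hφ'⟩ ⟨hψ, hψ'⟩ h
    refine ⟨F.comp_mem hφ hψ h, fun x => ?_⟩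
    have := N.mul_mem (hφ' x) (hψ' (φ.codRestrict Q h x))
    simpa [mul_assoc] using this
  inv_mem := by
    rintro P φ ⟨hφ, hφ'⟩
    obtain ⟨ψ, hψ, hψ'⟩ := F.inv_mem hφ
    refine ⟨ψ, ⟨hψ, ?_⟩, hψ'⟩
    rintro ⟨_, x, rfl⟩
    rw [hψ']
    have := N.inv_mem (hφ' x)
    simpa using this

theorem focal_eq [Finite S] {p : ℕ} [Fact p.Prime] (hS : IsPGroup p S) (F : FusionSystem S)
    (hF : F.IsSaturated p) :
    F.focalSubgroup = F.hyperfocalSubgroup p ⊔ ⁅(S : Subgroup Ω), (S : Subgroup Ω)⁆ := by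
  apply le_antisymm
  · have hle : F ≤ focSystem F (F.hyperfocalSubgroup p ⊔ ⁅S, S⁆) le_sup_right := by
      apply alperin hS F hF
      intro P hP
      have hPn : F.IsFullyNormalized P := by
        rcases hP with rfl | hP
        · exact fullyNormalized_self F
        · exact hP.2.1
      have hPS : P ≤ S := hPn.1
      obtain ⟨-, R, hR⟩ := (sat_fullyNormalized hS hF hPn).2.1
      have hfin : Finite (F.autGroup P) := finite_autGroup F hPS
      intro α hα
      rw [mem_autGroup_iff _ hPS]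
      refine ⟨(mem_autGroup_iff F hPS α).1 hα, fun x => ?_⟩
      obtain ⟨τ, hτ, β, hβ, hαeq⟩ := Cfsg.Agent.Lib.Helper34.exists_mul_pResidual
        (R : Subgroup (F.autGroup P)) R.not_dvd_index ⟨α, hα⟩
      rw [hR, Subgroup.mem_subgroupOf] at hτ
      obtain ⟨g, hg, hg'⟩ := (mem_autInducedBy_iff S P _).1 hτ
      have hαx : ((α x : P) : Ω) = g * (((β : MulAut P) x : P) : Ω) * g⁻¹ := by
        have h1 : α = (τ : MulAut P) * (β : MulAut P) := congrArg Subtype.val hαeq
        rw [h1, MulAut.mul_apply, hg']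
      show (x : Ω)⁻¹ * ((α x : P) : Ω) ∈ _
      have h2 : (x : Ω)⁻¹ * (((β : MulAut P) x : P) : Ω) ∈ F.hyperfocalSubgroup p :=
        Subgroup.subset_closure ⟨P, β, x, hPS, hβ, rfl⟩
      have h3 : ((((β : MulAut P) x : P) : Ω))⁻¹ * (g * (((β : MulAut P) x : P) : Ω) * g⁻¹) ∈
          ⁅S, S⁆ := by
        have := Subgroup.commutator_mem_commutator
          (S.inv_mem (hPS ((β : MulAut P) x).2)) hg
        rw [commutatorElement_def] at this
        simpa [mul_assoc] using this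
      have h4 := Subgroup.mul_mem _
        ((le_sup_left : _ ≤ F.hyperfocalSubgroup p ⊔ ⁅S, S⁆) h2)
        ((le_sup_right : _ ≤ F.hyperfocalSubgroup p ⊔ ⁅S, S⁆) h3)
      rw [hαx]
      simpa [mul_assoc] using h4
    unfold FusionSystem.focalSubgroup
    rw [Subgroup.closure_le]
    rintro _ ⟨P, φ, x, hφ, rfl⟩
    exact (hle P hφ).2 x
  · apply sup_le
    · unfold FusionSystem.hyperfocalSubgroup
      rw [Subgroup.closure_le]
      rintro _ ⟨P, α, x, hPS, -, rfl⟩
      exact Subgroup.subset_closure ⟨P, _, x, (mem_autGroup_iff F hPS α).1 α.2, rfl⟩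
    · rw [Subgroup.commutator_le]
      intro a ha b hb
      apply Subgroup.subset_closure
      refine ⟨S, conjHom S b, ⟨a⁻¹, S.inv_mem ha⟩, F.conj_mem le_rfl hb, ?_⟩
      rw [commutatorElement_def, conjHom_apply]
      simp [mul_assoc]

end Cfsg.Agent.Lib.Helper84
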