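import Cfsg.Agent.Lib.Helper84.FusionPIdx3
import Cfsg.Agent.Lib.Helper84.FusionFocal
import Cfsg.Agent.Lib.Helper84.FusionHyperfocal
import Cfsg.Agent.Lib.Helper1.Frattini
import Cfsg.Agent.Lib.Helper64.Sylow

set_option autoImplicit false

/-! Existence of saturated subsystems of `p`-power index (helper84). -/

namespace Cfsg.Agent.Lib.Helper84.PIdx

open Cfsg Cfsg.FusionSystem Cfsg.Agent.Lib.Helper84

universe u

/-- the index `p` step -/
theorem exists_step {Ω : Type u} [Group Ω] {S : Subgroup Ω} [Finite S] {p : ℕ} [Fact p.Prime]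
    (hS : IsPGroup p S) (F : FusionSystem S) (hF : F.IsSaturated p) (T : Subgroup Ω) (hTS : T ≤ S)
    (hn : (T.subgroupOf S).Normal) (hidx : (T.subgroupOf S).index = p)
    (hyp : F.hyperfocalSubgroup p ≤ T) :
    ∃ E : FusionSystem T, E.IsSaturated p ∧ E.HasPPowerIndexIn F p := by
  have hcard : Nat.card (S ⧸ T.subgroupOf S) = p := by
    rw [← Subgroup.index_eq_card]; exact hidx
  haveI : IsCyclic (S ⧸ T.subgroupOf S) := isCyclic_of_prime_card hcard
  letI : CommGroup (S ⧸ T.subgroupOf S) := IsCyclic.commGroup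
  have hker : ∀ s : S, QuotientGroup.mk' (T.subgroupOf S) s = 1 ↔ (s : Ω) ∈ T := by
    intro s
    exact QuotientGroup.eq_one_iff s
  have hcomm : ⁅(S : Subgroup Ω), (S : Subgroup Ω)⁆ ≤ T := by
    rw [Subgroup.commutator_le]
    intro a ha b hb
    have h1 : QuotientGroup.mk' (T.subgroupOf S)
        ((⟨a, ha⟩ : S) * (⟨b, hb⟩ : S) * (⟨a, ha⟩ : S)⁻¹ * (⟨b, hb⟩ : S)⁻¹) = 1 := by
      rw [map_mul, map_mul, map_mul, map_inv, map_inv]
      rw [mul_comm (QuotientGroup.mk' (T.subgroupOf S) ⟨a, ha⟩)]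
      simp
    exact (hker _).1 h1
  have hfoc : F.focalSubgroup ≤ T := by
    rw [focal_eq hS F hF]
    exact sup_le hyp hcomm
  obtain ⟨G, _, ι, D, h⟩ := isDeg_of_char hS F hF hcard (QuotientGroup.mk' (T.subgroupOf S))
    (QuotientGroup.mk'_surjective _) T hTS hker (by
      intro P φ hφ x
      symm
      apply QuotientGroup.eq.2
      show (x : Ω)⁻¹ * φ x ∈ T
      exact hfoc (Subgroup.subset_closure ⟨P, φ, x, hφ, rfl⟩))
  exact ⟨degSystem h, degSystem_saturated hS hF h, degSystem_index h hyp⟩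

variable {Ω : Type u} [Group Ω]

theorem hasPPowerIndexIn_refl {S : Subgroup Ω} (F : FusionSystem S) (p : ℕ) :
    F.HasPPowerIndexIn F p :=
  ⟨fun _ _ h => h, hyperfocal_le F p, fun _ _ => Subgroup.map_subtype_le _⟩

theorem hasPPowerIndexIn_trans {S T₁ T : Subgroup Ω} {p : ℕ} {F : FusionSystem S}
    {E₁ : FusionSystem T₁} {E : FusionSystem T} (h1 : E₁.HasPPowerIndexIn F p)
    (h2 : E.HasPPowerIndexIn E₁ p) (hT : F.hyperfocalSubgroup p ≤ T) (hTT₁ : T ≤ T₁) :
    E.HasPPowerIndexIn F p := by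
  refine ⟨fun P φ hφ => h1.1 P (h2.1 P hφ), hT, fun P hP => ?_⟩
  rw [Subgroup.map_le_iff_le_comap]
  unfold pResidual
  rw [Subgroup.closure_le]
  intro α hα
  show (α : MulAut P) ∈ E.autGroup P
  have hα' : Nat.Coprime (orderOf α) p := hα
  have h3 : (α : MulAut P) ∈ E₁.autGroup P :=
    h1.2.2 P (hP.trans hTT₁) ⟨α, Subgroup.subset_closure hα, rfl⟩
  apply h2.2.2 P hP
  refine ⟨⟨α, h3⟩, Subgroup.subset_closure ?_, rfl⟩
  show Nat.Coprime (orderOf (⟨α, h3⟩ : E₁.autGroup P)) p
  rw [← Subgroup.orderOf_coe] at hα' ⊢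
  exact hα'

theorem exists_pidx_aux {p : ℕ} [Fact p.Prime] : ∀ (n : ℕ) (S : Subgroup Ω) [Finite S],
    Nat.card S ≤ n → IsPGroup p S → ∀ F : FusionSystem S, F.IsSaturated p → ∀ T : Subgroup Ω,
    T ≤ S → F.hyperfocalSubgroup p ≤ T →
    ∃ E : FusionSystem T, E.IsSaturated p ∧ E.HasPPowerIndexIn F p := by
  intro n
  induction n with
  | zero =>
    intro S _ hc
    exact absurd hc (by have : 0 < Nat.card S := Nat.card_pos; omega)
  | succ n ih =>
    intro S _ hc hS F hF T hTS hT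
    by_cases hTeq : T = S
    · subst hTeq
      exact ⟨F, hF, hasPPowerIndexIn_refl F p⟩
    · have hne : T.subgroupOf S ≠ ⊤ := by
        intro h
        rw [Subgroup.subgroupOf_eq_top] at h
        exact hTeq (le_antisymm hTS h)
      obtain ⟨M, hM, hTM⟩ := Cfsg.Agent.Lib.Helper64.exists_isCoatom_ge _ hne
      have hMn := Cfsg.Agent.Lib.Helper1.IsPGroup.normal_of_isCoatom hS hM
      have hMi := Cfsg.Agent.Lib.Helper1.IsPGroup.index_of_isCoatom hS hM
      have hT₁S : M.map S.subtype ≤ S := Subgroup.map_subtype_le _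
      have hM' : (M.map S.subtype).subgroupOf S = M := by
        rw [Subgroup.subgroupOf, Subgroup.comap_map_eq_self_of_injective S.subtype_injective]
      have hTT₁ : T ≤ M.map S.subtype := by
        intro t ht
        exact ⟨⟨t, hTS ht⟩, hTM ht, rfl⟩
      obtain ⟨E₁, hE₁, hE₁F⟩ := exists_step hS F hF (M.map S.subtype) hT₁S (by rw [hM']; exact hMn)
        (by rw [hM']; exact hMi) (hT.trans hTT₁)
      have hfin : Finite (M.map S.subtype : Subgroup Ω) := finite_of_le hT₁S
      have hlt : Nat.card (M.map S.subtype : Subgroup Ω) < Nat.card S := by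
        rw [Subgroup.card_map_of_injective S.subtype_injective]
        have h1 := M.card_mul_index
        rw [hMi] at h1
        have h2 : 1 < p := (Fact.out : p.Prime).one_lt
        have h3 : 0 < Nat.card M := Nat.card_pos
        nlinarith
      have hhyp : E₁.hyperfocalSubgroup p ≤ F.hyperfocalSubgroup p :=
        hyperfocal_mono hT₁S E₁ F p
          (fun P hP => Cfsg.Agent.Lib.Helper85.autGroup_le_of_subsystem hE₁F.1 hP)
      obtain ⟨E, hE, hEE₁⟩ := ih (M.map S.subtype) (by omega) (hS.to_le hT₁S) E₁ hE₁ T hTT₁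
        (hhyp.trans hT)
      exact ⟨E, hE, hasPPowerIndexIn_trans hE₁F hEE₁ hT hTT₁⟩

/-- **Existence of saturated subsystems of `p`-power index.** -/
theorem exists_pidx {S : Subgroup Ω} [Finite S] {p : ℕ} [Fact p.Prime] (hS : IsPGroup p S)
    (F : FusionSystem S) (hF : F.IsSaturated p) (T : Subgroup Ω) (hTS : T ≤ S)
    (hT : F.hyperfocalSubgroup p ≤ T) :
    ∃ E : FusionSystem T, E.IsSaturated p ∧ E.HasPPowerIndexIn F p :=
  exists_pidx_aux _ S le_rfl hS F hF T hTS hT

end Cfsg.Agent.Lib.Helper84.PIdx
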