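import Cfsg.Agent.Lib.Helper84.CenZ
import Cfsg.Agent.Lib.Helper84.CenM
import Cfsg.Agent.Lib.Helper84.CenT
import Cfsg.Agent.Lib.Helper85.RedStepP

set_option autoImplicit false

/-! An automorphism of `P C_S(P)` of order prime to `p`, trivial modulo `P`, fixes `foc(C_F(P))` pointwise
(helper84, S5293). -/

namespace Cfsg.Agent.Lib.Helper84

open Cfsg Cfsg.FusionSystem Cfsg.Agent.Lib.Helper85

variable {Ω : Type*} [Group Ω] {S : Subgroup Ω}

theorem stab_centralizer {P : Subgroup Ω} {β : MulAut ↥(P ⊔ centralizerIn S P)}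
    (hWS : P ⊔ centralizerIn S P ≤ S)
    (hβP : β ∈ stabIn (P ⊔ centralizerIn S P) P) (w : ↥(P ⊔ centralizerIn S P))
    (hw : (w : Ω) ∈ centralizerIn S P) : ((β w : ↥(P ⊔ centralizerIn S P)) : Ω) ∈ centralizerIn S P := by
  refine ⟨hWS (β w).2, Subgroup.mem_centralizer_iff.2 fun y hy => ?_⟩
  have hy' : ((β⁻¹ (Subgroup.inclusion le_sup_left ⟨y, hy⟩) : ↥(P ⊔ centralizerIn S P)) : Ω) ∈ P :=
    ((Subgroup.inv_mem _ hβP) _).1 hy
  have h1 := Subgroup.mem_centralizer_iff.1 hw.2 _ hy'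
  have h2 : β⁻¹ (Subgroup.inclusion le_sup_left ⟨y, hy⟩) * w =
      w * β⁻¹ (Subgroup.inclusion le_sup_left ⟨y, hy⟩) := Subtype.ext h1
  have h3 := congrArg (fun t => ((β t : ↥(P ⊔ centralizerIn S P)) : Ω)) h2
  simpa using h3

/-- [K] -/
theorem cen_fix [Finite S] {p : ℕ} [Fact p.Prime] (hS : IsPGroup p S) (F : FusionSystem S)
    (hF : F.IsSaturated p) {P : Subgroup Ω} (hP : F.IsFullyCentralized P)
    (D : FusionSystem (centralizerIn S P)) (hD : F.IsCentralizerSystem P D)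
    (β : MulAut ↥(P ⊔ centralizerIn S P)) (hβ : β ∈ cenA F P)
    (hβP : β ∈ stabIn (P ⊔ centralizerIn S P) P) (hco : (orderOf β).Coprime p) :
    ∀ (y : Ω) (_ : y ∈ D.focalSubgroup) (hW : y ∈ P ⊔ centralizerIn S P),
      ((β ⟨y, hW⟩ : ↥(P ⊔ centralizerIn S P)) : Ω) = y := by
  have hPS : P ≤ S := hP.1
  have hWS : P ⊔ centralizerIn S P ≤ S := sup_le hPS (centralizerIn_le _ _)
  have hCW : centralizerIn S P ≤ P ⊔ centralizerIn S P := le_sup_right
  have hDsat := centralizerSystem_saturated hS hF hP D hD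
  have hfinC : Finite (centralizerIn S P) := finite_of_le (centralizerIn_le _ _)
  have hCp : IsPGroup p (centralizerIn S P) := hS.to_le (centralizerIn_le _ _)
  have hβF := (mem_autGroup_iff F hWS β).1 hβ.1
  have hβiF := (mem_autGroup_iff F hWS β⁻¹).1 (Subgroup.inv_mem _ hβ.1)
  obtain ⟨Z, hZdef⟩ : ∃ Z : Subgroup Ω, Z = P ⊓ Subgroup.centralizer (P : Set Ω) := ⟨_, rfl⟩
  have hZP : Z ≤ P := by rw [hZdef]; exact inf_le_left
  have hZC : Z ≤ centralizerIn S P := by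
    rw [hZdef]; exact fun z hz => ⟨hPS hz.1, hz.2⟩
  have hZcen : ∀ z ∈ Z, ∀ c ∈ centralizerIn S P, z * c = c * z :=
    fun z hz c hc => comm_centralizerIn z (hZP hz) c hc
  have hstC : β ∈ stabIn (P ⊔ centralizerIn S P) (centralizerIn S P) := by
    intro w
    refine ⟨stab_centralizer hWS hβP w, fun h => ?_⟩
    have := stab_centralizer hWS (Subgroup.inv_mem _ hβP) _ h
    rwa [MulAut.inv_apply_self] at this
  obtain ⟨b, hbdef⟩ : ∃ b : MulAut (centralizerIn S P), b = resStab hCW ⟨β, hstC⟩ := ⟨_, rfl⟩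
  have hb : ∀ c : centralizerIn S P, ((b c : centralizerIn S P) : Ω) =
      ((β (Subgroup.inclusion hCW c) : ↥(P ⊔ centralizerIn S P)) : Ω) := by
    intro c; rw [hbdef]; rfl
  have hbZ : ∀ c : centralizerIn S P, (c : Ω)⁻¹ * ((b c : centralizerIn S P) : Ω) ∈ Z := by
    intro c
    rw [hZdef]
    refine ⟨?_, Subgroup.mul_mem _ (Subgroup.inv_mem _ c.2.2) (b c).2.2⟩
    rw [hb]
    exact hβ.2 (Subgroup.inclusion hCW c)
  have hbco : (orderOf b).Coprime p := by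
    refine Nat.Coprime.coprime_dvd_left ?_ hco
    rw [hbdef]
    have h1 := orderOf_map_dvd (resStab hCW) (⟨β, hstC⟩ : stabIn _ _)
    rwa [← Subgroup.orderOf_coe] at h1
  have hZfix : ∀ (R : Subgroup Ω) (_ : R ≤ centralizerIn S P) (hZR : Z ≤ R), ∀ γ ∈ D.autGroup R,
      ∀ z : Z, γ (Subgroup.inclusion hZR z) = Subgroup.inclusion hZR z := by
    intro R hRC hZR γ hγ z
    have h1 := (mem_autGroup_iff D hRC γ).1 hγ
    unfold Mor at h1
    rw [hD R] at h1
    obtain ⟨-, -, -, ψ, -, h2, h3⟩ := h1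
    apply Subtype.ext
    have h4 := h2 (Subgroup.inclusion hZR z)
    have h5 := h3 ⟨z, hZP z.2⟩
    have e : Subgroup.inclusion (le_sup_left : R ≤ R ⊔ P) (Subgroup.inclusion hZR z) =
        Subgroup.inclusion (le_sup_right : P ≤ R ⊔ P) ⟨z, hZP z.2⟩ := rfl
    rw [e, h5] at h4
    exact h4.symm
  have hbn : ∀ (R : Subgroup Ω) (hRC : R ≤ centralizerIn S P), Z ≤ R → ∀ bR : MulAut R,
      (∀ x : R, ((bR x : R) : Ω) = ((b (Subgroup.inclusion hRC x) : centralizerIn S P) : Ω)) →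
      ∀ γ ∈ D.autGroup R, bR * γ * bR⁻¹ ∈ D.autGroup R := by
    intro R hRC _ bR hbR γ hγ
    have hRW : R ≤ P ⊔ centralizerIn S P := hRC.trans hCW
    have hRS : R ≤ S := hRW.trans hWS
    have hbR' : ∀ x : R, ((bR x : R) : Ω) =
        ((β (Subgroup.inclusion hRW x) : ↥(P ⊔ centralizerIn S P)) : Ω) := by
      intro x; rw [hbR, hb]; rfl
    have hbRi : ∀ x : R, ((bR⁻¹ x : R) : Ω) =
        ((β⁻¹ (Subgroup.inclusion hRW x) : ↥(P ⊔ centralizerIn S P)) : Ω) := by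
      intro x
      have h1 : β (Subgroup.inclusion hRW (bR⁻¹ x)) = Subgroup.inclusion hRW x := by
        apply Subtype.ext
        rw [← hbR', MulAut.apply_inv_self]
        rfl
      rw [← h1, MulAut.inv_apply_self]
      rfl
    have h1 := (mem_autGroup_iff D hRC γ).1 hγ
    unfold Mor at h1
    rw [hD R] at h1
    obtain ⟨hγF, -, -, γ₁, hγ₁, hγ₁R, hγ₁P⟩ := h1
    have hbRF : bR ∈ F.autGroup R := by
      rw [mem_autGroup_iff F hRS]
      exact mor_of_agree F hWS hβ.1 bR hRW hbR'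
    have hγF' : γ ∈ F.autGroup R := (mem_autGroup_iff F hRS γ).2 hγF
    rw [mem_autGroup_iff D hRC]
    unfold Mor
    rw [hD R]
    have hVW : R ⊔ P ≤ P ⊔ centralizerIn S P := sup_le hRW le_sup_left
    -- `β⁻¹` on `V`
    have hβV : (Subgroup.subtype _ |>.comp β⁻¹.toMonoidHom).comp (Subgroup.inclusion hVW) ∈
        F.Hom (R ⊔ P) := Cfsg.Agent.Lib.Helper84.restrict_mem F hβiF hVW
    have hβVR : ∀ x : R, ((Subgroup.subtype _ |>.comp β⁻¹.toMonoidHom).comp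
        (Subgroup.inclusion hVW)) (Subgroup.inclusion le_sup_left x) = (bR⁻¹ x : R) :=
      fun x => (hbRi x).symm
    have hβVP : ∀ x : P, ((Subgroup.subtype _ |>.comp β⁻¹.toMonoidHom).comp
        (Subgroup.inclusion hVW)) (Subgroup.inclusion le_sup_right x) ∈ P :=
      fun x => ((Subgroup.inv_mem _ hβP) _).1 x.2
    have hm1 : ∀ v, ((Subgroup.subtype _ |>.comp β⁻¹.toMonoidHom).comp
        (Subgroup.inclusion hVW)) v ∈ R ⊔ P :=
      forall_mem_of_sup _ (fun x => by rw [hβVR]; exact (le_sup_left : R ≤ R ⊔ P) (bR⁻¹ x).2)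
        (fun x => (le_sup_right : P ≤ R ⊔ P) (hβVP x))
    have hc1 := F.comp_mem hβV hγ₁ hm1
    have hm2 : ∀ v, (γ₁.comp (((Subgroup.subtype _ |>.comp β⁻¹.toMonoidHom).comp
        (Subgroup.inclusion hVW)).codRestrict _ hm1)) v ∈ P ⊔ centralizerIn S P := by
      intro v
      refine hVW (forall_mem_of_sup γ₁ (H := R ⊔ P) (fun x => ?_) (fun x => ?_) _)
      · rw [hγ₁R]; exact (le_sup_left : R ≤ R ⊔ P) (γ x).2
      · rw [hγ₁P]; exact (le_sup_right : P ≤ R ⊔ P) x.2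
    have hc2 := F.comp_mem hc1 hβF hm2
    refine ⟨(mem_autGroup_iff F hRS _).1 (Subgroup.mul_mem _ (Subgroup.mul_mem _ hbRF hγF')
      (Subgroup.inv_mem _ hbRF)), hRC, fun x => hRC (_ : R).2, _, hc2, fun x => ?_, fun x => ?_⟩
    · have e1 : (((Subgroup.subtype _ |>.comp β⁻¹.toMonoidHom).comp
          (Subgroup.inclusion hVW)).codRestrict _ hm1) (Subgroup.inclusion le_sup_left x) =
          Subgroup.inclusion le_sup_left (bR⁻¹ x) := Subtype.ext (hβVR x)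
      show ((β ⟨γ₁ ((((Subgroup.subtype _ |>.comp β⁻¹.toMonoidHom).comp
          (Subgroup.inclusion hVW)).codRestrict _ hm1) (Subgroup.inclusion le_sup_left x)), _⟩ :
          ↥(P ⊔ centralizerIn S P)) : Ω) = ((bR (γ (bR⁻¹ x)) : R) : Ω)
      rw [hbR']
      congr 2
      apply Subtype.ext
      show γ₁ _ = _
      rw [e1, hγ₁R]
      rfl
    · have e1 : (((Subgroup.subtype _ |>.comp β⁻¹.toMonoidHom).comp
          (Subgroup.inclusion hVW)).codRestrict _ hm1) (Subgroup.inclusion le_sup_right x) =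
          Subgroup.inclusion le_sup_right ⟨_, hβVP x⟩ := rfl
      show ((β ⟨γ₁ ((((Subgroup.subtype _ |>.comp β⁻¹.toMonoidHom).comp
          (Subgroup.inclusion hVW)).codRestrict _ hm1) (Subgroup.inclusion le_sup_right x)), _⟩ :
          ↥(P ⊔ centralizerIn S P)) : Ω) = x
      have e2 : (⟨γ₁ ((((Subgroup.subtype _ |>.comp β⁻¹.toMonoidHom).comp
          (Subgroup.inclusion hVW)).codRestrict _ hm1) (Subgroup.inclusion le_sup_right x)),
          hm2 _⟩ : ↥(P ⊔ centralizerIn S P)) = β⁻¹ (Subgroup.inclusion le_sup_left x) := by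
        apply Subtype.ext
        show γ₁ _ = _
        rw [e1, hγ₁P]
        rfl
      rw [e2, MulAut.apply_inv_self]
      rfl
  have hZ := lemmaZ hCp D hDsat Z hZC hZcen hZfix b hbZ hbn hbco
  have key : D.focalSubgroup ≤ (MonoidHom.eqLocus β.toMonoidHom
      (MonoidHom.id ↥(P ⊔ centralizerIn S P))).map (Subgroup.subtype _) := by
    conv_lhs => unfold focalSubgroup
    rw [Subgroup.closure_le]
    rintro _ ⟨R, γ, x, hγ, rfl⟩
    have h1 := (D.le_of_mem hγ).1 x.2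
    have h2 := (D.le_of_mem hγ).2 x
    refine ⟨(Subgroup.inclusion hCW ⟨x, h1⟩)⁻¹ * Subgroup.inclusion hCW ⟨γ x, h2⟩, ?_, rfl⟩
    show β _ = _
    apply Subtype.ext
    rw [map_mul, map_inv]
    show ((β (Subgroup.inclusion hCW ⟨x, h1⟩) : ↥(P ⊔ centralizerIn S P)) : Ω)⁻¹ *
      ((β (Subgroup.inclusion hCW ⟨γ x, h2⟩) : ↥(P ⊔ centralizerIn S P)) : Ω) = (x : Ω)⁻¹ * γ x
    rw [← hb, ← hb]
    have h3 := hZ R γ hγ x
    have hz := hbZ ⟨x, h1⟩
    have c1 := hZcen _ hz _ (Subgroup.mul_mem _ (Subgroup.inv_mem _ h1) h2)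
    set bx := ((b ⟨x, h1⟩ : centralizerIn S P) : Ω) with hbx
    set bg := ((b ⟨γ x, h2⟩ : centralizerIn S P) : Ω) with hbg
    simp only [] at hz c1
    have e1 : bg = γ x * ((x : Ω)⁻¹ * bx) := by rw [← h3]; group
    rw [e1]
    calc bx⁻¹ * (γ x * ((x : Ω)⁻¹ * bx)) =
        ((x : Ω)⁻¹ * bx)⁻¹ * (((x : Ω)⁻¹ * γ x) * ((x : Ω)⁻¹ * bx)) := by group
      _ = ((x : Ω)⁻¹ * bx)⁻¹ * (((x : Ω)⁻¹ * bx) * ((x : Ω)⁻¹ * γ x)) := by rw [c1]
      _ = (x : Ω)⁻¹ * γ x := by group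
  intro y hy hW
  obtain ⟨w, hw, hwy⟩ := key hy
  have : w = ⟨y, hW⟩ := Subtype.ext hwy
  rw [← this]
  have hw' : β w = w := hw
  rw [hw']
  exact hwy

end Cfsg.Agent.Lib.Helper84
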