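import Cfsg.Agent.Lib.Helper84.CenDefs
import Cfsg.Agent.Lib.Helper84.FusionKSystem

set_option autoImplicit false

/-! Small pieces for `foc(C_F(T)) ≤ C_S(E)` (helper84, S5293). -/

namespace Cfsg.Agent.Lib.Helper84

open Cfsg Cfsg.FusionSystem Cfsg.Agent.Lib.Helper85

variable {Ω : Type*} [Group Ω] {S : Subgroup Ω}

/-- [L] lifting elements of order prime to `p` -/
theorem exists_coprime_lift {X : Type*} [Group X] [Finite X] {p : ℕ} [hp : Fact p.Prime] (b : X)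
    (n : ℕ) (hn : n.Coprime p) (hn0 : 0 < n) :
    ∃ N : ℕ, (orderOf (b ^ N)).Coprime p ∧ N % n = 1 % n := by
  obtain ⟨k, m', hm', hord⟩ := Nat.exists_eq_pow_mul_and_not_dvd (orderOf_pos b).ne' p
    hp.out.one_lt.ne'
  refine ⟨(p ^ k) ^ Nat.totient n, ?_, ?_⟩
  · have hdvd : p ^ k ∣ (p ^ k) ^ Nat.totient n :=
      dvd_pow_self _ (Nat.totient_pos.2 hn0).ne'
    have hone : (b ^ (p ^ k) ^ Nat.totient n) ^ m' = 1 := by
      rw [← pow_mul, ← orderOf_dvd_iff_pow_eq_one, hord]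
      exact Nat.mul_dvd_mul_right hdvd m'
    exact Nat.Coprime.coprime_dvd_left (orderOf_dvd_of_pow_eq_one hone)
      ((Nat.Prime.coprime_iff_not_dvd hp.out).2 hm').symm
  · exact Nat.ModEq.pow_totient (Nat.Coprime.pow_left k hn.symm)

/-- [C] -/
theorem centralizerIn_le_of_isConj {F : FusionSystem S} {T : Subgroup Ω} {E : FusionSystem T}
    (hE : E.IsInvariantIn F) {P P' : Subgroup Ω} (hP : E.IsCentric P) (hconj : F.IsConj P P') :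
    centralizerIn T P' ≤ P' := by
  obtain ⟨φ, hφ, rfl⟩ := hconj
  obtain ⟨a, ha, φ₀, hφ₀, h⟩ := hE.2.2.2 P hP.1 φ hφ
  have hcen := hP.2 φ₀.range ⟨φ₀, hφ₀, rfl⟩
  rintro c ⟨hcT, hc⟩
  have hc' : ((a⁻¹ ⟨c, hcT⟩ : T) : Ω) ∈ centralizerIn T φ₀.range := by
    refine ⟨(a⁻¹ ⟨c, hcT⟩).2, Subgroup.mem_centralizer_iff.2 ?_⟩
    rintro _ ⟨x, rfl⟩
    have hx := (E.le_of_mem hφ₀).2 x
    have h1 := Subgroup.mem_centralizer_iff.1 hc (φ x) ⟨x, rfl⟩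
    rw [h x hx] at h1
    have h2 : a ⟨φ₀ x, hx⟩ * ⟨c, hcT⟩ = ⟨c, hcT⟩ * a ⟨φ₀ x, hx⟩ := Subtype.ext h1
    have h3 := congrArg (fun t => ((a⁻¹ t : T) : Ω)) h2
    simpa using h3
  obtain ⟨x, hx⟩ := hcen hc'
  refine ⟨x, ?_⟩
  rw [h x ((E.le_of_mem hφ₀).2 x)]
  have : (⟨φ₀ x, (E.le_of_mem hφ₀).2 x⟩ : T) = a⁻¹ ⟨c, hcT⟩ := Subtype.ext hx
  rw [this, MulAut.apply_inv_self]

/-- [U] -/
theorem exists_cen_ext {F : FusionSystem S} {P N X W : Subgroup Ω} (hPN : P ≤ N) (hXN : X ≤ N)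
    {ψ : N →* Ω} (hψ : ψ ∈ F.Hom N) (hWS : W ≤ S)
    (hPW : ∀ x : P, ψ (Subgroup.inclusion hPN x) ∈ W)
    (hXW : ∀ y : X, ψ (Subgroup.inclusion hXN y) ∈ W)
    (β : MulAut W) (hβ : β ∈ F.autGroup W)
    (hfix : ∀ y : X, ((β ⟨ψ (Subgroup.inclusion hXN y), hXW y⟩ : W) : Ω) =
      ψ (Subgroup.inclusion hXN y))
    (φ : MulAut P)
    (hφ : ∀ x : P, ((β ⟨ψ (Subgroup.inclusion hPN x), hPW x⟩ : W) : Ω) =
      ψ (Subgroup.inclusion hPN (φ x))) :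
    ∃ χ ∈ F.Hom (P ⊔ X), (∀ x : P, χ (Subgroup.inclusion le_sup_left x) = φ x) ∧
      ∀ y : X, χ (Subgroup.inclusion le_sup_right y) = y := by
  have hVN : P ⊔ X ≤ N := sup_le hPN hXN
  obtain ⟨ψV, hψVdef⟩ : ∃ ψV : ↥(P ⊔ X) →* Ω, ψV = ψ.comp (Subgroup.inclusion hVN) := ⟨_, rfl⟩
  have hψV : ψV ∈ F.Hom (P ⊔ X) := by rw [hψVdef]; exact restrict_mem F hψ hVN
  have hVW : ∀ v : ↥(P ⊔ X), ψV v ∈ W := by
    have := eq_top_of_sup (W.comap ψV)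
      (fun x => by rw [Subgroup.mem_comap, hψVdef]; exact hPW x)
      (fun y => by rw [Subgroup.mem_comap, hψVdef]; exact hXW y)
    intro v
    have hv : v ∈ W.comap ψV := by rw [this]; trivial
    exact hv
  have hβF := (mem_autGroup_iff F hWS β).1 hβ
  obtain ⟨χ₀, hχ₀def⟩ : ∃ χ₀ : ↥(P ⊔ X) →* Ω,
      χ₀ = (W.subtype.comp β.toMonoidHom).comp (ψV.codRestrict W hVW) := ⟨_, rfl⟩
  have hχ₀ : χ₀ ∈ F.Hom (P ⊔ X) := by rw [hχ₀def]; exact F.comp_mem hψV hβF hVW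
  have hχ₀P : ∀ x : P, χ₀ (Subgroup.inclusion le_sup_left x) =
      ψV (Subgroup.inclusion le_sup_left (φ x)) := by
    intro x
    subst hχ₀def hψVdef
    exact hφ x
  have hχ₀X : ∀ y : X, χ₀ (Subgroup.inclusion le_sup_right y) =
      ψV (Subgroup.inclusion le_sup_right y) := by
    intro y
    subst hχ₀def hψVdef
    exact hfix y
  have hrange : ∀ v : ↥(P ⊔ X), χ₀ v ∈ ψV.range := by
    have := eq_top_of_sup (ψV.range.comap χ₀)
      (fun x => by rw [Subgroup.mem_comap, hχ₀P]; exact ⟨_, rfl⟩)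
      (fun y => by rw [Subgroup.mem_comap, hχ₀X]; exact ⟨_, rfl⟩)
    intro v
    have hv : v ∈ ψV.range.comap χ₀ := by rw [this]; trivial
    exact hv
  obtain ⟨ψi, hψi, hinv⟩ := F.inv_mem hψV
  refine ⟨ψi.comp (χ₀.codRestrict _ hrange), F.comp_mem hχ₀ hψi hrange, fun x => ?_, fun y => ?_⟩
  · have e : χ₀.codRestrict _ hrange (Subgroup.inclusion le_sup_left x) =
        ⟨ψV (Subgroup.inclusion le_sup_left (φ x)), ⟨_, rfl⟩⟩ := Subtype.ext (hχ₀P x)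
    show ψi (χ₀.codRestrict _ hrange (Subgroup.inclusion le_sup_left x)) = _
    rw [e, hinv]
    rfl
  · have e : χ₀.codRestrict _ hrange (Subgroup.inclusion le_sup_right y) =
        ⟨ψV (Subgroup.inclusion le_sup_right y), ⟨_, rfl⟩⟩ := Subtype.ext (hχ₀X y)
    show ψi (χ₀.codRestrict _ hrange (Subgroup.inclusion le_sup_right y)) = _
    rw [e, hinv]
    rfl

end Cfsg.Agent.Lib.Helper84
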