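import Cfsg.Agent.Lib.Helper84.CenSystem
import Cfsg.Agent.Lib.Helper84.CenK
import Cfsg.Agent.Lib.Helper84.CenSmall
import Cfsg.Agent.Lib.Helper85.RedBasic
import Cfsg.Agent.S5097
import Cfsg.Agent.Lib.Helper84.CenGrp

set_option autoImplicit false

/-! `E ≤ C_F(foc(C_F(T)))` for `E ⊴ F` over `T` (helper84, S5293 / S5201). -/

namespace Cfsg.Agent.Lib.Helper84

open Cfsg Cfsg.FusionSystem Cfsg.Agent.Lib.Helper85

variable {Ω : Type*} [Group Ω] {S : Subgroup Ω}

theorem focal_le (F : FusionSystem S) : F.focalSubgroup ≤ S := by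
  unfold focalSubgroup
  rw [Subgroup.closure_le]
  rintro _ ⟨P, φ, x, hφ, rfl⟩
  exact S.mul_mem (S.inv_mem ((F.le_of_mem hφ).1 x.2)) ((F.le_of_mem hφ).2 x)

theorem cenA_pow_apply {P : Subgroup Ω}
    {β : MulAut ↥(P ⊔ centralizerIn S P)} {φ : MulAut P}
    (h : ∀ x : P, β (Subgroup.inclusion le_sup_left x) = Subgroup.inclusion le_sup_left (φ x))
    (k : ℕ) (x : P) :
    (β ^ k) (Subgroup.inclusion le_sup_left x) = Subgroup.inclusion le_sup_left ((φ ^ k) x) := by
  induction k generalizing x with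
  | zero => simp
  | succ k ih => rw [pow_succ, pow_succ, MulAut.mul_apply, MulAut.mul_apply, h, ih]

/-- the data attached to a subgroup `P ≤ T` -/
structure CenCtx (F : FusionSystem S) {T : Subgroup Ω} (E : FusionSystem T) (p : ℕ)
    (P P' : Subgroup Ω) (ψ : ↥(normalizerIn S P) →* Ω) : Prop where
  hPT : P ≤ T
  hP'T : P' ≤ T
  hfc : F.IsFullyCentralized P'
  hrec : F.IsReceptive P'
  hψ : ψ ∈ F.Hom (normalizerIn S P)
  hmap : (P.subgroupOf (normalizerIn S P)).map ψ = P'
  hcen : centralizerIn T P' ≤ P'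

theorem coprime_mem [Finite S] {p : ℕ} [Fact p.Prime] (hS : IsPGroup p S) (F : FusionSystem S)
    (hF : F.IsSaturated p) {T : Subgroup Ω} (E : FusionSystem T) (hT : F.StronglyClosed T)
    (D : FusionSystem (centralizerIn S T)) (hD : F.IsCentralizerSystem T D)
    {P P' : Subgroup Ω} {ψ : ↥(normalizerIn S P) →* Ω} (h : CenCtx F E p P P' ψ)
    (e : P ≃* P') (he : ∀ x : P, ((e x : P') : Ω) = ψ (Subgroup.inclusion
      (le_normalizerIn (h.hPT.trans hT.1)) x))
    (φ : MulAut P) (hφ : MulAut.congr e φ ∈ cenM E F P') (hco : (orderOf φ).Coprime p) :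
    ∃ χ ∈ F.Hom (P ⊔ D.focalSubgroup), (∀ x : P, χ (Subgroup.inclusion le_sup_left x) = φ x) ∧
      ∀ y : D.focalSubgroup, χ (Subgroup.inclusion le_sup_right y) = y := by
  obtain ⟨hPT, hP'T, hfc, hrec, hψ, hmap, hcen⟩ := h
  have hPS : P ≤ S := hPT.trans hT.1
  have hP'S : P' ≤ S := hP'T.trans hT.1
  have hWS : P' ⊔ centralizerIn S P' ≤ S := sup_le hP'S (centralizerIn_le _ _)
  have hfinW : Finite (MulAut ↥(P' ⊔ centralizerIn S P')) := finite_mulAut_of_le hWS
  have hfinP : Finite (MulAut P) := finite_mulAut_of_le hPS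
  obtain ⟨-, β, hβ, hβφ⟩ := hφ
  obtain ⟨N₀, hN1, hN2⟩ := exists_coprime_lift (p := p) β (orderOf φ) hco (orderOf_pos φ)
  have hφN : φ ^ N₀ = φ := by
    have h2 := pow_eq_pow_iff_modEq.2 (show N₀ ≡ 1 [MOD orderOf φ] from hN2)
    rwa [pow_one] at h2
  have hβ' : β ^ N₀ ∈ cenA F P' := Subgroup.pow_mem _ hβ _
  have hβ'φ : ∀ x : P', (β ^ N₀) (Subgroup.inclusion le_sup_left x) =
      Subgroup.inclusion le_sup_left (MulAut.congr e φ x) := by
    intro x
    rw [cenA_pow_apply hβφ, ← map_pow, hφN]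
  have hstab := autGroup_le_stabIn hT hP'T hcen hβ'.1
  obtain ⟨D', hD'⟩ := Cfsg.Agent.S5097.result F P' hP'S
  have hfix := cen_fix hS F hF hfc D' hD' (β ^ N₀) hβ' hstab hN1
  have hCN : centralizerIn S T ≤ normalizerIn S P := by
    refine le_trans ?_ (centralizerIn_le_normalizerIn S P)
    intro c hc
    exact ⟨hc.1, Subgroup.centralizer_le (by exact_mod_cast hPT) hc.2⟩
  have hPN : P ≤ normalizerIn S P := le_normalizerIn hPS
  have htr := map_focal_mem hPT hPN hCN hψ hmap D hD D' hD'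
  have hXN : D.focalSubgroup ≤ normalizerIn S P := (focal_le D).trans hCN
  have hPW : ∀ x : P, ψ (Subgroup.inclusion hPN x) ∈ P' ⊔ centralizerIn S P' := by
    intro x
    rw [← he]
    exact (le_sup_left : P' ≤ _) (e x).2
  have hXW : ∀ y : D.focalSubgroup, ψ (Subgroup.inclusion hXN y) ∈ P' ⊔ centralizerIn S P' :=
    fun y => (le_sup_right : centralizerIn S P' ≤ _) (focal_le D' (htr y y.2 (hXN y.2)))
  refine exists_cen_ext hPN hXN hψ hWS hPW hXW (β ^ N₀) hβ'.1 ?_ φ ?_
  · intro y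
    exact hfix _ (htr y y.2 (hXN y.2)) _
  · intro x
    have h1 : (⟨ψ (Subgroup.inclusion hPN x), hPW x⟩ : ↥(P' ⊔ centralizerIn S P')) =
        Subgroup.inclusion le_sup_left (e x) := Subtype.ext (he x).symm
    rw [h1, hβ'φ]
    show ((MulAut.congr e φ (e x) : P') : Ω) = _
    rw [congr_apply_apply, MulEquiv.symm_apply_apply, he]

theorem aut_step [Finite S] {p : ℕ} [Fact p.Prime] (hS : IsPGroup p S) (F : FusionSystem S)
    (hF : F.IsSaturated p) {T : Subgroup Ω} (E : FusionSystem T) (hE : E.IsNormalIn F p)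
    (D : FusionSystem (centralizerIn S T)) (hD : F.IsCentralizerSystem T D)
    (E' : FusionSystem T)
    (hE' : ∀ (P : Subgroup Ω) (φ : P →* Ω), φ ∈ E'.Hom P ↔ φ ∈ E.Hom P ∧
      ∃ ψ ∈ F.Hom (P ⊔ D.focalSubgroup), (∀ x : P, ψ (Subgroup.inclusion le_sup_left x) = φ x) ∧
      ∀ x : D.focalSubgroup, ψ (Subgroup.inclusion le_sup_right x) = x)
    {P : Subgroup Ω} (hcentric : E.IsCentric P) (hfn : E.IsFullyNormalized P) :
    E.autGroup P ≤ E'.autGroup P ⊔ Subgroup.closure (extSet E P) := by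
  have hT : F.StronglyClosed T := hE.1.2.2.2.1
  have hEsat : E.IsSaturated p := hE.1.1
  have hEF : E.IsSubsystemOf F := hE.1.2.2.1
  have hfinT : Finite T := finite_of_le hT.1
  have hTp : IsPGroup p T := hS.to_le hT.1
  have hPT : P ≤ T := hcentric.1
  have hPS : P ≤ S := hPT.trans hT.1
  have hfinP : Finite (MulAut P) := finite_mulAut_of_le hPS
  obtain ⟨P', hconj, hfnF⟩ := exists_fullyNormalized F hPS
  obtain ⟨hfc, hfa, hrec⟩ := sat_fullyNormalized hS hF hfnF
  obtain ⟨ψ, hψ, hψN, hmap⟩ := exists_normalizer_hom hS F hfa hrec hconj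
  have hPN : P ≤ normalizerIn S P := le_normalizerIn hPS
  obtain ⟨e, he⟩ : ∃ e : P ≃* P', e = restrictEquiv ψ (F.injective_of_mem hψ) hPN hmap := ⟨_, rfl⟩
  have heF : Mor F e.toMonoidHom := by rw [he]; exact mor_restrictEquiv F hψ hPN hmap
  have he' : ∀ x : P, ((e x : P') : Ω) = ψ (Subgroup.inclusion hPN x) := by
    intro x; rw [he]; rfl
  have hP'T : P' ≤ T := by
    intro y hy
    have : y = ((e (e.symm ⟨y, hy⟩) : P') : Ω) := by simp
    rw [this, he']
    exact Helper87.sc_map_mem hT hψ _ (hPT (e.symm ⟨y, hy⟩).2)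
  have hcen : centralizerIn T P' ≤ P' := centralizerIn_le_of_isConj hE.1.2.2 hcentric hconj
  have hctx : CenCtx F E p P P' ψ := ⟨hPT, hP'T, hfc, hrec, hψ, hmap, hcen⟩
  have hSI : StrongInv E F := strongInv_of_invariant hS hF hE.1.2.2
  obtain ⟨Cc, hCc⟩ : ∃ Cc : Subgroup (MulAut P),
      Cc = (cenM E F P').comap (MulAut.congr e).toMonoidHom := ⟨_, rfl⟩
  have hmemC : ∀ φ : MulAut P, φ ∈ Cc ↔ MulAut.congr e φ ∈ cenM E F P' := by
    intro φ; rw [hCc]; rfl
  have hCE : Cc ≤ E.autGroup P := by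
    intro φ hφ
    have h1 := congr_mem_of_strongInv hSI hP'T heF.symm (((hmemC φ).1 hφ).1)
    have h2 : MulAut.congr e.symm (MulAut.congr e φ) = φ := by
      ext x
      simp
    rwa [h2] at h1
  have hconjC : ∀ θ ∈ E.autGroup P, ∀ φ ∈ Cc, θ * φ * θ⁻¹ ∈ Cc := by
    intro θ hθ φ hφ
    rw [hmemC, map_mul, map_mul, map_inv]
    exact cenM_normal hT E hEF hP'T hrec hcen _ (congr_mem_of_strongInv hSI hPT heF hθ) _
      ((hmemC φ).1 hφ)
  have hCn : E.autGroup P ≤ Subgroup.normalizer (Cc : Set (MulAut P)) := by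
    intro θ hθ
    apply mem_normalizer_of_conj_mem
    · exact hconjC θ hθ
    · intro φ hφ
      have := hconjC θ⁻¹ (Subgroup.inv_mem _ hθ) φ hφ
      rwa [inv_inv] at this
  have hTC : autInducedBy T P ≤ Cc := by
    intro α hα
    obtain ⟨g, hg, hg'⟩ := (Cfsg.Agent.Lib.Helper84.mem_autInducedBy_iff T P α).1 hα
    rw [hmemC]
    apply autInducedBy_le_cenM hT E hP'T hcen
    have hgN : g ∈ normalizerIn S P := ⟨hT.1 hg, mem_normalizer_of_induces hg'⟩
    rw [Cfsg.Agent.Lib.Helper84.mem_autInducedBy_iff]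
    refine ⟨ψ ⟨g, hgN⟩, Helper87.sc_map_mem hT hψ _ hg, fun y => ?_⟩
    rw [congr_apply_apply, he']
    have h1 : (y : Ω) = ψ (Subgroup.inclusion hPN (e.symm y)) := by
      rw [← he']; simp
    rw [h1, ← map_inv, ← map_mul, ← map_mul]
    congr 1
    apply Subtype.ext
    show ((α (e.symm y) : P) : Ω) = _
    rw [hg']
    rfl
  obtain ⟨-, hfaE, hrecE⟩ := sat_fullyNormalized hTp hEsat hfn
  have hsylC : SylIn p (autInducedBy T P) Cc := SylIn.of_le hfaE.2 hTC hCE
  have hCE' : Cc ≤ E'.autGroup P := by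
    apply CenGrp.le_of_coprime_of_sylow hsylC (autInducedBy_le_autGroup E' hPT)
    intro φ hφ hco
    rw [mem_autGroup_iff E' hPT]
    show _ ∈ E'.Hom P
    rw [hE']
    refine ⟨(mem_autGroup_iff E hPT φ).1 (hCE hφ), ?_⟩
    exact coprime_mem hS F hF E hT D hD hctx e he' φ ((hmemC φ).1 hφ) hco
  by_cases hPeq : P = T
  · subst hPeq
    have hP' : P' = P := by
      apply Subgroup.eq_of_le_of_card_ge hP'T
      exact (Nat.card_congr e.toEquiv).le
    subst hP'
    refine le_trans ?_ le_sup_left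
    refine le_trans ?_ hCE'
    intro α hα
    rw [hmemC]
    exact autGroup_le_cenM_top E hE (congr_mem_of_strongInv hSI hPT heF hα)
  · have hlt : P < T := lt_of_le_of_ne hPT hPeq
    obtain ⟨t, htT, htP, htN⟩ := exists_mem_normalizer_not_mem hTp hlt
    exact (frattini_ext hTp hrecE hfaE hCE hCn htT htN htP
      (hTC (conjAut_mem_autInducedBy htN htT))).trans (sup_le_sup_right hCE' _)

theorem cen_main [Finite S] {p : ℕ} [Fact p.Prime] (hS : IsPGroup p S) (F : FusionSystem S)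
    (hF : F.IsSaturated p) {T : Subgroup Ω} (E : FusionSystem T) (hE : E.IsNormalIn F p)
    (D : FusionSystem (centralizerIn S T)) (hD : F.IsCentralizerSystem T D) (P : Subgroup Ω) :
    E.Hom P ⊆ F.centralizerHom D.focalSubgroup P := by
  have hT : F.StronglyClosed T := hE.1.2.2.2.1
  have hEsat : E.IsSaturated p := hE.1.1
  have hEF : E.IsSubsystemOf F := hE.1.2.2.1
  have hfinT : Finite T := finite_of_le hT.1
  have hTp : IsPGroup p T := hS.to_le hT.1
  have hXC : D.focalSubgroup ≤ centralizerIn S T := focal_le D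
  have hcomm : ∀ g ∈ T, ∀ x ∈ D.focalSubgroup, g * x * g⁻¹ = x := by
    intro g hg x hx
    have := Subgroup.mem_centralizer_iff.1 (hXC hx).2 g hg
    rw [this]; group
  have key : E ≤ cSystem E F D.focalSubgroup hT.1 (hXC.trans (centralizerIn_le _ _)) hcomm := by
    apply alperin_ext hTp E hEsat
    intro R hR
    apply aut_step hS F hF E hE D hD _ (fun _ _ => Iff.rfl)
    · rcases hR with rfl | hR
      · exact ⟨le_rfl, fun Q hQ => by
          have hQT : Q = R := by
            apply Subgroup.eq_of_le_of_card_ge (isConj_le_right hQ)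
            exact (isConj_card_eq hQ).le
          rw [hQT]; exact centralizerIn_le _ _⟩
      · exact hR.1
    · rcases hR with rfl | hR
      · exact fullyNormalized_self E
      · exact hR.2.1
  intro φ hφ
  obtain ⟨-, ψ, hψ, h1, h2⟩ := key P hφ
  have hTX : T ≤ centralizerIn S D.focalSubgroup := by
    intro g hg
    refine ⟨hT.1 hg, Subgroup.mem_centralizer_iff.2 fun x hx => ?_⟩
    have := hcomm g hg x hx
    calc x * g = (g * x * g⁻¹) * g := by rw [this]
      _ = g * x := by group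
  exact ⟨hEF P hφ, (E.le_of_mem hφ).1.trans hTX, fun x => hTX ((E.le_of_mem hφ).2 x), ψ, hψ, h1, h2⟩

end Cfsg.Agent.Lib.Helper84
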