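import Cfsg.Agent.Lib.Helper84.CenMain
import Cfsg.Agent.Lib.Helper85.FusGood

set_option autoImplicit false

/-! If `foc(C_F(T)) ≤ T` and `Aut_{F₀}(T) = Aut_E(T)` then `foc(F₀) ≤ T` (helper84, S5201). -/

namespace Cfsg.Agent.Lib.Helper84

open Cfsg Cfsg.FusionSystem Cfsg.Agent.Lib.Helper85

variable {Ω : Type*} [Group Ω] {S : Subgroup Ω}

/-- a map of `F` on `R`, `T ≤ R ≤ T C_S(T)`, fixing `T` pointwise, is trivial modulo `foc(C_F(T))` -/
theorem inv_mul_mem_focal {F : FusionSystem S} {T : Subgroup Ω}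
    (D : FusionSystem (centralizerIn S T)) (hD : F.IsCentralizerSystem T D)
    {R : Subgroup Ω} (hTR : T ≤ R) (hR : R ≤ T ⊔ centralizerIn S T) {δ : R →* Ω}
    (hδ : δ ∈ F.Hom R) (hfix : ∀ t : T, δ (Subgroup.inclusion hTR t) = t) (x : R) :
    (x : Ω)⁻¹ * δ x ∈ D.focalSubgroup := by
  obtain ⟨t, ht, c, hc, hx⟩ := exists_mul_of_mem_sup comm_centralizerIn (hR x.2)
  have hcR : c ∈ R := by
    have e : c = t⁻¹ * (x : Ω) := by rw [hx]; group
    rw [e]
    exact R.mul_mem (R.inv_mem (hTR ht)) x.2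
  have hx' : x = Subgroup.inclusion hTR ⟨t, ht⟩ * ⟨c, hcR⟩ := Subtype.ext hx
  have e1 : (x : Ω)⁻¹ * δ x = c⁻¹ * δ ⟨c, hcR⟩ := by
    rw [hx', map_mul, hfix]
    show (t * c)⁻¹ * (t * _) = _
    group
  rw [e1]
  have hmap : (T.subgroupOf R).map δ = T :=
    map_eq_of_agree (MulEquiv.refl T) δ hTR (fun y hy _ => hfix ⟨y, hy⟩)
  have hmem : δ.comp (Subgroup.inclusion (inf_le_left : R ⊓ centralizerIn S T ≤ R)) ∈
      D.Hom (R ⊓ centralizerIn S T) := by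
    rw [hD]
    refine ⟨restrict_mem F hδ _, inf_le_right,
      fun y => map_mem_centralizerIn F hδ hmap _ y.2.2.2,
      δ.comp (Subgroup.inclusion (sup_le inf_le_left hTR)), restrict_mem F hδ _,
      fun y => rfl, fun y => hfix y⟩
  exact Subgroup.subset_closure ⟨R ⊓ centralizerIn S T, _,
    (⟨c, ⟨hcR, hc⟩⟩ : ↥(R ⊓ centralizerIn S T)), hmem, rfl⟩

/-- a map of `F` on `R`, `T ≤ R ≤ T C_S(T)`, inducing an element of `Aut_E(T)`, is trivial modulo `T` -/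
theorem inv_mul_mem_of_aut [Finite S] {F : FusionSystem S} {T : Subgroup Ω} (E : FusionSystem T)
    {p : ℕ} (hE : E.IsNormalIn F p)
    (D : FusionSystem (centralizerIn S T)) (hD : F.IsCentralizerSystem T D)
    (hXT : D.focalSubgroup ≤ T)
    {R : Subgroup Ω} (hTR : T ≤ R) (hR : R ≤ T ⊔ centralizerIn S T) {φ : R →* Ω}
    (hφ : φ ∈ F.Hom R) (α : MulAut T) (hα : α ∈ E.autGroup T)
    (hag : ∀ t : T, φ (Subgroup.inclusion hTR t) = α t) (x : R) :
    (x : Ω)⁻¹ * φ x ∈ T := by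
  have hT : F.StronglyClosed T := hE.1.2.2.2.1
  have hWS : T ⊔ centralizerIn S T ≤ S := sup_le hT.1 (centralizerIn_le _ _)
  obtain ⟨-, β, hβ, hβα⟩ := autGroup_le_cenM_top E hE hα
  have hmap : (T.subgroupOf R).map φ = T :=
    map_eq_of_agree α φ hTR (fun y hy _ => hag ⟨y, hy⟩)
  have hφW : ∀ y : R, φ y ∈ T ⊔ centralizerIn S T := by
    intro y
    obtain ⟨t, ht, c, hc, hy⟩ := exists_mul_of_mem_sup comm_centralizerIn (hR y.2)
    have hcR : c ∈ R := by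
      have e : c = t⁻¹ * (y : Ω) := by rw [hy]; group
      rw [e]
      exact R.mul_mem (R.inv_mem (hTR ht)) y.2
    have hy' : y = Subgroup.inclusion hTR ⟨t, ht⟩ * ⟨c, hcR⟩ := Subtype.ext hy
    rw [hy', map_mul, hag]
    exact Subgroup.mul_mem _ ((le_sup_left : T ≤ _) (α _).2)
      ((le_sup_right : centralizerIn S T ≤ _) (map_mem_centralizerIn F hφ hmap _ hc.2))
  have hβiF := (mem_autGroup_iff F hWS β⁻¹).1 (Subgroup.inv_mem _ hβ.1)
  have hδ := F.comp_mem hφ hβiF hφW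
  have hfix : ∀ t : T, ((Subgroup.subtype _ |>.comp β⁻¹.toMonoidHom).comp
      (φ.codRestrict _ hφW)) (Subgroup.inclusion hTR t) = t := by
    intro t
    have e : (φ.codRestrict _ hφW) (Subgroup.inclusion hTR t) =
        β (Subgroup.inclusion le_sup_left t) := by
      rw [hβα]
      exact Subtype.ext (hag t)
    show ((β⁻¹ ((φ.codRestrict _ hφW) (Subgroup.inclusion hTR t)) :
      ↥(T ⊔ centralizerIn S T)) : Ω) = t
    rw [e, MulAut.inv_apply_self]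
    rfl
  have h1 := hXT (inv_mul_mem_focal D hD hTR hR hδ hfix x)
  have h2 := hβ.2 (β⁻¹ ((φ.codRestrict _ hφW) x))
  rw [MulAut.apply_inv_self] at h2
  have e : (x : Ω)⁻¹ * φ x = ((x : Ω)⁻¹ * ((β⁻¹ ((φ.codRestrict _ hφW) x) :
      ↥(T ⊔ centralizerIn S T)) : Ω)) * (((β⁻¹ ((φ.codRestrict _ hφW) x) :
      ↥(T ⊔ centralizerIn S T)) : Ω)⁻¹ * φ x) := by group
  rw [e]
  exact T.mul_mem h1 h2

/-- all maps of `F₀` are trivial modulo `T` -/
theorem inv_mul_mem_of_sub [Finite S] {p : ℕ} [Fact p.Prime] (hS : IsPGroup p S)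
    {F : FusionSystem S} {T : Subgroup Ω} (E : FusionSystem T)
    (hE : E.IsNormalIn F p)
    (D : FusionSystem (centralizerIn S T)) (hD : F.IsCentralizerSystem T D)
    (hXT : D.focalSubgroup ≤ T)
    (F₀ : FusionSystem (T ⊔ centralizerIn S T)) (hF₀ : F₀.IsSaturated p)
    (hsub : F₀.IsSubsystemOf F) (hAut : F₀.autGroup T = E.autGroup T)
    {P : Subgroup Ω} {φ : P →* Ω} (hφ : φ ∈ F₀.Hom P) (x : P) : (x : Ω)⁻¹ * φ x ∈ T := by
  have hT : F.StronglyClosed T := hE.1.2.2.2.1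
  have hWS : T ⊔ centralizerIn S T ≤ S := sup_le hT.1 (centralizerIn_le _ _)
  have hfinW : Finite ↥(T ⊔ centralizerIn S T) := finite_of_le hWS
  have hT₀ : F₀.StronglyClosed T := sc_of_subsystem hsub hT le_sup_left
  obtain ⟨ψ, hψ, hgood⟩ := modGood_of_saturated (hS.to_le hWS) F₀ hF₀ T hT₀ hφ
  have hψT : ψ.comp (Subgroup.inclusion (le_sup_right : T ≤ P ⊔ T)) ∈ F₀.Hom T :=
    restrict_mem F₀ hψ _
  have hr := sc_range_eq hT₀ hψT
  have hα : equivOfRange _ (F₀.injective_of_mem hψT) hr ∈ E.autGroup T := by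
    rw [← hAut, mem_autGroup_iff F₀ hT₀.1]
    exact mor_equivOfRange F₀ hψT hr
  have h1 := inv_mul_mem_of_aut E hE D hD hXT (le_sup_right : T ≤ P ⊔ T) (F₀.le_of_mem hψ).1
    (hsub _ hψ) _ hα (fun t => rfl) (Subgroup.inclusion le_sup_left x)
  have e : (x : Ω)⁻¹ * φ x = ((x : Ω)⁻¹ * ψ (Subgroup.inclusion le_sup_left x)) *
      ((ψ (Subgroup.inclusion le_sup_left x))⁻¹ * φ x) := by group
  rw [e]
  exact T.mul_mem h1 (hgood x)

end Cfsg.Agent.Lib.Helper84
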