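import Cfsg.Agent.Lib.Helper84.CenDefs
import Cfsg.Agent.Lib.Helper84.FusionKSystem

set_option autoImplicit false

/-! The maps of `E` that extend in `F` to `P ⊔ X` fixing `X` pointwise (helper84). -/

namespace Cfsg.Agent.Lib.Helper84

open Cfsg Cfsg.FusionSystem Cfsg.Agent.Lib.Helper85

variable {Ω : Type*} [Group Ω] {S : Subgroup Ω}

/-- `E ∩ C_F(X)` -/
def cSystem {T : Subgroup Ω} (E : FusionSystem T) (F : FusionSystem S) (X : Subgroup Ω)
    (hTS : T ≤ S) (hXS : X ≤ S) (hcomm : ∀ g ∈ T, ∀ x ∈ X, g * x * g⁻¹ = x) : FusionSystem T where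
  Hom P := {φ | φ ∈ E.Hom P ∧ ∃ ψ ∈ F.Hom (P ⊔ X),
    (∀ x : P, ψ (Subgroup.inclusion le_sup_left x) = φ x) ∧
    ∀ x : X, ψ (Subgroup.inclusion le_sup_right x) = x}
  le_of_mem h := E.le_of_mem h.1
  injective_of_mem h := E.injective_of_mem h.1
  conj_mem := by
    intro P g hP hg
    exact ⟨E.conj_mem hP hg, conjHom (P ⊔ X) g, F.conj_mem (sup_le (hP.trans hTS) hXS) (hTS hg),
      fun x => rfl, fun x => hcomm g hg x x.2⟩
  comp_mem := by
    rintro P P' φ φ' ⟨hφ, ψ, hψ, hψP, hψQ⟩ ⟨hφ', ψ', hψ', hψ'P, hψ'Q⟩ h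
    refine ⟨E.comp_mem hφ hφ' h, ?_⟩
    have hmaps : ∀ x : (P ⊔ X : Subgroup Ω), ψ x ∈ P' ⊔ X := by
      have := eq_top_of_sup ((P' ⊔ X).comap ψ)
        (fun x => by
          rw [Subgroup.mem_comap, hψP]
          exact (le_sup_left : P' ≤ P' ⊔ X) (h x))
        (fun x => by
          rw [Subgroup.mem_comap, hψQ]
          exact (le_sup_right : X ≤ P' ⊔ X) x.2)
      intro x
      have hx : x ∈ (P' ⊔ X).comap ψ := by rw [this]; trivial
      exact hx
    refine ⟨ψ'.comp (ψ.codRestrict _ hmaps), F.comp_mem hψ hψ' hmaps, ?_, ?_⟩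
    · intro x
      have h1 : ψ.codRestrict _ hmaps (Subgroup.inclusion le_sup_left x) =
          Subgroup.inclusion le_sup_left (φ.codRestrict P' h x) := by
        ext; exact hψP x
      show ψ' (ψ.codRestrict _ hmaps (Subgroup.inclusion le_sup_left x)) = _
      rw [h1, hψ'P]
      rfl
    · intro x
      have h1 : ψ.codRestrict _ hmaps (Subgroup.inclusion le_sup_right x) =
          Subgroup.inclusion le_sup_right x := by
        ext; exact hψQ x
      show ψ' (ψ.codRestrict _ hmaps (Subgroup.inclusion le_sup_right x)) = _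
      rw [h1, hψ'Q]
  inv_mem := by
    rintro P φ ⟨hφ, ψ, hψ, hψP, hψQ⟩
    obtain ⟨ψinv, hψinv, hinv⟩ := F.inv_mem hψ
    obtain ⟨φinv, hφinv, hinv'⟩ := E.inv_mem hφ
    have h1 : φ.range ≤ ψ.range := by
      rintro _ ⟨x, rfl⟩
      exact ⟨_, hψP x⟩
    have h2 : X ≤ ψ.range := by
      intro x hx
      exact ⟨Subgroup.inclusion le_sup_right ⟨x, hx⟩, hψQ ⟨x, hx⟩⟩
    refine ⟨φinv, ⟨hφinv, ψinv.comp (Subgroup.inclusion (sup_le h1 h2)),
      restrict_mem F hψinv (sup_le h1 h2), ?_, fun x => ?_⟩, hinv'⟩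
    · rintro ⟨_, x, rfl⟩
      have h3 : Subgroup.inclusion (sup_le h1 h2) (Subgroup.inclusion le_sup_left
          (⟨φ x, ⟨x, rfl⟩⟩ : φ.range)) = ⟨ψ (Subgroup.inclusion le_sup_left x), ⟨_, rfl⟩⟩ := by
        ext
        exact (hψP x).symm
      show ψinv (Subgroup.inclusion (sup_le h1 h2) (Subgroup.inclusion le_sup_left _)) = _
      rw [h3, hinv, hinv']
      rfl
    · have h3 : Subgroup.inclusion (sup_le h1 h2) (Subgroup.inclusion le_sup_right x) =
          ⟨ψ (Subgroup.inclusion le_sup_right x), ⟨_, rfl⟩⟩ := by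
        ext
        exact (hψQ x).symm
      show ψinv (Subgroup.inclusion (sup_le h1 h2) (Subgroup.inclusion le_sup_right x)) = _
      rw [h3, hinv]
      rfl

theorem mem_cSystem_hom {T : Subgroup Ω} (E : FusionSystem T) (F : FusionSystem S) (X : Subgroup Ω)
    (hTS : T ≤ S) (hXS : X ≤ S) (hcomm : ∀ g ∈ T, ∀ x ∈ X, g * x * g⁻¹ = x) (P : Subgroup Ω)
    (φ : P →* Ω) : φ ∈ (cSystem E F X hTS hXS hcomm).Hom P ↔ φ ∈ E.Hom P ∧ ∃ ψ ∈ F.Hom (P ⊔ X),
    (∀ x : P, ψ (Subgroup.inclusion le_sup_left x) = φ x) ∧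
    ∀ x : X, ψ (Subgroup.inclusion le_sup_right x) = x := Iff.rfl

end Cfsg.Agent.Lib.Helper84
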