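import Cfsg.Agent.Lib.Helper84.CenDefs
import Cfsg.Agent.Lib.Helper84.CenGrp

set_option autoImplicit false

/-! Lemma Z: an automorphism of order prime to `p` of a saturated system acting trivially modulo a central
subgroup commutes with all maps (helper84, S5293). -/

namespace Cfsg.Agent.Lib.Helper84

open Cfsg Cfsg.FusionSystem Cfsg.Agent.Lib.Helper85

variable {Ω : Type*} [Group Ω] {S : Subgroup Ω}

namespace CenZ

/-- the maps of `𝒞` compatible with `c ↦ c⁻¹ b(c)` -/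
def zSystem {C : Subgroup Ω} (𝒞 : FusionSystem C) (Z : Subgroup Ω)
    (hZcen : ∀ z ∈ Z, ∀ c ∈ C, z * c = c * z)
    (b : MulAut C) (hbZ : ∀ c : C, (c : Ω)⁻¹ * ((b c : C) : Ω) ∈ Z) : FusionSystem C where
  Hom R := {γ | γ ∈ 𝒞.Hom R ∧ ∀ (x : R) (h1 : γ x ∈ C) (h2 : (x : Ω) ∈ C),
    (γ x)⁻¹ * ((b ⟨γ x, h1⟩ : C) : Ω) = (x : Ω)⁻¹ * ((b ⟨x, h2⟩ : C) : Ω)}
  le_of_mem h := 𝒞.le_of_mem h.1
  injective_of_mem h := 𝒞.injective_of_mem h.1
  conj_mem := by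
    intro R g hR hg
    refine ⟨𝒞.conj_mem hR hg, fun x h1 h2 => ?_⟩
    have e : (⟨conjHom R g x, h1⟩ : C) = ⟨g, hg⟩ * ⟨x, h2⟩ * ⟨g, hg⟩⁻¹ := rfl
    rw [e, map_mul, map_mul, map_inv]
    have hz := hbZ ⟨g, hg⟩
    have hx := hbZ ⟨x, h2⟩
    set bg := ((b ⟨g, hg⟩ : C) : Ω) with hbg
    set bx := ((b ⟨x, h2⟩ : C) : Ω) with hbx
    have c1 := hZcen _ hz _ (b ⟨x, h2⟩).2
    have c2 := hZcen _ hx _ hg
    show (g * (x : Ω) * g⁻¹)⁻¹ * (bg * bx * bg⁻¹) = (x : Ω)⁻¹ * bx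
    simp only [] at hz hx c1 c2
    rw [← hbx] at c1
    have e1 : bg * bx * bg⁻¹ = g * ((g⁻¹ * bg) * bx) * bg⁻¹ := by group
    rw [e1, c1]
    have e2 : (g * (x : Ω) * g⁻¹)⁻¹ * (g * (bx * (g⁻¹ * bg)) * bg⁻¹) =
        g * ((x : Ω)⁻¹ * bx * g⁻¹) := by group
    have c3 : (x : Ω)⁻¹ * bx * g⁻¹ = g⁻¹ * ((x : Ω)⁻¹ * bx) :=
      hZcen _ hx _ (C.inv_mem hg)
    rw [e2, c3]
    group
  comp_mem := by
    rintro P Q φ ψ ⟨hφ, hφ'⟩ ⟨hψ, hψ'⟩ h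
    refine ⟨𝒞.comp_mem hφ hψ h, fun x h1 h2 => ?_⟩
    have := hψ' (φ.codRestrict Q h x) h1 ((𝒞.le_of_mem hφ).2 x)
    exact this.trans (hφ' x _ h2)
  inv_mem := by
    rintro P φ ⟨hφ, hφ'⟩
    obtain ⟨ψ, hψ, hψ'⟩ := 𝒞.inv_mem hφ
    refine ⟨ψ, ⟨hψ, ?_⟩, hψ'⟩
    rintro ⟨_, x, rfl⟩ h1 h2
    have h3 := hφ' x h2 ((𝒞.le_of_mem hφ).1 x.2)
    simp only [hψ'] at h1 ⊢
    exact h3.symm

/-- conjugating an element of `commIn R Z` by an automorphism fixing `Z` pointwise -/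
theorem conj_commIn {R Z : Subgroup Ω} (hZR : Z ≤ R) {a n : MulAut R}
    (ha : ∀ z : Z, a (Subgroup.inclusion hZR z) = Subgroup.inclusion hZR z)
    (hn : n ∈ commIn R Z) : a * n * a⁻¹ ∈ commIn R Z := by
  intro x
  have h1 := hn (a⁻¹ x)
  have h2 := ha ⟨_, h1⟩
  have h3 : Subgroup.inclusion hZR ⟨_, h1⟩ = (a⁻¹ x)⁻¹ * n (a⁻¹ x) := rfl
  rw [h3, map_mul, map_inv, MulAut.apply_inv_self] at h2
  have h4 : (x : Ω)⁻¹ * (((a * n * a⁻¹) x : R) : Ω) = ((x⁻¹ * a (n (a⁻¹ x)) : R) : Ω) := rfl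
  rw [h4, h2]
  exact h1

theorem pow_apply_of_fix {R : Type*} [Group R] (δ : MulAut R) (x : R)
    (h : δ (x⁻¹ * δ x) = x⁻¹ * δ x) (k : ℕ) : (δ ^ k) x = x * (x⁻¹ * δ x) ^ k := by
  induction k with
  | zero => simp
  | succ k ih =>
    rw [pow_succ', MulAut.mul_apply, ih, map_mul, map_pow, h, pow_succ', ← mul_assoc,
      mul_inv_cancel_left]

theorem isPGroup_commIn {R Z : Subgroup Ω} {p : ℕ} [Fact p.Prime] [Finite Z] (hZ : IsPGroup p Z)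
    (hZR : Z ≤ R) (Γ : Subgroup (MulAut R))
    (hΓ : ∀ a ∈ Γ, ∀ z : Z, a (Subgroup.inclusion hZR z) = Subgroup.inclusion hZR z) :
    IsPGroup p ↥(Γ ⊓ commIn R Z) := by
  obtain ⟨m, hm⟩ := IsPGroup.iff_card.1 hZ
  rintro ⟨δ, hδ1, hδ2⟩
  refine ⟨m, Subtype.ext ?_⟩
  show δ ^ p ^ m = 1
  ext x
  have h1 := hδ2 x
  have h2 := hΓ δ hδ1 ⟨_, h1⟩
  have h3 : Subgroup.inclusion hZR ⟨_, h1⟩ = x⁻¹ * δ x := rfl
  rw [h3] at h2
  rw [pow_apply_of_fix δ x h2, ← h3, ← map_pow, ← hm, pow_card_eq_one']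
  simp

theorem aut_commute {C : Subgroup Ω} [Finite C] {p : ℕ} [Fact p.Prime] (hC : IsPGroup p C)
    (𝒞 : FusionSystem C) (Z : Subgroup Ω) (hZC : Z ≤ C)
    (hZcen : ∀ z ∈ Z, ∀ c ∈ C, z * c = c * z)
    (b : MulAut C) (hbZ : ∀ c : C, (c : Ω)⁻¹ * ((b c : C) : Ω) ∈ Z)
    (hco : (orderOf b).Coprime p)
    {R : Subgroup Ω} (hRC : R ≤ C) (hZR : Z ≤ R)
    (hZfix : ∀ γ ∈ 𝒞.autGroup R, ∀ z : Z,
      γ (Subgroup.inclusion hZR z) = Subgroup.inclusion hZR z)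
    (bR : MulAut R) (hbR : ∀ x : R, ((bR x : R) : Ω) = ((b (Subgroup.inclusion hRC x) : C) : Ω))
    (hbRpow : bR ^ orderOf b = 1)
    (hbn : ∀ γ ∈ 𝒞.autGroup R, bR * γ * bR⁻¹ ∈ 𝒞.autGroup R)
    (hsyl : SylIn p (autInducedBy C R) (𝒞.autGroup R))
    (γ : MulAut R) (hγ : γ ∈ 𝒞.autGroup R) : bR * γ = γ * bR := by
  have hfinZ : Finite Z := finite_of_le hZC
  have hfinA : Finite (MulAut R) := finite_mulAut_of_le hRC
  have hbRc : bR ∈ commIn R Z := by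
    intro x
    rw [hbR]
    exact hbZ (Subgroup.inclusion hRC x)
  obtain ⟨w, hw⟩ : ∃ w, w = bR * γ * bR⁻¹ * γ⁻¹ := ⟨_, rfl⟩
  have hwΓ : w ∈ 𝒞.autGroup R := by
    rw [hw]
    exact Subgroup.mul_mem _ (hbn γ hγ) (Subgroup.inv_mem _ hγ)
  have hwc : w ∈ commIn R Z := by
    have e : w = bR * (γ * bR⁻¹ * γ⁻¹) := by rw [hw]; group
    rw [e]
    exact Subgroup.mul_mem _ hbRc (conj_commIn hZR (hZfix γ hγ) (Subgroup.inv_mem _ hbRc))
  have hWp : IsPGroup p ↥(𝒞.autGroup R ⊓ commIn R Z) :=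
    isPGroup_commIn (hC.to_le hZC) hZR _ hZfix
  have hWle : 𝒞.autGroup R ⊓ commIn R Z ≤ autInducedBy C R := by
    apply CenGrp.normal_le hsyl inf_le_left hWp
    intro a ha n hn
    refine ⟨Subgroup.mul_mem _ (Subgroup.mul_mem _ (Subgroup.inv_mem _ ha) hn.1) ha, ?_⟩
    have := conj_commIn hZR (hZfix a⁻¹ (Subgroup.inv_mem _ ha)) hn.2
    rwa [inv_inv] at this
  obtain ⟨g, hg, hwg⟩ := (Cfsg.Agent.Lib.Helper84.mem_autInducedBy_iff C R w).1 (hWle ⟨hwΓ, hwc⟩)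
  have hcomm : bR * w = w * bR := by
    ext x
    rw [MulAut.mul_apply, MulAut.mul_apply, hbR, hwg, hbR]
    have e : Subgroup.inclusion hRC (w x) =
        ⟨g, hg⟩ * Subgroup.inclusion hRC x * (⟨g, hg⟩ : C)⁻¹ := Subtype.ext (hwg x)
    rw [e, map_mul, map_mul, map_inv]
    have hz := hbZ ⟨g, hg⟩
    have c1 := hZcen _ hz _ (b (Subgroup.inclusion hRC x)).2
    set bg := ((b ⟨g, hg⟩ : C) : Ω) with hbg
    set bx := ((b (Subgroup.inclusion hRC x) : C) : Ω) with hbx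
    show bg * bx * bg⁻¹ = g * bx * g⁻¹
    simp only [] at hz c1
    have e1 : bg * bx * bg⁻¹ = g * ((g⁻¹ * bg) * bx) * bg⁻¹ := by group
    rw [e1, c1]
    group
  have hstep : bR * γ = w * γ * bR := by rw [hw]; group
  have hpow : ∀ k : ℕ, bR ^ k * γ = w ^ k * γ * bR ^ k := by
    intro k
    induction k with
    | zero => simp
    | succ k ih =>
      have hc : Commute bR (w ^ k) := (show Commute bR w from hcomm).pow_right k
      calc bR ^ (k + 1) * γ = bR * (bR ^ k * γ) := by rw [pow_succ']; group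
        _ = bR * (w ^ k * γ * bR ^ k) := by rw [ih]
        _ = (bR * w ^ k) * γ * bR ^ k := by group
        _ = w ^ k * (bR * γ) * bR ^ k := by rw [hc.eq]; group
        _ = w ^ k * (w * γ * bR) * bR ^ k := by rw [hstep]
        _ = w ^ (k + 1) * γ * bR ^ (k + 1) := by rw [pow_succ, pow_succ']; group
  have h1 := hpow (orderOf b)
  rw [hbRpow, one_mul, mul_one] at h1
  have hw1 : w ^ orderOf b = 1 := by
    have : w ^ orderOf b * γ = 1 * γ := by rw [one_mul]; exact h1.symm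
    exact mul_right_cancel this
  obtain ⟨m, hm⟩ := hWp ⟨w, hwΓ, hwc⟩
  have hw2 : w ^ p ^ m = 1 := congrArg Subtype.val hm
  have hw3 : w = 1 := by
    have d1 := orderOf_dvd_of_pow_eq_one hw1
    have d2 := orderOf_dvd_of_pow_eq_one hw2
    have d3 : orderOf w ∣ Nat.gcd (orderOf b) (p ^ m) := Nat.dvd_gcd d1 d2
    rw [Nat.Coprime.pow_right m hco] at d3
    exact orderOf_eq_one_iff.1 (Nat.dvd_one.1 d3)
  rw [hstep, hw3, one_mul]

end CenZ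

open CenZ in
/-- **Lemma Z.** -/
theorem lemmaZ {C : Subgroup Ω} [Finite C] {p : ℕ} [Fact p.Prime] (hC : IsPGroup p C)
    (𝒞 : FusionSystem C) (h𝒞 : 𝒞.IsSaturated p) (Z : Subgroup Ω) (hZC : Z ≤ C)
    (hZcen : ∀ z ∈ Z, ∀ c ∈ C, z * c = c * z)
    (hZfix : ∀ (R : Subgroup Ω) (_ : R ≤ C) (hZR : Z ≤ R), ∀ γ ∈ 𝒞.autGroup R, ∀ z : Z,
      γ (Subgroup.inclusion hZR z) = Subgroup.inclusion hZR z)
    (b : MulAut C) (hbZ : ∀ c : C, (c : Ω)⁻¹ * ((b c : C) : Ω) ∈ Z)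
    (hbn : ∀ (R : Subgroup Ω) (hRC : R ≤ C), Z ≤ R → ∀ bR : MulAut R,
      (∀ x : R, ((bR x : R) : Ω) = ((b (Subgroup.inclusion hRC x) : C) : Ω)) →
      ∀ γ ∈ 𝒞.autGroup R, bR * γ * bR⁻¹ ∈ 𝒞.autGroup R)
    (hco : (orderOf b).Coprime p) :
    ∀ (R : Subgroup Ω) (γ : R →* Ω) (hγ : γ ∈ 𝒞.Hom R) (x : R),
      (γ x)⁻¹ * ((b ⟨γ x, (𝒞.le_of_mem hγ).2 x⟩ : C) : Ω) =
        (x : Ω)⁻¹ * ((b ⟨x, (𝒞.le_of_mem hγ).1 x.2⟩ : C) : Ω) := by
  have key : 𝒞 ≤ zSystem 𝒞 Z hZcen b hbZ := by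
    apply alperin hC 𝒞 h𝒞
    intro R hR
    have hfn : 𝒞.IsFullyNormalized R := by
      rcases hR with rfl | hR
      · exact fullyNormalized_self 𝒞
      · exact hR.2.1
    have hRC : R ≤ C := hfn.1
    have hZR : Z ≤ R := by
      rcases hR with rfl | hR
      · exact hZC
      · refine le_trans ?_ (hR.1.2 R (isConj_refl 𝒞 hRC))
        intro z hz
        refine ⟨hZC hz, Subgroup.mem_centralizer_iff.2 fun x hx => ?_⟩
        exact (hZcen z hz x (hRC hx)).symm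
    have hsyl : SylIn p (autInducedBy C R) (𝒞.autGroup R) :=
      (sat_fullyNormalized hC h𝒞 hfn).2.1.2
    have hst : b ∈ stabIn C R := by
      intro x
      have hz := hZR (hbZ x)
      constructor
      · intro hx
        have e : ((b x : C) : Ω) = (x : Ω) * ((x : Ω)⁻¹ * ((b x : C) : Ω)) := by group
        rw [e]
        exact R.mul_mem hx hz
      · intro hx
        have e : (x : Ω) = ((b x : C) : Ω) * ((x : Ω)⁻¹ * ((b x : C) : Ω))⁻¹ := by group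
        rw [e]
        exact R.mul_mem hx (R.inv_mem hz)
    obtain ⟨bR, hbRdef⟩ : ∃ bR : MulAut R, bR = resStab hRC ⟨b, hst⟩ := ⟨_, rfl⟩
    have hbR : ∀ x : R, ((bR x : R) : Ω) = ((b (Subgroup.inclusion hRC x) : C) : Ω) := by
      intro x; rw [hbRdef]; rfl
    have hbRpow : bR ^ orderOf b = 1 := by
      rw [hbRdef, ← map_pow]
      have : (⟨b, hst⟩ : stabIn C R) ^ orderOf b = 1 := Subtype.ext (pow_orderOf_eq_one b)
      rw [this, map_one]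
    intro γ hγ
    have hcm := aut_commute hC 𝒞 Z hZC hZcen b hbZ hco hRC hZR (hZfix R hRC hZR) bR hbR hbRpow
      (hbn R hRC hZR bR hbR) hsyl γ hγ
    rw [mem_autGroup_iff _ hRC]
    refine ⟨(mem_autGroup_iff 𝒞 hRC γ).1 hγ, fun x h1 h2 => ?_⟩
    have h3 := congrArg (fun f : MulAut R => ((f x : R) : Ω)) hcm
    simp only [MulAut.mul_apply] at h3
    rw [hbR] at h3
    have hz := hbZ ⟨x, h2⟩
    have h4 : bR x = x * Subgroup.inclusion hZR ⟨_, hz⟩ := by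
      apply Subtype.ext
      rw [hbR]
      show _ = (x : Ω) * ((x : Ω)⁻¹ * _)
      rw [mul_inv_cancel_left]
      rfl
    rw [h4, map_mul, hZfix R hRC hZR γ hγ] at h3
    show ((γ x : R) : Ω)⁻¹ * ((b (Subgroup.inclusion hRC (γ x)) : C) : Ω) = _
    rw [h3]
    show ((γ x : R) : Ω)⁻¹ * (((γ x : R) : Ω) * _) = _
    rw [inv_mul_cancel_left]
    rfl
  intro R γ hγ x
  exact (key R hγ).2 x _ _

end Cfsg.Agent.Lib.Helper84
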