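import Cfsg.Agent.Lib.Helper84.ChainStab
import Cfsg.Agent.Lib.Helper88.CoprimeSmall
import Cfsg.Agent.Lib.Helper47.PRes

set_option autoImplicit false

/-! More on stabilizers of chains (helper84): normality, and chains with a gap above `Ω₁`. -/

namespace Cfsg.Agent.Lib.Helper84

variable {P : Type*} [Group P]

theorem chainStab_normal (c : ℕ → Subgroup P) (hc : Monotone c) (A : Subgroup (MulAut P))
    (hinv : ∀ α ∈ A, ∀ i, ∀ x ∈ c i, α x ∈ c i) : ((chainStab c hc).subgroupOf A).Normal := by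
  constructor
  intro d hd α
  rw [Subgroup.mem_subgroupOf] at hd ⊢
  show (α : MulAut P) * (d : MulAut P) * (α : MulAut P)⁻¹ ∈ _
  rw [mem_chainStab]
  intro i x hx
  have hy : (α : MulAut P)⁻¹ x ∈ c (i + 1) := hinv _ (Subgroup.inv_mem _ α.2) _ x hx
  constructor
  · have := hinv _ α.2 i _ (hd i _ hy).1
    simpa using this
  · have := hinv _ α.2 i _ (hd i _ hy).2
    simpa [mul_assoc] using this

/-- some `p`-power of an element of the stabilizer of a chain starting at `⊥` fixes `c i` pointwise. -/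
theorem chainStab_exists_pow_fix [Finite P] {p : ℕ} [Fact p.Prime] (hP : IsPGroup p P)
    (c : ℕ → Subgroup P) (hc : Monotone c) (h0 : c 0 = ⊥) {α : MulAut P} (hα : α ∈ chainStab c hc)
    (i : ℕ) : ∃ k, ∀ x ∈ c i, (α ^ p ^ k) x = x := by
  obtain ⟨l, hl⟩ := hP.exists_card_eq
  induction i with
  | zero =>
    refine ⟨0, fun x hx => ?_⟩
    rw [h0, Subgroup.mem_bot] at hx
    rw [hx, map_one]
  | succ i ih =>
    obtain ⟨k, hk⟩ := ih
    refine ⟨k + l, fun x hx => ?_⟩
    have hβ : α ^ p ^ k ∈ chainStab c hc := Subgroup.pow_mem _ hα _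
    have hd := (hβ i x hx).1
    have hfix := hk _ hd
    have hpow : ∀ j : ℕ, ((α ^ p ^ k) ^ j) x = x * (x⁻¹ * (α ^ p ^ k) x) ^ j := by
      intro j
      induction j with
      | zero => simp
      | succ j ihj =>
        rw [pow_succ', MulAut.mul_apply, ihj, map_mul, map_pow, hfix, pow_succ']
        simp [mul_assoc]
    have := hpow (p ^ l)
    rw [← hl, pow_card_eq_one', mul_one, hl, ← pow_mul, ← pow_add] at this
    exact this

/-- `p` odd: automorphisms stabilizing a chain `1 = c 0 ≤ ⋯ ≤ c n ⊇ Ω₁(T)` and centralizing `P/T` form a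
`p`-group. -/
theorem isPGroup_chainStab_gap [Finite P] {p : ℕ} [Fact p.Prime] (hp : p ≠ 2) (hP : IsPGroup p P)
    (c : ℕ → Subgroup P) (hc : Monotone c) (h0 : c 0 = ⊥) (n : ℕ) (T : Subgroup P)
    (hT : ∀ x ∈ T, x ^ p = 1 → x ∈ c n)
    (d : ℕ → Subgroup P) (hd : Monotone d) (hd0 : d 0 = T) (hd1 : d 1 = ⊤) :
    IsPGroup p (chainStab c hc ⊓ chainStab d hd : Subgroup (MulAut P)) := by
  rintro ⟨α, hα1, hα2⟩
  obtain ⟨k, hk⟩ := chainStab_exists_pow_fix hP c hc h0 hα1 n
  have : Finite (MulAut P) := Finite.of_injective (fun α : MulAut P => (α : P → P)) DFunLike.coe_injective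
  obtain ⟨a, ha⟩ := Cfsg.Agent.Lib.Helper47.exists_pow_coprime (p := p) (α ^ p ^ k)
  obtain ⟨β, hβ⟩ : ∃ β, β = (α ^ p ^ k) ^ p ^ a := ⟨_, rfl⟩
  rw [← hβ] at ha
  have hβm : β ^ orderOf β = 1 := pow_orderOf_eq_one β
  have hβ2 : β ∈ chainStab d hd := by
    rw [hβ]; exact Subgroup.pow_mem _ (Subgroup.pow_mem _ hα2 _) _
  have hβT : ∀ x : P, x⁻¹ * β x ∈ T := by
    intro x
    have := (hβ2 0 x (by rw [zero_add, hd1]; trivial)).1
    rwa [hd0] at this
  have hfixn : ∀ x ∈ c n, β x = x := by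
    intro x hx
    rw [hβ]
    have : ∀ j : ℕ, ((α ^ p ^ k) ^ j) x = x := by
      intro j
      induction j with
      | zero => simp
      | succ j ih => rw [pow_succ', MulAut.mul_apply, ih, hk x hx]
    exact this _
  have hfixT : ∀ x ∈ T, β x = x := by
    apply Cfsg.Agent.Lib.Helper88.fixes_of_fixes_small p β (orderOf β) ha hβm (Nat.card T) T
      inferInstance (hP.to_subgroup T) le_rfl
    · intro x hx
      have := T.mul_mem hx (hβT x)
      simpa using this
    · intro x hx h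
      rcases h with h | h
      · exact hfixn x (hT x hx h)
      · exact absurd h.1 hp
  have hβ1 : β = 1 := by
    ext x
    have h1 : β x = x * (x⁻¹ * β x) := by simp
    have h2 := hfixT _ (hβT x)
    have h3 := Cfsg.Agent.Lib.Helper88.eq_one_of_twist p β (orderOf β) ha hβm h1 h2
      (hP (x⁻¹ * β x))
    rw [h3, mul_one] at h1
    simpa using h1
  refine ⟨k + a, ?_⟩
  ext x
  have : α ^ p ^ (k + a) = 1 := by rw [pow_add, pow_mul, ← hβ, hβ1]
  simp [this]

end Cfsg.Agent.Lib.Helper84
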