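import Cfsg.Agent.Lib.Helper84.FusionKSystem

set_option autoImplicit false

/-! Central subgroups of a saturated fusion system (helper84). -/

namespace Cfsg.Agent.Lib.Helper84

open Cfsg Cfsg.FusionSystem

variable {Ω : Type*} [Group Ω] {S : Subgroup Ω}

theorem isConjElt_of_mem (F : FusionSystem S) {R : Subgroup Ω} {φ : R →* Ω} (hφ : φ ∈ F.Hom R)
    (x : R) : F.IsConjElt (x : Ω) (φ x) := by
  have hle : Subgroup.zpowers (x : Ω) ≤ R := (Subgroup.zpowers_le).2 x.2
  exact ⟨_, restrict_mem F hφ hle, rfl⟩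

theorem central_iff [Finite S] {p : ℕ} [Fact p.Prime] (hS : IsPGroup p S) (F : FusionSystem S)
    (hF : F.IsSaturated p) (Q : Subgroup Ω) :
    F.IsCentral Q ↔ (Q ≤ S ∧ ∀ x ∈ Q, ∀ y : Ω, F.IsConjElt x y → y = x) := by
  constructor
  · intro hQ
    refine ⟨hQ.1, ?_⟩
    rintro x hx y ⟨φ, hφ, hφx⟩
    obtain ⟨ψ, -, h1, h2⟩ := hQ.2 _ φ hφ
    have h3 := h1 ⟨x, Subgroup.mem_zpowers x⟩
    have h4 := h2 ⟨x, hx⟩
    rw [hφx] at h3
    rw [← h3]
    exact h4
  · rintro ⟨hQS, hfix⟩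
    have key : ∀ (R : Subgroup Ω) (φ : R →* Ω), φ ∈ F.Hom R → ∀ x : R, (x : Ω) ∈ Q → φ x = x :=
      fun R φ hφ x hx => hfix x hx _ (isConjElt_of_mem F hφ x)
    have hconj' : ∀ g ∈ S, ∀ x : Q, g * (x : Ω) * g⁻¹ = x :=
      fun g hg x => key Q _ (F.conj_mem hQS hg) x x.2
    have hconj : ∀ g ∈ S, ∃ a ∈ (⊥ : Subgroup (MulAut Q)), ∀ x : Q, g * (x : Ω) * g⁻¹ = (a x : Q) :=
      fun g hg => ⟨1, Subgroup.one_mem _, fun x => hconj' g hg x⟩
    have hle : F ≤ kSystem F Q ⊥ hQS hconj := by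
      apply alperin hS F hF
      intro P hP
      have hPS : P ≤ S := by
        rcases hP with rfl | hP
        · exact le_rfl
        · exact hP.1.1
      have hQP : Q ≤ P := by
        rcases hP with rfl | hP
        · exact hQS
        · refine le_trans ?_ (hP.1.2 P (isConj_refl F hPS))
          intro x hx
          refine ⟨hQS hx, ?_⟩
          show x ∈ Subgroup.centralizer (P : Set Ω)
          rw [Subgroup.mem_centralizer_iff]
          intro y hy
          have := hconj' y (hPS hy) ⟨x, hx⟩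
          simp only at this
          calc y * x = y * x * y⁻¹ * y := by simp
            _ = x * y := by rw [this]
      apply autGroup_le_kSystem F Q ⊥ hQS hconj hPS hQP
      intro α hα
      exact ⟨1, Subgroup.one_mem _, fun x =>
        key P _ ((mem_autGroup_iff F hPS α).1 hα) (Subgroup.inclusion hQP x) x.2⟩
    refine ⟨hQS, fun P φ hφ => ?_⟩
    obtain ⟨-, ψ, hψ, h1, a, ha, h2⟩ := hle P hφ
    refine ⟨ψ, hψ, h1, fun x => ?_⟩
    rw [h2, Subgroup.mem_bot.1 ha]
    rfl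

end Cfsg.Agent.Lib.Helper84
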