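import Cfsg.Agent.Lib.Helper84.FusionGenSat5
import Cfsg.Agent.Lib.Helper84.FusionKNorm4
import Cfsg.Agent.Lib.Helper84.FusionNormSys

set_option autoImplicit false

/-! The normalizer system of a fully normalized member of the bad class (helper84). -/

namespace Cfsg.Agent.Lib.Helper84

open Cfsg Cfsg.FusionSystem

variable {Ω : Type*} [Group Ω] {S : Subgroup Ω}

theorem map_eq_of_equiv {N Q P : Subgroup Ω} (hQN : Q ≤ N) (ω : N →* Ω) (e : Q ≃* P)
    (h : ∀ y : Q, ω ⟨y, hQN y.2⟩ = e y) : (Q.subgroupOf N).map ω = P := by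
  ext z
  constructor
  · rintro ⟨x, hx, rfl⟩
    have := h ⟨x, hx⟩
    have h2 : ω x = e ⟨x, hx⟩ := this
    rw [h2]
    exact (e _).2
  · intro hz
    refine ⟨⟨e.symm ⟨z, hz⟩, hQN (e.symm _).2⟩, (e.symm _).2, ?_⟩
    rw [h, MulEquiv.apply_symm_apply]

/-- subgroups strictly containing `P` are good in `N_F(P)` -/
theorem normsys_good [Finite S] {p : ℕ} [Fact p.Prime] (hS : IsPGroup p S) {F : FusionSystem S}
    {P : Subgroup Ω} (h : Ctx F p P) {S₀ : Subgroup Ω} (hS₀ : S₀ = normK S P ⊤)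
    (E : FusionSystem S₀)
    (hE : ∀ (R : Subgroup Ω) (φ : R →* Ω), φ ∈ E.Hom R ↔ φ ∈ normKHom F P ⊤ R)
    {R : Subgroup Ω} (hR : R ≤ S₀) (hPR : P < R) : Good E p R := by
  subst hS₀
  have hPS : P ≤ S := h.fn.1
  have hRS : R ≤ S := hR.trans (normK_le' S P ⊤)
  have hfinR : Finite R := finite_of_le hRS
  have hsup : R ⊔ P = R := sup_eq_left.2 hPR.le
  have hgood : Good F p (R ⊔ P) := by
    rw [hsup]
    exact h.big R hRS (card_lt_card_of_lt hPR)
  obtain ⟨R', hconj, hg⟩ := knorm_exists_good_of_good hS hPS (by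
    intro Q₁ e he
    obtain ⟨ω, hω, hmap⟩ := all_nice hS h Q₁ (isConj_symm ((isConj_iff F).2 ⟨e, he⟩))
    have hQ₁N : Q₁ ≤ normalizerIn S Q₁ := le_normalizerIn he.le_left
    refine ⟨e.symm.trans (restrictEquiv ω (F.injective_of_mem hω) hQ₁N hmap), ⟨?_, trivial⟩,
      normalizerIn S Q₁, hQ₁N, normK_le _ _ _, ω, hω, fun x hP hN => ?_⟩
    · exact (mem_autGroup_iff F hPS _).2 (mor_trans he.symm (mor_restrictEquiv F hω hQ₁N hmap))
    · show _ = ((restrictEquiv ω (F.injective_of_mem hω) hQ₁N hmap (e.symm (e ⟨x, hP⟩)) : P) : Ω)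
      rw [MulEquiv.symm_apply_apply, restrictEquiv_apply]) E hE hR hgood
  have hR' := isConj_le_right hconj
  exact ⟨R', hconj, knorm_fullyAutomized E hE hR' hg, knorm_receptive hS E hE hR' hg⟩

/-- restrictions of maps with larger source give, after transport, maps of `N_F(P)` with source larger than `P` -/
theorem gen_res [Finite S] {p : ℕ} [Fact p.Prime] (hS : IsPGroup p S) {F : FusionSystem S}
    {P : Subgroup Ω} (E : FusionSystem (normalizerIn S P)) (hE : F.IsNormalizerSystem P E)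
    {Q R Q' : Subgroup Ω} (hQR : Q < R) {φ : R →* Ω} (hφ : φ ∈ F.Hom R) (f : Q ≃* Q')
    (hf : ∀ y : Q, ((f y : Q') : Ω) = φ ⟨y, hQR.le y.2⟩) (hQ'S : Q' ≤ S)
    (e : Q ≃* P) {ω : normalizerIn S Q →* Ω} (hω : ω ∈ F.Hom (normalizerIn S Q))
    (hωe : ∀ y : Q, ω ⟨y, le_normalizerIn (hQR.le.trans (F.le_of_mem hφ).1) y.2⟩ = e y)
    (e' : Q' ≃* P) {ω' : normalizerIn S Q' →* Ω} (hω' : ω' ∈ F.Hom (normalizerIn S Q'))
    (hωe' : ∀ y : Q', ω' ⟨y, le_normalizerIn hQ'S y.2⟩ = e' y) :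
    ∃ (M : Subgroup Ω) (hPM : P < M) (θ : M →* Ω), θ ∈ E.Hom M ∧
      ∀ x : P, θ ⟨x, hPM.le x.2⟩ = ((e.symm.trans (f.trans e') : MulAut P) x : P) := by
  have hRS : R ≤ S := (F.le_of_mem hφ).1
  have hQS : Q ≤ S := hQR.le.trans hRS
  have hfinR : Finite R := finite_of_le hRS
  obtain ⟨t, htR, htQ, htN⟩ := exists_mem_normalizer_not_mem (hS.to_le hRS) hQR
  have hQR₁ : Q ≤ R ⊓ normalizerIn S Q := le_inf hQR.le (le_normalizerIn hQS)
  have hω₁ : ω.comp (Subgroup.inclusion (inf_le_right : R ⊓ normalizerIn S Q ≤ normalizerIn S Q)) ∈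
      F.Hom (R ⊓ normalizerIn S Q) := restrict_mem F hω inf_le_right
  obtain ⟨ι₁, hι₁, hinv₁⟩ := F.inv_mem hω₁
  have hφ₁ : φ.comp (Subgroup.inclusion (inf_le_left : R ⊓ normalizerIn S Q ≤ R)) ∈
      F.Hom (R ⊓ normalizerIn S Q) := restrict_mem F hφ inf_le_left
  have hmapφ : (Q.subgroupOf (R ⊓ normalizerIn S Q)).map
      (φ.comp (Subgroup.inclusion (inf_le_left : R ⊓ normalizerIn S Q ≤ R))) = Q' :=
    map_eq_of_equiv hQR₁ _ f (fun y => (hf y).symm)
  have hmapω : (Q.subgroupOf (normalizerIn S Q)).map ω = P :=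
    map_eq_of_equiv (le_normalizerIn hQS) ω e hωe
  have hmapω' : (Q'.subgroupOf (normalizerIn S Q')).map ω' = P :=
    map_eq_of_equiv (le_normalizerIn hQ'S) ω' e' hωe'
  have hval : ∀ r, (φ.comp (Subgroup.inclusion (inf_le_left : R ⊓ normalizerIn S Q ≤ R))) r ∈
      normalizerIn S Q' := fun r => map_mem_normalizerIn F hφ₁ hmapφ r r.2.2.2
  have hθ₀ := F.comp_mem hφ₁ hω' hval
  have hval₁ : ∀ z, ι₁ z ∈ R ⊓ normalizerIn S Q := by
    rintro ⟨_, r, rfl⟩
    rw [hinv₁]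
    exact r.2
  have hθ := F.comp_mem hι₁ hθ₀ hval₁
  have hθapp : ∀ r : ↥(R ⊓ normalizerIn S Q),
      ((ω'.comp ((φ.comp (Subgroup.inclusion (inf_le_left : R ⊓ normalizerIn S Q ≤ R))).codRestrict
        (normalizerIn S Q') hval)).comp (ι₁.codRestrict (R ⊓ normalizerIn S Q) hval₁))
        ⟨(ω.comp (Subgroup.inclusion
          (inf_le_right : R ⊓ normalizerIn S Q ≤ normalizerIn S Q))) r, ⟨r, rfl⟩⟩ =
      ω' ⟨φ ⟨r, r.2.1⟩, hval r⟩ := by
    intro r
    show ω' ⟨φ ⟨ι₁ _, _⟩, _⟩ = _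
    congr 2
    simp only [hinv₁]
  have hPle : ∀ x : P, (x : Ω) = (ω.comp (Subgroup.inclusion
      (inf_le_right : R ⊓ normalizerIn S Q ≤ normalizerIn S Q))) ⟨e.symm x, hQR₁ (e.symm x).2⟩ := by
    intro x
    show (x : Ω) = ω ⟨e.symm x, _⟩
    rw [hωe, MulEquiv.apply_symm_apply]
  have hPM : P ≤ (ω.comp (Subgroup.inclusion
      (inf_le_right : R ⊓ normalizerIn S Q ≤ normalizerIn S Q))).range := by
    intro x hx
    exact ⟨_, (hPle ⟨x, hx⟩).symm⟩
  have hPlt : P < (ω.comp (Subgroup.inclusion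
      (inf_le_right : R ⊓ normalizerIn S Q ≤ normalizerIn S Q))).range := by
    refine lt_of_le_of_ne hPM (fun heq => htQ ?_)
    have h1 : (ω.comp (Subgroup.inclusion
      (inf_le_right : R ⊓ normalizerIn S Q ≤ normalizerIn S Q))) ⟨t, htR, hRS htR, htN⟩ ∈ P := by
      rw [heq]; exact ⟨_, rfl⟩
    have h2 := hPle ⟨_, h1⟩
    have h3 := F.injective_of_mem hω₁ h2
    have h4 := congrArg Subtype.val h3
    simp only at h4
    rw [h4]
    exact (e.symm _).2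
  have hagree : ∀ x : P,
      ((ω'.comp ((φ.comp (Subgroup.inclusion (inf_le_left : R ⊓ normalizerIn S Q ≤ R))).codRestrict
        (normalizerIn S Q') hval)).comp (ι₁.codRestrict (R ⊓ normalizerIn S Q) hval₁))
        ⟨x, hPM x.2⟩ = ((e.symm.trans (f.trans e') : MulAut P) x : P) := by
    intro x
    have h1 : (⟨x, hPM x.2⟩ : ↥(ω.comp (Subgroup.inclusion
      (inf_le_right : R ⊓ normalizerIn S Q ≤ normalizerIn S Q))).range) =
        ⟨(ω.comp (Subgroup.inclusion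
          (inf_le_right : R ⊓ normalizerIn S Q ≤ normalizerIn S Q)))
            ⟨e.symm x, hQR₁ (e.symm x).2⟩, ⟨_, rfl⟩⟩ := Subtype.ext (hPle x)
    rw [h1, hθapp]
    show _ = ((e' (f (e.symm x)) : P) : Ω)
    rw [← hωe']
    congr 1
    exact Subtype.ext (hf _).symm
  refine ⟨_, hPlt, _, ?_, hagree⟩
  rw [hE]
  refine ⟨hθ, ?_, ?_, _, restrict_mem F hθ (sup_le le_rfl hPM), fun x => rfl, ?_⟩
  · rintro _ ⟨r, rfl⟩
    exact map_mem_normalizerIn F hω hmapω _ r.2.2.2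
  · rintro ⟨_, r, rfl⟩
    rw [hθapp]
    exact map_mem_normalizerIn F hω' hmapω' _ (hval r).2
  · ext y
    constructor
    · rintro ⟨x, hx, rfl⟩
      have := hagree ⟨x, hx⟩
      show ((ω'.comp ((φ.comp (Subgroup.inclusion (inf_le_left : R ⊓ normalizerIn S Q ≤ R))).codRestrict
        (normalizerIn S Q') hval)).comp (ι₁.codRestrict (R ⊓ normalizerIn S Q) hval₁))
        ⟨x, _⟩ ∈ P
      rw [this]
      exact Subtype.property _
    · intro hy
      refine ⟨⟨((e.symm.trans (f.trans e') : MulAut P)⁻¹ ⟨y, hy⟩ : P),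
        (le_sup_right : P ≤ _) (Subtype.property _)⟩, Subtype.property _, ?_⟩
      have := hagree ((e.symm.trans (f.trans e') : MulAut P)⁻¹ ⟨y, hy⟩)
      rw [MulAut.apply_inv_self] at this
      exact this

end Cfsg.Agent.Lib.Helper84
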