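import Cfsg.Agent.Lib.Helper84.FusionGenSat6

set_option autoImplicit false

/-! `Aut_F(P)` is generated by restrictions of maps of `N_F(P)` with larger source (helper84). -/

namespace Cfsg.Agent.Lib.Helper84

open Cfsg Cfsg.FusionSystem

variable {Ω : Type*} [Group Ω] {S : Subgroup Ω}

def GenC (F : FusionSystem S) (P : Subgroup Ω) (A₁ : Subgroup (MulAut P)) (Q : Subgroup Ω)
    (φ : Q →* Ω) : Prop :=
  ∀ (hQS : Q ≤ S) (Q' : Subgroup Ω) (hQ'S : Q' ≤ S) (f : Q ≃* Q'),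
    (∀ y : Q, ((f y : Q') : Ω) = φ y) →
    ∀ (e : Q ≃* P) (ω : normalizerIn S Q →* Ω), ω ∈ F.Hom (normalizerIn S Q) →
      (∀ y : Q, ω ⟨y, le_normalizerIn hQS y.2⟩ = e y) →
    ∀ (e' : Q' ≃* P) (ω' : normalizerIn S Q' →* Ω), ω' ∈ F.Hom (normalizerIn S Q') →
      (∀ y : Q', ω' ⟨y, le_normalizerIn hQ'S y.2⟩ = e' y) →
    (e.symm.trans (f.trans e') : MulAut P) ∈ A₁

theorem gen_aut [Finite S] {p : ℕ} [Fact p.Prime] (hS : IsPGroup p S) {F : FusionSystem S}
    {P : Subgroup Ω} (h : Ctx F p P)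
    (E : FusionSystem (normalizerIn S P)) (hE : F.IsNormalizerSystem P E) :
    ∀ α ∈ F.autGroup P, α ∈ Subgroup.closure {α : MulAut P | ∃ (R : Subgroup Ω) (hPR : P < R)
      (φ : R →* Ω), φ ∈ E.Hom R ∧ ∀ x : P, φ ⟨x, hPR.le x.2⟩ = α x} := by
  have hPS : P ≤ S := h.fn.1
  have hSPP : S ∉ {Q | F.IsConj P Q} := by
    intro hc
    exact h.ne (Subgroup.eq_of_le_of_card_ge hPS (isConj_card_eq hc).ge)
  have key := gen_principle F {Q | F.IsConj P Q}
    (fun Q hQ φ hφ => isConj_trans hQ ⟨φ, hφ, rfl⟩) hSPP h.gen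
    (GenC F P (Subgroup.closure {α : MulAut P | ∃ (R : Subgroup Ω) (hPR : P < R)
      (φ : R →* Ω), φ ∈ E.Hom R ∧ ∀ x : P, φ ⟨x, hPR.le x.2⟩ = α x}))
    (by
      intro Q _ R hQR φ hφ hQS Q' hQ'S f hf e ω hω hωe e' ω' hω' hωe'
      obtain ⟨M, hPM, θ, hθ, hag⟩ := gen_res hS E hE hQR hφ f hf hQ'S e hω hωe e' hω' hωe'
      exact Subgroup.subset_closure ⟨M, hPM, θ, hθ, hag⟩)
    (by
      intro Q hQ φ hφ ψ hψ h1 h2 hQS Q' hQ'S f hf e ω hω hωe e' ω' hω' hωe'
      have hQ₁ : F.IsConj P φ.range := isConj_trans hQ ⟨φ, hφ, rfl⟩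
      have hQ₁S : φ.range ≤ S := isConj_le_right hQ₁
      obtain ⟨ω₁, hω₁, hmap₁⟩ := all_nice hS h _ hQ₁
      have a1 := h1 hQS φ.range hQ₁S (equivOfRange φ (F.injective_of_mem hφ) rfl)
        (fun y => equivOfRange_apply _ _ _ _) e ω hω hωe
        (restrictEquiv ω₁ (F.injective_of_mem hω₁) (le_normalizerIn hQ₁S) hmap₁) ω₁ hω₁
        (fun y => rfl)
      have a2 := h2 hQ₁S Q' hQ'S ((equivOfRange φ (F.injective_of_mem hφ) rfl).symm.trans f)
        (by
          intro z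
          obtain ⟨y, rfl⟩ := (equivOfRange φ (F.injective_of_mem hφ) rfl).surjective z
          rw [MulEquiv.trans_apply, MulEquiv.symm_apply_apply, hf]
          show ψ (φ.rangeRestrict y) = _
          congr 1)
        (restrictEquiv ω₁ (F.injective_of_mem hω₁) (le_normalizerIn hQ₁S) hmap₁) ω₁ hω₁
        (fun y => rfl) e' ω' hω' hωe'
      have := Subgroup.mul_mem _ a2 a1
      convert this using 1
      ext x
      simp [MulAut.mul_apply])
    (by
      intro Q hQ φ hφ ψ hψ hinv h1 hQ₁S Q' hQ'S f hf e ω hω hωe e' ω' hω' hωe'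
      have hQQ : Q' = Q := by
        rw [← range_inv φ ψ hinv]
        ext y
        constructor
        · intro hy
          exact ⟨f.symm ⟨y, hy⟩, by rw [← hf, MulEquiv.apply_symm_apply]⟩
        · rintro ⟨z, rfl⟩
          rw [← hf]
          exact (f z).2
      subst hQQ
      have a1 := h1 hQ'S φ.range hQ₁S f.symm
        (by
          intro y
          have h3 : f ⟨φ y, ⟨y, rfl⟩⟩ = y := Subtype.ext (by rw [hf, hinv])
          rw [← h3, MulEquiv.symm_apply_apply, h3]) e' ω' hω' hωe' e ω hω hωe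
      have := Subgroup.inv_mem _ a1
      convert this using 1
      ext x
      rfl)
  intro α hα
  have hα' := (mem_autGroup_iff F hPS α).1 hα
  have := key P (isConj_refl F hPS) _ hα' hPS P hPS α (fun y => rfl) (MulEquiv.refl P)
    (normalizerIn S P).subtype (subtype_mem F (normalizerIn_le S P)) (fun y => rfl)
    (MulEquiv.refl P) (normalizerIn S P).subtype (subtype_mem F (normalizerIn_le S P))
    (fun y => rfl)
  convert this using 1
  ext x
  rfl

end Cfsg.Agent.Lib.Helper84
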