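import Cfsg.Agent.Lib.Helper84.FusionGenSat7
import Cfsg.Agent.Lib.Helper85.PIdxK

set_option autoImplicit false

/-! Transfer between `F` and `N_F(P)` for the saturation criterion (helper84). -/

namespace Cfsg.Agent.Lib.Helper84

open Cfsg Cfsg.FusionSystem

variable {Ω : Type*} [Group Ω] {S : Subgroup Ω}

theorem autInducedBy_normalizerIn (S P : Subgroup Ω) :
    autInducedBy (normalizerIn S P) P = autInducedBy S P := by
  ext α
  rw [mem_autInducedBy_iff, mem_autInducedBy_iff]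
  constructor
  · rintro ⟨g, hg, h⟩
    exact ⟨g, hg.1, h⟩
  · rintro ⟨g, hg, h⟩
    exact ⟨g, ⟨hg, mem_normalizer_of_induces h⟩, h⟩

theorem fullyAutomized_of_normsys {F : FusionSystem S} {P : Subgroup Ω} (hPS : P ≤ S)
    (E : FusionSystem (normalizerIn S P)) (hE : F.IsNormalizerSystem P E) {p : ℕ}
    (hfa : E.IsFullyAutomized p P) : F.IsFullyAutomized p P := by
  obtain ⟨-, h⟩ := hfa
  rw [autGroup_normalizerSystem hPS hE, autInducedBy_normalizerIn] at h
  exact ⟨hPS, h⟩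

theorem receptive_of_normsys [Finite S] {p : ℕ} [Fact p.Prime] (hS : IsPGroup p S)
    {F : FusionSystem S} {P : Subgroup Ω} (h : Ctx F p P)
    (E : FusionSystem (normalizerIn S P)) (hE : F.IsNormalizerSystem P E)
    (hrec : E.IsReceptive P) : F.IsReceptive P := by
  have hPS := h.fn.1
  refine ⟨hPS, fun Q φ hφ hrange => ?_⟩
  have hQS : Q ≤ S := (F.le_of_mem hφ).1
  have hconj : F.IsConj P Q := isConj_symm ⟨φ, hφ, hrange⟩
  obtain ⟨ω, hω, hmap⟩ := all_nice hS h Q hconj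
  have hQN := le_normalizerIn hQS
  obtain ⟨e, he⟩ : ∃ e, e = restrictEquiv ω (F.injective_of_mem hω) hQN hmap := ⟨_, rfl⟩
  have hee : ∀ x : Q, ((e x : P) : Ω) = ω ⟨x, hQN x.2⟩ := by
    intro x; rw [he]; rfl
  have hemor : Mor F e.toMonoidHom := by
    rw [he]; exact mor_restrictEquiv F hω hQN hmap
  obtain ⟨f, hf⟩ : ∃ f, f = equivOfRange φ (F.injective_of_mem hφ) hrange := ⟨_, rfl⟩
  have hff : ∀ x : Q, ((f x : P) : Ω) = φ x := by
    intro x; rw [hf]; rfl
  have hfmor : Mor F f.toMonoidHom := by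
    rw [hf]; exact mor_equivOfRange F hφ hrange
  have hα : Mor F (e.symm.trans f).toMonoidHom := mor_trans hemor.symm hfmor
  have hαE : Mor E (e.symm.trans f).toMonoidHom := by
    have := (mem_autGroup_iff F hPS (e.symm.trans f)).2 hα
    rw [← autGroup_normalizerSystem hPS hE] at this
    exact (mem_autGroup_iff E (le_normalizerIn hPS) _).1 this
  have hω₁ : ω.comp (Subgroup.inclusion (extender_le S Q φ)) ∈ F.Hom (extender S Q φ) :=
    restrict_mem F hω _
  obtain ⟨χ, hχ, hχ'⟩ := exists_extension_of_receptive E hrec (e.symm.trans f) hαE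
    (N := (ω.comp (Subgroup.inclusion (extender_le S Q φ))).range)
    (by
      rintro _ ⟨g, rfl⟩
      have h1 := map_mem_normalizerIn F hω hmap (Subgroup.inclusion (extender_le S Q φ) g)
        (extender_le S Q φ g.2).2
      exact ⟨h1, h1.2⟩)
    (by
      rintro _ ⟨⟨g, hg⟩, rfl⟩
      obtain ⟨hgS, hgN, k, hk, hk'⟩ := (mem_extender_iff S Q φ g).1 hg
      have hkN : k ∈ Subgroup.normalizer (P : Set Ω) := by
        apply mem_normalizer_of_induces (α := f.symm.trans ((conjAut Q g hgN).trans f))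
        intro y
        show ((f (conjAut Q g hgN (f.symm y)) : P) : Ω) = _
        rw [hff]
        have h1 := hk' (f.symm y) (conj_mem_of_mem_normalizer hgN (f.symm y).2)
        have h2 : conjAut Q g hgN (f.symm y) = ⟨g * (f.symm y : Q) * g⁻¹,
          conj_mem_of_mem_normalizer hgN (f.symm y).2⟩ := Subtype.ext (conjAut_apply _ _ _ _)
        rw [h2, h1, ← hff, MulEquiv.apply_symm_apply]
      refine ⟨k, ⟨hk, hkN⟩, fun x hx => ?_⟩
      have hgx : g * ((e.symm x : Q) : Ω) * g⁻¹ ∈ Q := conj_mem_of_mem_normalizer hgN (e.symm x).2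
      have h1 : (⟨(ω.comp (Subgroup.inclusion (extender_le S Q φ))) ⟨g, hg⟩ * (x : Ω) *
          ((ω.comp (Subgroup.inclusion (extender_le S Q φ))) ⟨g, hg⟩)⁻¹, hx⟩ : P) =
          e ⟨g * ((e.symm x : Q) : Ω) * g⁻¹, hgx⟩ := by
        apply Subtype.ext
        rw [hee]
        have h2 : (x : Ω) = ω ⟨(e.symm x : Q), hQN (e.symm x).2⟩ := by
          rw [← hee, MulEquiv.apply_symm_apply]
        show ω ⟨g, _⟩ * (x : Ω) * (ω ⟨g, _⟩)⁻¹ = _
        rw [h2, ← map_inv, ← map_mul, ← map_mul]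
        congr 1
      rw [h1]
      show ((f (e.symm (e _)) : P) : Ω) = k * ((f (e.symm x) : P) : Ω) * k⁻¹
      rw [MulEquiv.symm_apply_apply, hff, hff]
      exact hk' _ hgx)
  have hχF : χ ∈ F.Hom _ := by
    rw [hE] at hχ
    exact hχ.1
  refine ⟨_, F.comp_mem hω₁ hχF (fun x => ⟨x, rfl⟩), fun x hP hN => ?_⟩
  show χ ⟨ω ⟨x, _⟩, _⟩ = _
  have h3 : ω ⟨x, extender_le S Q φ hN⟩ = ((e ⟨x, hP⟩ : P) : Ω) := (hee ⟨x, hP⟩).symm
  have h4 := hχ' _ (e ⟨x, hP⟩).2 (by rw [← h3]; exact ⟨⟨x, hN⟩, rfl⟩)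
  have h5 : (⟨ω ⟨x, extender_le S Q φ hN⟩, ⟨⟨x, hN⟩, rfl⟩⟩ :
      ↥(ω.comp (Subgroup.inclusion (extender_le S Q φ))).range) =
      ⟨((e ⟨x, hP⟩ : P) : Ω), by rw [← h3]; exact ⟨⟨x, hN⟩, rfl⟩⟩ := Subtype.ext h3
  refine (congrArg χ h5).trans (h4.trans ?_)
  show ((f (e.symm (e ⟨x, hP⟩)) : P) : Ω) = _
  rw [MulEquiv.symm_apply_apply, hff]

theorem hU_transfer [Finite S] {p : ℕ} [Fact p.Prime] (hS : IsPGroup p S)
    {F : FusionSystem S} {P : Subgroup Ω} (h : Ctx F p P)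
    (hstar : F.IsCentric P → ∃ Q, F.IsConj P Q ∧ ¬ (autInducedBy S Q ⊓
      (pCore p ↥(F.autGroup Q)).map (F.autGroup Q).subtype ≤ Inn Q))
    (E : FusionSystem (normalizerIn S P)) (hE : F.IsNormalizerSystem P E) :
    ¬ (autInducedBy (normalizerIn S P) P ⊓
      (pCore p ↥(E.autGroup P)).map (E.autGroup P).subtype ≤ Inn P) ∨
      ¬ centralizerIn (normalizerIn S P) P ≤ P := by
  have hPS := h.fn.1
  by_cases hc : F.IsCentric P
  · left
    obtain ⟨Q, hconj, hQ⟩ := hstar hc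
    rw [autGroup_normalizerSystem hPS hE, autInducedBy_normalizerIn]
    intro hle
    apply hQ
    rintro β ⟨hβ1, hβ2⟩
    obtain ⟨ω, hω, hmap⟩ := all_nice hS h Q hconj
    have hQS := isConj_le_right hconj
    have hQN := le_normalizerIn hQS
    obtain ⟨e, he⟩ : ∃ e, e = restrictEquiv ω (F.injective_of_mem hω) hQN hmap := ⟨_, rfl⟩
    have hee : ∀ x : Q, ((e x : P) : Ω) = ω ⟨x, hQN x.2⟩ := by
      intro x; rw [he]; rfl
    have hemor : Mor F e.toMonoidHom := by
      rw [he]; exact mor_restrictEquiv F hω hQN hmap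
    have h2 := Helper85.pCore_map_equiv (MulAut.congr e) (map_congr_autGroup hemor) hβ2
    have h1 : MulAut.congr e β ∈ autInducedBy S P := by
      obtain ⟨g, hg, hg'⟩ := (mem_autInducedBy_iff S Q β).1 hβ1
      have hgN : g ∈ normalizerIn S Q := ⟨hg, mem_normalizer_of_induces hg'⟩
      rw [mem_autInducedBy_iff]
      refine ⟨ω ⟨g, hgN⟩, (F.le_of_mem hω).2 _, fun x => ?_⟩
      show ((e (β (e.symm x)) : P) : Ω) = _
      have h3 : (x : Ω) = ω ⟨(e.symm x : Q), hQN (e.symm x).2⟩ := by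
        rw [← hee, MulEquiv.apply_symm_apply]
      rw [hee, h3, ← map_inv, ← map_mul, ← map_mul]
      congr 1
      apply Subtype.ext
      simp [hg']
    obtain ⟨y, hy⟩ := hle ⟨h1, h2⟩
    refine ⟨e.symm y, ?_⟩
    ext x
    have h4 := DFunLike.congr_fun hy (e x)
    simp only [MulAut.conj_apply, MulAut.congr_apply, MulEquiv.trans_apply,
      MulEquiv.symm_apply_apply] at h4
    have h5 := congrArg e.symm h4
    simp only [map_mul, map_inv, MulEquiv.symm_apply_apply] at h5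
    rw [MulAut.conj_apply, h5]
  · right
    have : ∃ Q, F.IsConj P Q ∧ ¬ centralizerIn S Q ≤ Q := by
      by_contra hcon
      push Not at hcon
      exact hc ⟨hPS, hcon⟩
    obtain ⟨Q, hconj, hQ⟩ := this
    obtain ⟨c, hc1, hc2⟩ := SetLike.not_le_iff_exists.1 hQ
    obtain ⟨ω, hω, hmap⟩ := all_nice hS h Q hconj
    intro hle
    have hcN : c ∈ normalizerIn S Q := centralizerIn_le_normalizerIn S Q hc1
    have h1 := map_mem_centralizerIn F hω hmap ⟨c, hcN⟩ hc1.2
    have h2 : ω ⟨c, hcN⟩ ∈ P := hle ⟨centralizerIn_le_normalizerIn S P h1, h1.2⟩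
    rw [← hmap] at h2
    obtain ⟨x, hx, hxe⟩ := h2
    have h3 := F.injective_of_mem hω hxe
    apply hc2
    have h4 : (x : Ω) = c := congrArg Subtype.val h3
    rw [← h4]
    exact hx

end Cfsg.Agent.Lib.Helper84
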