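import Cfsg.Agent.Lib.Helper84.FusionGenSat8
import Cfsg.Agent.S5096

set_option autoImplicit false

/-! Assembly of the saturation criterion, modulo the case of a normal subgroup (helper84). -/

namespace Cfsg.Agent.Lib.Helper84

open Cfsg Cfsg.FusionSystem

variable {Ω : Type*} [Group Ω] {S : Subgroup Ω}

/-- the statement for a normal subgroup `P` of a system `E` over `N` -/
def NormalGoodStmt {N : Subgroup Ω} (E : FusionSystem N) (p : ℕ) (P : Subgroup Ω) : Prop :=
  (∀ (R : Subgroup Ω), P ≤ R → ∀ φ : R →* Ω, φ ∈ E.Hom R → (P.subgroupOf R).map φ = P) →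
  (∀ R, R ≤ N → P < R → ∃ Q, E.IsConj R Q ∧ E.IsFullyAutomized p Q ∧ E.IsReceptive Q) →
  (∀ α ∈ E.autGroup P, α ∈ Subgroup.closure {α : MulAut P | ∃ (R : Subgroup Ω) (hPR : P < R)
    (φ : R →* Ω), φ ∈ E.Hom R ∧ ∀ x : P, φ ⟨x, hPR.le x.2⟩ = α x}) →
  (¬ (autInducedBy N P ⊓ (pCore p ↥(E.autGroup P)).map (E.autGroup P).subtype ≤ Inn P) ∨
    ¬ centralizerIn N P ≤ P) →
  E.IsFullyAutomized p P ∧ E.IsReceptive P

theorem ctx_good [Finite S] {p : ℕ} [Fact p.Prime] (hS : IsPGroup p S)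
    {F : FusionSystem S} {P : Subgroup Ω} (h : Ctx F p P)
    (hstar : F.IsCentric P → ∃ Q, F.IsConj P Q ∧ ¬ (autInducedBy S Q ⊓
      (pCore p ↥(F.autGroup Q)).map (F.autGroup Q).subtype ≤ Inn Q))
    (NG : ∀ E : FusionSystem (normalizerIn S P), NormalGoodStmt E p P) : Good F p P := by
  have hPS := h.fn.1
  obtain ⟨E, hE⟩ := Cfsg.Agent.S5096.result F P hPS
  have hn : ∀ (R : Subgroup Ω), P ≤ R → ∀ φ : R →* Ω, φ ∈ E.Hom R →
      (P.subgroupOf R).map φ = P := by
    intro R hPR φ hφ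
    rw [hE] at hφ
    obtain ⟨-, -, -, ψ, hψ, hag, hmap⟩ := hφ
    ext y
    constructor
    · rintro ⟨x, hx, rfl⟩
      rw [← hag]
      exact hmap.le ⟨_, hx, rfl⟩
    · intro hy
      obtain ⟨x, hx, rfl⟩ := hmap.ge hy
      refine ⟨⟨x, hPR hx⟩, hx, ?_⟩
      rw [← hag]
      congr 1
  obtain ⟨h1, h2⟩ := NG E hn
    (fun R hR hPR => normsys_good hS h (normK_top S P).symm E
      (fun R φ => by rw [hE R, normalizerHom_eq]) hR hPR)
    (fun α hα => by
      rw [autGroup_normalizerSystem hPS hE] at hα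
      exact gen_aut hS h E hE α hα)
    (hU_transfer hS h hstar E hE)
  exact ⟨P, isConj_refl F hPS, fullyAutomized_of_normsys hPS E hE h1,
    receptive_of_normsys hS h E hE h2⟩

theorem sat_criterion [Finite S] (p : ℕ) [Fact p.Prime] (hS : IsPGroup p S) (F : FusionSystem S)
    (HH : Set (Subgroup Ω))
    (hconj : ∀ P ∈ HH, ∀ Q, F.IsConj P Q → Q ∈ HH)
    (hsat : ∀ P ∈ HH, ∃ Q, F.IsConj P Q ∧ F.IsFullyAutomized p Q ∧ F.IsReceptive Q)
    (hgen : ∀ E : FusionSystem S, (∀ P ∈ HH, F.Hom P ⊆ E.Hom P) → F ≤ E)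
    (hstar : ∀ P : Subgroup Ω, F.IsCentric P → P ∉ HH → ∃ Q, F.IsConj P Q ∧
      ¬ (autInducedBy S Q ⊓ (pCore p ↥(F.autGroup Q)).map (F.autGroup Q).subtype ≤ Inn Q))
    (NG : ∀ (P : Subgroup Ω), P ≤ S → ∀ E : FusionSystem (normalizerIn S P),
      NormalGoodStmt E p P) : F.IsSaturated p := by
  suffices H : ∀ (n : ℕ) (P : Subgroup Ω), P ≤ S → Nat.card S - Nat.card P = n → Good F p P from
    fun P hP => H _ P hP rfl
  intro n
  induction n using Nat.strong_induction_on with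
  | _ n ih =>
    intro P hPS hn
    by_cases hPH : P ∈ HH
    · exact hsat P hPH
    obtain ⟨P', hPP', hfn⟩ := exists_fullyNormalized F hPS
    have hP'S : P' ≤ S := hfn.1
    have hP'H : P' ∉ HH := fun hc => hPH (hconj P' hc P (isConj_symm hPP'))
    have hcard : Nat.card P = Nat.card P' := isConj_card_eq hPP'
    refine Good.of_isConj (ctx_good hS ⟨hfn, ?_, ?_, ?_⟩ (fun hc => hstar P' hc hP'H)
      (NG P' hP'S)) (isConj_symm hPP')
    · intro R hRS hlt
      have h1 : Nat.card R ≤ Nat.card S := Subgroup.card_le_of_le hRS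
      exact ih (Nat.card S - Nat.card R) (by omega) R hRS rfl
    · intro E hE
      apply hgen E
      intro R hR
      exact hE R (fun hc => hP'H (hconj R hR P' (isConj_symm hc)))
    · intro heq
      subst heq
      have hcen : F.IsCentric P' := by
        refine ⟨le_rfl, fun Q hQ => ?_⟩
        have hQS := isConj_le_right hQ
        have : Q = P' := Subgroup.eq_of_le_of_card_ge hQS (isConj_card_eq hQ).le
        rw [this]
        exact centralizerIn_le _ _
      obtain ⟨Q, hQ, hnot⟩ := hstar P' hcen hP'H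
      have hQS := isConj_le_right hQ
      have hQe : Q = P' := Subgroup.eq_of_le_of_card_ge hQS (isConj_card_eq hQ).le
      subst hQe
      apply hnot
      rintro α ⟨hα, -⟩
      obtain ⟨g, hg, hg'⟩ := (mem_autInducedBy_iff _ _ α).1 hα
      refine ⟨⟨g, hg⟩, ?_⟩
      ext x
      rw [hg']
      rfl

end Cfsg.Agent.Lib.Helper84
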