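import Cfsg.Agent.Lib.Helper84.FusionSeries2
import Cfsg.Agent.Lib.Helper84.ChainStab2
import Cfsg.Prelude.Def_PLocal

set_option autoImplicit false

/-! `p` odd: a strongly closed subgroup `P` is normal iff `Ω₁(P)` has a `P`-central series of strongly closed
subgroups (helper84). -/

namespace Cfsg.Agent.Lib.Helper84

open Cfsg Cfsg.FusionSystem

variable {Ω : Type*} [Group Ω] {S : Subgroup Ω}

theorem le_of_forall_normalizer_mem [Finite S] {p : ℕ} [Fact p.Prime] (hS : IsPGroup p S)
    {Q P : Subgroup Ω} (hPS : P ≤ S) (hQS : Q ≤ S) (hSN : S ≤ Subgroup.normalizer (Q : Set Ω))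
    (hNQ : ∀ g ∈ Q, g ∈ Subgroup.normalizer (P : Set Ω) → g ∈ P) : Q ≤ P := by
  have hPQS : P ⊔ Q ≤ S := sup_le hPS hQS
  by_contra hcon
  have hlt : P < P ⊔ Q := lt_of_le_of_ne le_sup_left (fun h => hcon (h ▸ le_sup_right))
  have : Finite (P ⊔ Q : Subgroup Ω) := finite_of_le hPQS
  obtain ⟨t, ht, htP, htN⟩ := exists_mem_normalizer_not_mem (hS.to_le hPQS) hlt
  obtain ⟨x, hx, q, hq, rfl⟩ := mem_sup_of_le_normalizer (hPS.trans hSN) ht
  apply htP
  refine P.mul_mem hx (hNQ q hq ?_)
  have := Subgroup.mul_mem _ (Subgroup.inv_mem _ (Subgroup.le_normalizer hx)) htN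
  simpa using this

theorem stronglyClosed_inf {F : FusionSystem S} {A B : Subgroup Ω} (hA : F.StronglyClosed A)
    (hB : F.StronglyClosed B) : F.StronglyClosed (A ⊓ B) :=
  ⟨inf_le_left.trans hA.1, fun R hR φ hφ x =>
    ⟨hA.2 R (hR.trans inf_le_left) φ hφ x, hB.2 R (hR.trans inf_le_right) φ hφ x⟩⟩

theorem omegaOne_le (p : ℕ) (P : Subgroup Ω) : omegaOne p P ≤ P := by
  unfold omegaOne
  rw [Subgroup.closure_le]
  exact fun x hx => hx.1

theorem omegaOne_eq_map (p : ℕ) (P : Subgroup Ω) :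
    omegaOne p P = (Subgroup.closure {y : P | y ^ p = 1}).map P.subtype := by
  unfold omegaOne
  rw [MonoidHom.map_closure]
  congr 1
  ext x
  constructor
  · rintro ⟨hx, hx'⟩
    exact ⟨⟨x, hx⟩, Subtype.ext hx', rfl⟩
  · rintro ⟨y, hy, rfl⟩
    exact ⟨y.2, congrArg Subtype.val hy⟩

instance omega_characteristic (p : ℕ) (P : Type*) [Group P] :
    (Subgroup.closure {y : P | y ^ p = 1}).Characteristic := by
  rw [Subgroup.characteristic_iff_map_le]
  intro φ
  rw [MonoidHom.map_closure]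
  apply Subgroup.closure_mono
  rintro _ ⟨y, hy, rfl⟩
  show (φ y) ^ p = 1
  rw [← map_pow, show y ^ p = 1 from hy, map_one]

theorem normal_omegaOne {F : FusionSystem S} {P : Subgroup Ω} (hP : F.IsNormal P) (p : ℕ) :
    F.IsNormal (omegaOne p P) := by
  rw [omegaOne_eq_map]
  exact normal_map_characteristic hP _

theorem omega_series_le_centric_radical [Finite S] {p : ℕ} [Fact p.Prime] (hp : p ≠ 2)
    (hS : IsPGroup p S) {F : FusionSystem S} {P R : Subgroup Ω} (hP : F.StronglyClosed P)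
    (Qc : ℕ → Subgroup Ω) (n : ℕ) (hmono : Monotone Qc)
    (h0 : Qc 0 = ⊥) (hn : Qc n = omegaOne p P) (hsc : ∀ i, F.StronglyClosed (Qc i))
    (hcomm : ∀ i, ⁅Qc (i + 1), P⁆ ≤ Qc i) (hc : F.IsCentric R) (hr : F.IsRadical p R) : P ≤ R := by
  have hRS : R ≤ S := hc.1
  have hPS : P ≤ S := hP.1
  have hcen' : centralizerIn S R ≤ R := hc.2 R (isConj_refl F hRS)
  have hfinR : Finite R := finite_of_le hRS
  have hSN := stronglyClosed_le_normalizer hP
  let c : ℕ → Subgroup R := fun i => (Qc i).subgroupOf R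
  have hcmono : Monotone c := fun i j hij x hx => hmono hij hx
  have hc0 : c 0 = ⊥ := by show (Qc 0).subgroupOf R = ⊥; rw [h0, Subgroup.bot_subgroupOf]
  let d : ℕ → Subgroup R := fun i => if i = 0 then P.subgroupOf R else ⊤
  have hd0 : d 0 = P.subgroupOf R := if_pos rfl
  have hdpos : ∀ i, i ≠ 0 → d i = ⊤ := fun i hi => if_neg hi
  have hdmono : Monotone d := by
    intro i j hij
    by_cases hj : j = 0
    · have : i = 0 := by omega
      rw [this, hj]
    · rw [hdpos j hj]; exact le_top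
  have hDp : IsPGroup p (chainStab c hcmono ⊓ chainStab d hdmono : Subgroup (MulAut R)) := by
    apply isPGroup_chainStab_gap hp (hS.to_le hRS) c hcmono hc0 n (P.subgroupOf R) _ d hdmono hd0
      (hdpos 1 one_ne_zero)
    intro x hx hxp
    show (x : Ω) ∈ Qc n
    rw [hn]
    exact Subgroup.subset_closure ⟨hx, congrArg Subtype.val hxp⟩
  have hinvsc : ∀ T : Subgroup Ω, F.StronglyClosed T → ∀ α ∈ F.autGroup R, ∀ x : R, (x : Ω) ∈ T →
      ((α x : R) : Ω) ∈ T := by
    intro T hT α hα x hx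
    exact hT.2 (R ⊓ T) inf_le_right _
        (restrict_mem F ((mem_autGroup_iff F hRS α).1 hα) inf_le_left) ⟨x, x.2, hx⟩
  have hn1 := chainStab_normal c hcmono (F.autGroup R) (fun α hα i x hx => hinvsc _ (hsc i) α hα x hx)
  have hn2 := chainStab_normal d hdmono (F.autGroup R) (by
    intro α hα i x hx
    by_cases hi : i = 0
    · subst hi
      rw [hd0] at hx ⊢
      exact hinvsc _ hP α hα x hx
    · rw [hdpos i hi]; trivial)
  have hnormal : ((chainStab c hcmono ⊓ chainStab d hdmono).subgroupOf (F.autGroup R)).Normal := by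
    have : (chainStab c hcmono ⊓ chainStab d hdmono).subgroupOf (F.autGroup R) =
        (chainStab c hcmono).subgroupOf (F.autGroup R) ⊓
          (chainStab d hdmono).subgroupOf (F.autGroup R) := rfl
    rw [this]
    infer_instance
  have hDcore : (chainStab c hcmono ⊓ chainStab d hdmono).subgroupOf (F.autGroup R) ≤
      pCore p (F.autGroup R) :=
    le_sSup ⟨hnormal, hDp.comap_of_injective _ (Subgroup.subtype_injective _)⟩
  have hDinn : ∀ δ ∈ chainStab c hcmono ⊓ chainStab d hdmono, δ ∈ F.autGroup R → δ ∈ Inn R := by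
    intro δ hδ hδA
    rw [← hr.2]
    exact ⟨⟨δ, hδA⟩, hDcore hδ, rfl⟩
  have hcomp1 : ∀ h ∈ P, ∀ i, ∀ x : R, x ∈ c (i + 1) → (x : Ω)⁻¹ * (h * (x : Ω) * h⁻¹) ∈ Qc i := by
    intro h hh i x hx
    apply hcomm i
    have := Subgroup.commutator_mem_commutator ((Qc (i + 1)).inv_mem hx) hh
    rw [commutatorElement_def] at this
    simpa [mul_assoc] using this
  have hcomp2 : ∀ h ∈ P, ∀ x : R, (x : Ω)⁻¹ * (h * (x : Ω) * h⁻¹) ∈ P := by
    intro h hh x
    have h1 : (x : Ω)⁻¹ * h * (x : Ω) ∈ P :=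
      inv_conj_mem_of_mem_normalizer (hSN (hRS x.2)) hh
    have := P.mul_mem h1 (P.inv_mem hh)
    simpa [mul_assoc] using this
  apply le_of_forall_normalizer_mem hS hRS hPS hSN
  intro g hgP hgN
  apply mem_of_conjAut_mem_inn hcen' (hPS hgP) hRS hgN
  apply hDinn _ _ (autInducedBy_le_autGroup F hRS (conjAut_mem_autInducedBy hgN (hPS hgP)))
  constructor
  · show _ ∈ chainStab c hcmono
    rw [mem_chainStab]
    intro i x hx
    constructor
    · exact hcomp1 g hgP i x hx
    · have := hcomp1 g⁻¹ (P.inv_mem hgP) i x hx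
      rw [inv_inv] at this
      exact this
  · show _ ∈ chainStab d hdmono
    rw [mem_chainStab]
    intro i x _
    by_cases hi : i = 0
    · subst hi
      rw [hd0]
      constructor
      · exact hcomp2 g hgP x
      · have := hcomp2 g⁻¹ (P.inv_mem hgP) x
        rw [inv_inv] at this
        exact this
    · rw [hdpos i hi]
      exact ⟨trivial, trivial⟩

theorem normal_iff_omega_series [Finite S] {p : ℕ} [Fact p.Prime] (hS : IsPGroup p S)
    (F : FusionSystem S) (hF : F.IsSaturated p) (hp : p ≠ 2) (P : Subgroup Ω)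
    (hP : F.StronglyClosed P) :
    F.IsNormal P ↔ ∃ (n : ℕ) (Q : Fin (n + 1) → Subgroup Ω), Q 0 = ⊥ ∧
      Q (Fin.last n) = omegaOne p P ∧ Monotone Q ∧ (∀ i : Fin (n + 1), F.StronglyClosed (Q i)) ∧
      ∀ i : Fin n, ⁅Q i.succ, P⁆ ≤ Q i.castSucc := by
  have hcommΩ : ∀ W : Subgroup Ω, F.StronglyClosed W → ⁅W, P⁆ ≤ W := by
    intro W hW
    rw [Subgroup.commutator_le]
    intro a ha b hb
    rw [commutatorElement_def]
    have h1 : b * a⁻¹ * b⁻¹ ∈ W :=
      conj_mem_of_mem_normalizer (stronglyClosed_le_normalizer hW (hP.1 hb)) (W.inv_mem ha)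
    have := W.mul_mem ha h1
    simpa [mul_assoc] using this
  constructor
  · intro hN
    obtain ⟨n, Qs, h0, hn, hmono, h⟩ := (normal_iff_series hS F hF P).1 hN
    have hΩ : F.StronglyClosed (omegaOne p P) := normal_stronglyClosed (normal_omegaOne hN p)
    refine ⟨n, fun i => Qs i ⊓ omegaOne p P, ?_, ?_, ?_, ?_, ?_⟩
    · show Qs 0 ⊓ _ = ⊥
      rw [h0, bot_inf_eq]
    · show Qs (Fin.last n) ⊓ _ = _
      rw [hn]
      exact inf_eq_right.2 (omegaOne_le p P)
    · intro i j hij
      exact inf_le_inf_right _ (hmono hij)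
    · intro i
      apply stronglyClosed_inf _ hΩ
      induction i using Fin.cases with
      | zero => rw [h0]; exact stronglyClosed_bot F
      | succ j => exact (h j).1
    · intro i
      apply le_inf
      · refine le_trans (Subgroup.commutator_mono inf_le_left le_rfl) ?_
        rw [Subgroup.commutator_comm]
        exact (h i).2
      · exact le_trans (Subgroup.commutator_mono inf_le_right le_rfl) (hcommΩ _ hΩ)
  · rintro ⟨n, Qs, h0, hn, hmono, hsc, h⟩
    let Qc : ℕ → Subgroup Ω := fun i => Qs ⟨min i n, by omega⟩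
    have hQc_le : ∀ i (hi : i ≤ n), Qc i = Qs ⟨i, by omega⟩ := by
      intro i hi
      show Qs _ = Qs _
      congr 1
      ext
      exact min_eq_left hi
    have hQc_ge : ∀ i, n ≤ i → Qc i = omegaOne p P := by
      intro i hi
      rw [← hn]
      show Qs _ = Qs _
      congr 1
      ext
      exact min_eq_right hi
    have hcomm : ∀ i, ⁅Qc (i + 1), P⁆ ≤ Qc i := by
      intro i
      by_cases hi : i < n
      · rw [hQc_le i hi.le, hQc_le (i + 1) hi]
        exact h ⟨i, hi⟩
      · rw [hQc_ge i (by omega), hQc_ge (i + 1) (by omega)]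
        exact hcommΩ _ (hn ▸ hsc _)
    have hmonoc : Monotone Qc := by
      intro i j hij
      apply hmono
      show min i n ≤ min j n
      omega
    have hQc0 : Qc 0 = ⊥ := by
      rw [hQc_le 0 (Nat.zero_le n)]
      exact h0
    rw [normal_iff_stronglyClosed hS F hF]
    refine ⟨hP, fun R hc hr => ?_⟩
    exact omega_series_le_centric_radical hp hS hP Qc n hmonoc hQc0 (hQc_ge n le_rfl)
      (fun i => hsc _) hcomm hc hr

end Cfsg.Agent.Lib.Helper84
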