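import Cfsg.Agent.Lib.Helper84.FusionKNorm
import Cfsg.Agent.Lib.Helper84.StronglyEmbedded2

set_option autoImplicit false

/-! If `Aut_F(Y) ∩ K` is a `p`-group then isomorphisms onto `Y` extend, up to `S`-conjugation and a
fixed isomorphism, to `N_S^K` (helper84). -/

namespace Cfsg.Agent.Lib.Helper84

open Cfsg Cfsg.FusionSystem
open Cfsg.Agent.Lib.Helper85 (SylIn)

variable {Ω : Type*} [Group Ω] {S : Subgroup Ω}

theorem le_of_sylIn_of_isPGroup {G : Type*} [Group G] {p : ℕ} {K H : Subgroup G}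
    (h : SylIn p K H) (hH : IsPGroup p H) : H ≤ K := by
  obtain ⟨R, hR⟩ := h
  have htop : IsPGroup p (⊤ : Subgroup H) := by
    rintro ⟨x, -⟩
    obtain ⟨k, hk⟩ := hH x
    exact ⟨k, Subtype.ext hk⟩
  have h1 : (⊤ : Subgroup H) = R := R.3 htop le_top
  intro x hx
  have h2 : (⟨x, hx⟩ : H) ∈ K.subgroupOf H := by
    rw [← hR, ← h1]; trivial
  exact h2

theorem exists_pgroup_target [Finite S] {p : ℕ} [Fact p.Prime] (hS : IsPGroup p S)
    {F : FusionSystem S} (hF : F.IsSaturated p) {Y : Subgroup Ω} (hY : Y ≤ S)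
    (K : Subgroup (MulAut Y)) (hK : IsPGroup p (F.autGroup Y ⊓ K : Subgroup (MulAut Y))) :
    ∃ (X₀ : Subgroup Ω) (e : Y ≃* X₀), Mor F e.toMonoidHom ∧
      (∀ β ∈ F.autGroup Y ⊓ K, MulAut.congr e β ∈ autInducedBy S X₀) ∧
      ∀ (Y' : Subgroup Ω) (f : Y' ≃* Y), Mor F f.toMonoidHom →
        ∃ N : Subgroup Ω, Y' ≤ N ∧ normK S Y' (trK f.symm K) ≤ N ∧ ∃ ψ ∈ F.Hom N, ∃ s ∈ S,
          ∀ (x : Ω) (hx : x ∈ Y') (hN : x ∈ N),
            ψ ⟨x, hN⟩ = s * ((e (f ⟨x, hx⟩) : X₀) : Ω) * s⁻¹ := by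
  obtain ⟨X₀, e, he, hgood⟩ := exists_KGood hS hF hY K
  have heq : F.autGroup X₀ ⊓ trK e K = trK e (F.autGroup Y ⊓ K) := by
    rw [trK_inf, trK_autGroup he]
  have hp : IsPGroup p (F.autGroup X₀ ⊓ trK e K : Subgroup (MulAut X₀)) := by
    rw [heq]
    exact hK.map _
  have hle := le_of_sylIn_of_isPGroup hgood.2 hp
  refine ⟨X₀, e, he, ?_, ?_⟩
  · intro β hβ
    have : MulAut.congr e β ∈ F.autGroup X₀ ⊓ trK e K := by
      rw [heq]; exact congr_mem_trK e hβ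
    exact (hle this).1
  · intro Y' f hf
    obtain ⟨χ, hχ, N, hYN, hN, ψ, hψ, hψ'⟩ := hgood.exists_extension hS (f.trans e) (he.comp hf)
    have h1 : trK (f.trans e).symm (trK e K) = trK f.symm K := by
      rw [trK_trans]
      congr 1
      ext x
      simp
    rw [h1] at hN
    obtain ⟨s, hs, hs'⟩ := (mem_autInducedBy_iff S X₀ χ).1 (hle hχ).1
    refine ⟨N, hYN, hN, ψ, hψ, s, hs, fun x hx hxN => ?_⟩
    rw [hψ' x hx hxN, hs']
    rfl

end Cfsg.Agent.Lib.Helper84
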