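import Cfsg.Agent.Lib.Helper84.FusionSat2
import Cfsg.Agent.Lib.Helper85.SylIn2
import Cfsg.Agent.Lib.Helper85.FusPIndex

set_option autoImplicit false

/-! Subsystems of index `p` from a degree homomorphism on a realizing group (helper84). -/

namespace Cfsg.Agent.Lib.Helper84.PIdx

open Cfsg Cfsg.FusionSystem Cfsg.Agent.Lib.Helper84

variable {Ω : Type*} [Group Ω] {S : Subgroup Ω}

/-- `ι : S → G` realizes `F`, and `D : G → Z` is a homomorphism onto a group of order `p` whose restriction to `S` is onto with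
kernel `T`; moreover the centralizers in `G` of subgroups of `S` are controlled. -/
structure IsDeg (F : FusionSystem S) (p : ℕ) {G Z : Type*} [Group G] [CommGroup Z] (ι : S →* G)
    (D : G →* Z) (T : Subgroup Ω) : Prop where
  real : F.IsRealizedBy ι
  card : Nat.card Z = p
  surj : ∀ z : Z, ∃ s : S, D (ι s) = z
  le : T ≤ S
  ker : ∀ s : S, D (ι s) = 1 ↔ (s : Ω) ∈ T
  cent : ∀ (P : Subgroup Ω) (hP : P ≤ S) (g : G),
    (∀ x : P, g * ι ⟨x, hP x.2⟩ = ι ⟨x, hP x.2⟩ * g) → D g ≠ 1 →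
      ∃ (R : Subgroup Ω) (θ : R →* Ω), θ ∈ F.Hom R ∧ θ.range = P ∧
        ∃ b : S, (b : Ω) ∈ Subgroup.centralizer (R : Set Ω) ∧ D (ι b) ≠ 1

variable {F : FusionSystem S} {p : ℕ} {G Z : Type*} [Group G] [CommGroup Z] {ι : S →* G}
  {D : G →* Z} {T : Subgroup Ω}

/-- `g` realizes `φ` -/
def Rz (ι : S →* G) {P : Subgroup Ω} (φ : P →* Ω) (g : G) : Prop :=
  ∀ (x : P) (h1 : (x : Ω) ∈ S) (h2 : φ x ∈ S), ι ⟨φ x, h2⟩ = g * ι ⟨x, h1⟩ * g⁻¹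

theorem mem_of_rz (h : IsDeg F p ι D T) {P : Subgroup Ω} (hP : P ≤ S) {φ : P →* Ω}
    (hφ : ∀ x, φ x ∈ S) {g : G} (hg : Rz ι φ g) : φ ∈ F.Hom P :=
  (h.real.2 P hP φ hφ).2 ⟨g, fun x => hg x _ _⟩

theorem exists_rz (h : IsDeg F p ι D T) {P : Subgroup Ω} {φ : P →* Ω} (hφ : φ ∈ F.Hom P) :
    ∃ g : G, Rz ι φ g := by
  obtain ⟨g, hg⟩ := (h.real.2 P (F.le_of_mem hφ).1 φ (F.le_of_mem hφ).2).1 hφ
  exact ⟨g, fun x _ _ => hg x⟩

/-- invariance of the degree -/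
theorem deg_inv (h : IsDeg F p ι D T) {P : Subgroup Ω} {φ : P →* Ω} (hφ : φ ∈ F.Hom P) (x : P) :
    D (ι ⟨φ x, (F.le_of_mem hφ).2 x⟩) = D (ι ⟨x, (F.le_of_mem hφ).1 x.2⟩) := by
  obtain ⟨g, hg⟩ := exists_rz h hφ
  rw [hg x ((F.le_of_mem hφ).1 x.2) ((F.le_of_mem hφ).2 x), map_mul, map_mul, map_inv,
    mul_comm (D g), mul_assoc, mul_inv_cancel, mul_one]

theorem map_mem_T (h : IsDeg F p ι D T) {P : Subgroup Ω} {φ : P →* Ω} (hφ : φ ∈ F.Hom P) (x : P)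
    (hx : (x : Ω) ∈ T) : φ x ∈ T := by
  have h1 := deg_inv h hφ x
  rw [(h.ker ⟨x, _⟩).2 hx] at h1
  exact (h.ker _).1 h1

/-- the subsystem -/
def degSystem (h : IsDeg F p ι D T) : FusionSystem T where
  Hom P := {φ | P ≤ T ∧ (∀ x, φ x ∈ T) ∧ ∃ g : G, D g = 1 ∧ Rz ι φ g}
  le_of_mem := fun hφ => ⟨hφ.1, hφ.2.1⟩
  injective_of_mem := by
    rintro P φ ⟨hP, hφ, g, -, hg⟩
    exact F.injective_of_mem (mem_of_rz h (hP.trans h.le) (fun x => h.le (hφ x)) hg)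
  conj_mem := by
    intro P g hP hg
    refine ⟨hP, fun x => T.mul_mem (T.mul_mem hg (hP x.2)) (T.inv_mem hg), ι ⟨g, h.le hg⟩,
      (h.ker _).2 hg, ?_⟩
    intro x h1 h2
    rw [← map_inv, ← map_mul, ← map_mul]
    rfl
  comp_mem := by
    rintro P Q φ ψ ⟨hP, hφ, g, hg, hg'⟩ ⟨hQ, hψ, k, hk, hk'⟩ hPQ
    refine ⟨hP, fun x => hψ _, k * g, by rw [map_mul, hk, hg, one_mul], ?_⟩
    intro x h1 h2
    have e1 := hg' x h1 (h.le (hφ x))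
    have e2 := hk' ⟨φ x, hPQ x⟩ (h.le (hφ x)) h2
    have e3 : ι ⟨(ψ.comp (φ.codRestrict Q hPQ)) x, h2⟩ = ι ⟨ψ ⟨φ x, hPQ x⟩, h2⟩ := rfl
    rw [e3, e2, e1]
    group
  inv_mem := by
    rintro P φ ⟨hP, hφ, g, hg, hg'⟩
    have hφF : φ ∈ F.Hom P := mem_of_rz h (hP.trans h.le) (fun x => h.le (hφ x)) hg'
    obtain ⟨ψ, hψ, hψ'⟩ := F.inv_mem hφF
    refine ⟨ψ, ⟨?_, ?_, g⁻¹, by rw [map_inv, hg, inv_one], ?_⟩, hψ'⟩
    · rintro _ ⟨x, rfl⟩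
      exact hφ x
    · rintro ⟨_, x, rfl⟩
      rw [hψ']
      exact hP x.2
    · rintro ⟨_, x, rfl⟩ h1 h2
      have e1 := hg' x (h.le (hP x.2)) h1
      have e2 : ι ⟨ψ ⟨φ x, ⟨x, rfl⟩⟩, h2⟩ = ι ⟨x, h.le (hP x.2)⟩ := by
        congr 1
        exact Subtype.ext (hψ' x)
      rw [e2]
      show _ = g⁻¹ * ι ⟨φ x, h1⟩ * g⁻¹⁻¹
      rw [e1]
      group

theorem mem_degSystem (h : IsDeg F p ι D T) {P : Subgroup Ω} {φ : P →* Ω} :
    φ ∈ (degSystem h).Hom P ↔ P ≤ T ∧ (∀ x, φ x ∈ T) ∧ ∃ g : G, D g = 1 ∧ Rz ι φ g := Iff.rfl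

theorem degSystem_sub (h : IsDeg F p ι D T) : (degSystem h).IsSubsystemOf F := by
  rintro P φ ⟨hP, hφ, g, -, hg⟩
  exact mem_of_rz h (hP.trans h.le) (fun x => h.le (hφ x)) hg

/-- a map of `F` realized by an element of degree one is in the subsystem -/
theorem mem_degSystem_of (h : IsDeg F p ι D T) {P : Subgroup Ω} (hP : P ≤ T) {φ : P →* Ω}
    (hφ : φ ∈ F.Hom P) {g : G} (hg : Rz ι φ g) (hD : D g = 1) : φ ∈ (degSystem h).Hom P :=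
  ⟨hP, fun x => map_mem_T h hφ x (hP x.2), g, hD, hg⟩

theorem rz_conj_comp {P : Subgroup Ω} {φ : P →* Ω} {g : G} (hg : Rz ι φ g)
    (hφ : ∀ x, φ x ∈ S) (s : S) :
    Rz ι ((conjHom S (s : Ω)).comp (φ.codRestrict S hφ)) (ι s * g) := by
  intro x h1 h2
  have e1 := hg x h1 (hφ x)
  have e2 : (⟨((conjHom S (s : Ω)).comp (φ.codRestrict S hφ)) x, h2⟩ : S) =
      s * ⟨φ x, hφ x⟩ * s⁻¹ := rfl
  rw [e2, map_mul, map_mul, map_inv, e1]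
  group

/-- every map of `F` between subgroups of `T` is in the subsystem, up to conjugation by an element of `S` -/
theorem exists_adjust (h : IsDeg F p ι D T) {P : Subgroup Ω} (hP : P ≤ T) {φ : P →* Ω}
    (hφ : φ ∈ F.Hom P) :
    ∃ s : S, (conjHom S (s : Ω)).comp (φ.codRestrict S (F.le_of_mem hφ).2) ∈
      (degSystem h).Hom P := by
  obtain ⟨g, hg⟩ := exists_rz h hφ
  obtain ⟨s, hs⟩ := h.surj (D g)⁻¹
  refine ⟨s, mem_degSystem_of h hP ?_ (rz_conj_comp hg (F.le_of_mem hφ).2 s) ?_⟩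
  · exact F.comp_mem hφ (F.conj_mem le_rfl s.2) _
  · rw [map_mul, hs, inv_mul_cancel]

end Cfsg.Agent.Lib.Helper84.PIdx
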