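import Cfsg.Agent.Lib.Helper84.FusionPIdx1

set_option autoImplicit false

/-! Saturation of the subsystem of index `p` (helper84). -/

namespace Cfsg.Agent.Lib.Helper84.PIdx

open Cfsg Cfsg.FusionSystem Cfsg.Agent.Lib.Helper84

variable {Ω : Type*} [Group Ω] {S : Subgroup Ω}
variable {F : FusionSystem S} {p : ℕ} {G Z : Type*} [Group G] [CommGroup Z] {ι : S →* G}
  {D : G →* Z} {T : Subgroup Ω}

/-- control of centralizers of receptive subgroups -/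
theorem cent_receptive [Fact p.Prime] (h : IsDeg F p ι D T) {Q : Subgroup Ω} (hQ : F.IsReceptive Q)
    (g : G) (hg : ∀ x : Q, g * ι ⟨x, hQ.1 x.2⟩ = ι ⟨x, hQ.1 x.2⟩ * g) (hD : D g ≠ 1) (z : Z) :
    ∃ c : S, (c : Ω) ∈ Subgroup.centralizer (Q : Set Ω) ∧ D (ι c) = z := by
  obtain ⟨R, θ, hθ, hrange, b, hb, hDb⟩ := h.cent Q hQ.1 g hg hD
  obtain ⟨ψ, hψ, hψ'⟩ := hQ.2 R θ hθ hrange
  have hbN : (b : Ω) ∈ extender S R θ := centralizerIn_le_extender θ ⟨b.2, hb⟩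
  have hRN : R ≤ extender S R θ := le_extender (F.le_of_mem hθ).1 θ (F.le_of_mem hθ).2
  have hcS : ψ ⟨b, hbN⟩ ∈ S := (F.le_of_mem hψ).2 _
  have hcc : ψ ⟨b, hbN⟩ ∈ Subgroup.centralizer (Q : Set Ω) := by
    rw [Subgroup.mem_centralizer_iff]
    intro y hy
    have hy' : y ∈ θ.range := by rw [hrange]; exact hy
    obtain ⟨x, rfl⟩ := hy'
    rw [← hψ' x x.2 (hRN x.2), ← map_mul, ← map_mul]
    congr 1
    apply Subtype.ext
    exact (Subgroup.mem_centralizer_iff.1 hb) x x.2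
  have hDc : D (ι ⟨ψ ⟨b, hbN⟩, hcS⟩) ≠ 1 := by
    rw [deg_inv h hψ ⟨b, hbN⟩]
    exact hDb
  obtain ⟨k, hk⟩ := mem_zpowers_of_prime_card (g' := z) h.card hDc
  refine ⟨⟨ψ ⟨b, hbN⟩, hcS⟩ ^ k, ?_, ?_⟩
  · rw [Subgroup.coe_zpow]
    exact Subgroup.zpow_mem _ hcc k
  · rw [map_zpow, map_zpow]
    exact hk

theorem fullyNormalized_conj [Finite S] {Q₀ : Subgroup Ω} (hQ₀ : F.IsFullyNormalized Q₀) (s : S) :
    F.IsFullyNormalized (Q₀.map (MulAut.conj (s : Ω)).toMonoidHom) := by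
  have hle : Q₀.map (MulAut.conj (s : Ω)).toMonoidHom ≤ S := by
    rintro _ ⟨x, hx, rfl⟩
    exact S.mul_mem (S.mul_mem s.2 (hQ₀.1 hx)) (S.inv_mem s.2)
  have hconj : F.IsConj Q₀ (Q₀.map (MulAut.conj (s : Ω)).toMonoidHom) := by
    refine ⟨conjHom Q₀ s, F.conj_mem hQ₀.1 s.2, ?_⟩
    ext y
    constructor
    · rintro ⟨x, rfl⟩
      exact ⟨x, x.2, rfl⟩
    · rintro ⟨x, hx, rfl⟩
      exact ⟨⟨x, hx⟩, rfl⟩
  refine ⟨hle, fun R hR => (hQ₀.2 R (isConj_trans hconj hR)).trans ?_⟩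
  have : Finite (normalizerIn S (Q₀.map (MulAut.conj (s : Ω)).toMonoidHom)) :=
    finite_of_le (normalizerIn_le _ _)
  refine Nat.card_le_card_of_injective
    (fun n : normalizerIn S Q₀ => (⟨(s : Ω) * n * (s : Ω)⁻¹, ?_⟩ :
      normalizerIn S (Q₀.map (MulAut.conj (s : Ω)).toMonoidHom))) ?_
  · refine ⟨S.mul_mem (S.mul_mem s.2 n.2.1) (S.inv_mem s.2), ?_⟩
    show _ ∈ Subgroup.normalizer _
    rw [Cfsg.Agent.Lib.Helper85.normalizer_map_conj]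
    exact ⟨n, n.2.2, rfl⟩
  · intro a b hab
    have := congrArg Subtype.val hab
    simp only [mul_left_inj, mul_right_inj] at this
    exact Subtype.ext this

/-- every subgroup of `T` is conjugate in the subsystem to a fully `F`-normalized subgroup -/
theorem exists_conj_fullyNormalized [Finite S] (h : IsDeg F p ι D T) {P : Subgroup Ω} (hP : P ≤ T) :
    ∃ Q, (degSystem h).IsConj P Q ∧ F.IsFullyNormalized Q := by
  obtain ⟨Q₀, ⟨φ, hφ, hrange⟩, hQ₀⟩ := exists_fullyNormalized F (hP.trans h.le)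
  obtain ⟨s, hs⟩ := exists_adjust h hP hφ
  refine ⟨Q₀.map (MulAut.conj (s : Ω)).toMonoidHom, ⟨_, hs, ?_⟩, fullyNormalized_conj hQ₀ s⟩
  rw [← hrange]
  ext y
  constructor
  · rintro ⟨x, rfl⟩
    exact ⟨φ x, ⟨x, rfl⟩, rfl⟩
  · rintro ⟨_, ⟨x, rfl⟩, rfl⟩
    exact ⟨x, rfl⟩

/-- `g` realizes the automorphism `α` -/
def RA (ι : S →* G) {Q : Subgroup Ω} (hQ : Q ≤ S) (α : MulAut Q) (g : G) : Prop :=
  ∀ x : Q, ι ⟨α x, hQ (α x).2⟩ = g * ι ⟨x, hQ x.2⟩ * g⁻¹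

theorem RA.mul {Q : Subgroup Ω} {hQ : Q ≤ S} {α β : MulAut Q} {g k : G} (h1 : RA ι hQ α g)
    (h2 : RA ι hQ β k) : RA ι hQ (α * β) (g * k) := by
  intro x
  have e1 := h1 (β x)
  rw [h2 x] at e1
  show ι ⟨α (β x), hQ (α (β x)).2⟩ = _
  rw [e1]
  group

theorem RA.one {Q : Subgroup Ω} {hQ : Q ≤ S} : RA ι hQ (1 : MulAut Q) (1 : G) := by
  intro x
  simp

theorem RA.inv {Q : Subgroup Ω} {hQ : Q ≤ S} {α : MulAut Q} {g : G} (h1 : RA ι hQ α g) :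
    RA ι hQ α⁻¹ g⁻¹ := by
  intro x
  have e1 := h1 (α⁻¹ x)
  have e2 : ι ⟨α (α⁻¹ x), hQ (α (α⁻¹ x)).2⟩ = ι ⟨x, hQ x.2⟩ := by
    congr 2
    rw [MulAut.apply_inv_self]
  rw [e2] at e1
  rw [e1]
  group

theorem RA.pow {Q : Subgroup Ω} {hQ : Q ≤ S} {α : MulAut Q} {g : G} (h1 : RA ι hQ α g) (n : ℕ) :
    RA ι hQ (α ^ n) (g ^ n) := by
  induction n with
  | zero => simpa using RA.one
  | succ n ih => rw [pow_succ, pow_succ]; exact ih.mul h1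

theorem mem_autGroup_iff_ra (h : IsDeg F p ι D T) {Q : Subgroup Ω} (hQ : Q ≤ S) (α : MulAut Q) :
    α ∈ F.autGroup Q ↔ ∃ g, RA ι hQ α g := by
  rw [mem_autGroup_iff F hQ]
  constructor
  · intro hα
    obtain ⟨g, hg⟩ := exists_rz h hα
    exact ⟨g, fun x => hg x _ _⟩
  · rintro ⟨g, hg⟩
    exact mem_of_rz h hQ (fun x => hQ (α x).2) (g := g) (fun x _ _ => hg x)

theorem mem_autGroup_deg_iff (h : IsDeg F p ι D T) {Q : Subgroup Ω} (hQ : Q ≤ T) (α : MulAut Q) :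
    α ∈ (degSystem h).autGroup Q ↔ ∃ g, D g = 1 ∧ RA ι (hQ.trans h.le) α g := by
  rw [mem_autGroup_iff _ hQ]
  constructor
  · rintro ⟨-, -, g, hg, hg'⟩
    exact ⟨g, hg, fun x => hg' x _ _⟩
  · rintro ⟨g, hg, hg'⟩
    exact ⟨hQ, fun x => hQ (α x).2, g, hg, fun x _ _ => hg' x⟩

theorem autGroup_le_normalizer (h : IsDeg F p ι D T) {Q : Subgroup Ω} (hQ : Q ≤ T) :
    F.autGroup Q ≤ Subgroup.normalizer ((degSystem h).autGroup Q : Set (MulAut Q)) := by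
  intro a ha
  obtain ⟨k, hk⟩ := (mem_autGroup_iff_ra h (hQ.trans h.le) a).1 ha
  apply mem_normalizer_of_conj_mem
  · intro b hb
    obtain ⟨g, hg, hg'⟩ := (mem_autGroup_deg_iff h hQ b).1 hb
    refine (mem_autGroup_deg_iff h hQ _).2 ⟨k * g * k⁻¹, ?_, (hk.mul hg').mul hk.inv⟩
    rw [map_mul, map_mul, hg, mul_one, map_inv, mul_inv_cancel]
  · intro b hb
    obtain ⟨g, hg, hg'⟩ := (mem_autGroup_deg_iff h hQ b).1 hb
    refine (mem_autGroup_deg_iff h hQ _).2 ⟨k⁻¹ * g * k, ?_, (hk.inv.mul hg').mul hk⟩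
    rw [map_mul, map_mul, hg, mul_one, map_inv, inv_mul_cancel]

theorem autInducedBy_inf [Fact p.Prime] (h : IsDeg F p ι D T) {Q : Subgroup Ω} (hQ : Q ≤ T)
    (h2 : F.IsReceptive Q) :
    autInducedBy S Q ⊓ (degSystem h).autGroup Q = autInducedBy T Q := by
  apply le_antisymm
  · rintro α ⟨h3, h4⟩
    obtain ⟨s, hs, hs'⟩ := (mem_autInducedBy_iff S Q α).1 h3
    obtain ⟨g, hg, hg'⟩ := (mem_autGroup_deg_iff h hQ α).1 h4
    rw [mem_autInducedBy_iff]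
    by_cases hD : D (ι ⟨s, hs⟩) = 1
    · exact ⟨s, (h.ker _).1 hD, hs'⟩
    · obtain ⟨c, hc, hDc⟩ := cent_receptive h h2 (g⁻¹ * ι ⟨s, hs⟩) (by
        intro x
        have e1 := hg' x
        have e2 : (⟨α x, (hQ.trans h.le) (α x).2⟩ : S) = ⟨s, hs⟩ * ⟨x, h2.1 x.2⟩ * ⟨s, hs⟩⁻¹ :=
          Subtype.ext (hs' x)
        rw [e2, map_mul, map_mul, map_inv] at e1
        have e3 : ι ⟨s, hs⟩ * ι ⟨x, h2.1 x.2⟩ = g * ι ⟨x, h2.1 x.2⟩ * g⁻¹ * ι ⟨s, hs⟩ := by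
          rw [← e1]; group
        rw [mul_assoc, e3]
        group) (by rw [map_mul, map_inv, hg, inv_one, one_mul]; exact hD) (D (ι ⟨s, hs⟩))⁻¹
      refine ⟨s * c, ?_, fun x => ?_⟩
      · have : D (ι (⟨s, hs⟩ * c)) = 1 := by rw [map_mul, map_mul, hDc, mul_inv_cancel]
        exact (h.ker _).1 this
      · rw [hs' x]
        have e1 := (Subgroup.mem_centralizer_iff.1 hc) x x.2
        have e2 : (c : Ω) * x * (c : Ω)⁻¹ = x := by rw [← e1]; group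
        calc s * (x : Ω) * s⁻¹ = s * ((c : Ω) * x * (c : Ω)⁻¹) * s⁻¹ := by rw [e2]
          _ = _ := by group
  · intro α hα
    refine ⟨?_, autInducedBy_le_autGroup _ hQ hα⟩
    obtain ⟨t, ht, ht'⟩ := (mem_autInducedBy_iff T Q α).1 hα
    exact (mem_autInducedBy_iff S Q α).2 ⟨t, h.le ht, ht'⟩

theorem fullyAutomized_deg [Finite S] [Fact p.Prime] (h : IsDeg F p ι D T) {Q : Subgroup Ω}
    (hQ : Q ≤ T) (h1 : F.IsFullyAutomized p Q) (h2 : F.IsReceptive Q) :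
    (degSystem h).IsFullyAutomized p Q := by
  refine ⟨hQ, ?_⟩
  have : Finite (MulAut Q) := finite_mulAut_of_le h1.1
  have hs : Cfsg.Agent.Lib.Helper85.SylIn p (autInducedBy S Q) (F.autGroup Q) := h1.2
  have h3 := hs.inf_normal (autInducedBy_le_autGroup F h1.1)
    (Cfsg.Agent.Lib.Helper85.autGroup_le_of_subsystem (degSystem_sub h) hQ)
    (autGroup_le_normalizer h hQ)
  rw [autInducedBy_inf h hQ h2] at h3
  exact h3

theorem receptive_deg [Fact p.Prime] (h : IsDeg F p ι D T) {Q : Subgroup Ω}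
    (hQ : Q ≤ T) (h2 : F.IsReceptive Q) : (degSystem h).IsReceptive Q := by
  refine ⟨hQ, fun R ψ hψ hrange => ?_⟩
  have hψF := degSystem_sub h R hψ
  obtain ⟨ψ', hψ', hext⟩ := h2.2 R ψ hψF hrange
  have hle : extender T R ψ ≤ extender S R ψ := by
    intro g hg
    rw [mem_extender_iff] at hg ⊢
    obtain ⟨a, b, k, hk, hk'⟩ := hg
    exact ⟨h.le a, b, k, h.le hk, hk'⟩
  have hNT : extender T R ψ ≤ T := fun g hg => ((mem_extender_iff T R ψ g).1 hg).1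
  have hψ₁ : ψ'.comp (Subgroup.inclusion hle) ∈ F.Hom (extender T R ψ) := restrict_mem F hψ' hle
  obtain ⟨g₁, hg₁⟩ := exists_rz h hψ₁
  obtain ⟨hRT, hψT, g, hg, hg'⟩ := hψ
  have hRN : R ≤ extender T R ψ := le_extender hRT ψ hψT
  by_cases hD : D g₁ = 1
  · exact ⟨_, mem_degSystem_of h hNT hψ₁ hg₁ hD, fun x hP hN => hext x hP (hle hN)⟩
  · obtain ⟨c, hc, hDc⟩ := cent_receptive h h2 (g₁ * g⁻¹) (by
      rintro ⟨y, hy⟩
      have hy' : y ∈ ψ.range := by rw [hrange]; exact hy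
      obtain ⟨x, rfl⟩ := hy'
      have e1 := hg' x (h.le (hRT x.2)) (h2.1 hy)
      have e2 := hg₁ ⟨x, hRN x.2⟩ (h.le (hRT x.2)) (by
        show ψ' ⟨x, hle (hRN x.2)⟩ ∈ S
        rw [hext x x.2]
        exact h2.1 hy)
      have e3 : ι ⟨(ψ'.comp (Subgroup.inclusion hle)) ⟨x, hRN x.2⟩, (by
          show ψ' ⟨x, hle (hRN x.2)⟩ ∈ S
          rw [hext x x.2]
          exact h2.1 hy)⟩ = ι ⟨ψ x, h2.1 hy⟩ := by
        congr 1
        exact Subtype.ext (hext x x.2 _)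
      rw [e3] at e2
      show g₁ * g⁻¹ * ι ⟨ψ x, h2.1 hy⟩ = ι ⟨ψ x, h2.1 hy⟩ * (g₁ * g⁻¹)
      conv_lhs => rw [e1]
      conv_rhs => rw [e2]
      group) (by rw [map_mul, map_inv, hg, inv_one, mul_one]; exact hD) (D g₁)⁻¹
    refine ⟨_, mem_degSystem_of h hNT (F.comp_mem hψ₁ (F.conj_mem le_rfl c.2) (F.le_of_mem hψ₁).2)
      (rz_conj_comp hg₁ _ c) (by rw [map_mul, hDc, inv_mul_cancel]), ?_⟩
    intro x hP hN
    show (c : Ω) * ψ' ⟨x, hle hN⟩ * (c : Ω)⁻¹ = ψ ⟨x, hP⟩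
    rw [hext x hP]
    have hy : ψ ⟨x, hP⟩ ∈ Q := by rw [← hrange]; exact ⟨_, rfl⟩
    have e1 := (Subgroup.mem_centralizer_iff.1 hc) _ hy
    rw [← e1]
    group

theorem degSystem_saturated [Finite S] [Fact p.Prime] (hS : IsPGroup p S) (hF : F.IsSaturated p)
    (h : IsDeg F p ι D T) : (degSystem h).IsSaturated p := by
  intro P hP
  obtain ⟨Q, hPQ, hQ⟩ := exists_conj_fullyNormalized h hP
  obtain ⟨-, h1, h2⟩ := sat_fullyNormalized hS hF hQ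
  have hQT := isConj_le_right hPQ
  exact ⟨Q, hPQ, fullyAutomized_deg h hQT h1 h2, receptive_deg h hQT h2⟩

theorem degSystem_index (h : IsDeg F p ι D T) (hyp : F.hyperfocalSubgroup p ≤ T) :
    (degSystem h).HasPPowerIndexIn F p := by
  refine ⟨degSystem_sub h, hyp, fun P hP => ?_⟩
  rw [Subgroup.map_le_iff_le_comap]
  unfold pResidual
  rw [Subgroup.closure_le]
  intro α hα
  show (α : MulAut P) ∈ (degSystem h).autGroup P
  have hα' : Nat.Coprime (orderOf α) p := hα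
  obtain ⟨k, hk⟩ := exists_pow_eq_self_of_coprime hα'.symm
  obtain ⟨g, hg⟩ := (mem_autGroup_iff_ra h (hP.trans h.le) (α : MulAut P)).1 α.2
  have h1 : (α : MulAut P) ^ p ∈ (degSystem h).autGroup P := by
    refine (mem_autGroup_deg_iff h hP _).2 ⟨g ^ p, ?_, hg.pow p⟩
    rw [map_pow, ← h.card]
    exact pow_card_eq_one'
  have h2 := Subgroup.pow_mem _ h1 k
  have h3 : ((α : MulAut P) ^ p) ^ k = (α : MulAut P) := by
    have := congrArg Subtype.val hk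
    simpa using this
  rwa [h3] at h2

end Cfsg.Agent.Lib.Helper84.PIdx
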