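import Cfsg.Agent.Lib.Helper84.FusionPIdx2
import Cfsg.Agent.Lib.Helper84.BisetDeg
import Cfsg.Agent.Lib.Helper88.FusTransfer
import Cfsg.Agent.Lib.Helper88.FusCharBiset

set_option autoImplicit false

/-! The degree data from a characteristic biset (helper84). -/

namespace Cfsg.Agent.Lib.Helper84.PIdx

open Cfsg Cfsg.FusionSystem Cfsg.Agent.Lib.Helper84

universe u

/-- the biset structure on the target of a character -/
abbrev chAct {T Z : Type*} [Group T] [CommGroup Z] (χ : T →* Z) : MulAction (T × T) Z where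
  smul g z := χ g.1 * z * (χ g.2)⁻¹
  one_smul := by
    intro z
    show χ 1 * z * (χ 1)⁻¹ = z
    simp
  mul_smul := by
    intro g g' z
    show χ (g.1 * g'.1) * z * (χ (g.2 * g'.2))⁻¹ = χ g.1 * (χ g'.1 * z * (χ g'.2)⁻¹) * (χ g.2)⁻¹
    simp [mul_assoc]

theorem pow_coprime_aux {Z : Type*} [Group Z] {p m : ℕ} [hp : Fact p.Prime] (hcard : Nat.card Z = p)
    (hpm : ¬ p ∣ m) (z : Z) : ∃ k : ℕ, (z ^ m) ^ k = z := by
  apply exists_pow_eq_self_of_coprime
  have h1 : orderOf z ∣ p := by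
    rw [← hcard]; exact orderOf_dvd_natCard z
  have h2 : Nat.Coprime m p := ((Nat.Prime.coprime_iff_not_dvd hp.out).2 hpm).symm
  exact Nat.Coprime.coprime_dvd_right h1 h2

theorem isDeg_of_char {Ω : Type u} [Group Ω] {S : Subgroup Ω} [Finite S] {p : ℕ} [Fact p.Prime]
    (hS : IsPGroup p S) (F : FusionSystem S) (hF : F.IsSaturated p) {Z : Type*} [CommGroup Z]
    (hcard : Nat.card Z = p) (χ : S →* Z) (hsurj : Function.Surjective χ) (T : Subgroup Ω)
    (hTS : T ≤ S) (hker : ∀ s : S, χ s = 1 ↔ (s : Ω) ∈ T)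
    (hinv : ∀ (P : Subgroup Ω) (φ : P →* Ω) (hφ : φ ∈ F.Hom P) (x : P),
      χ ⟨φ x, (F.le_of_mem hφ).2 x⟩ = χ ⟨x, (F.le_of_mem hφ).1 x.2⟩) :
    ∃ (G : Type u) (_ : Group G) (ι : S →* G) (D : G →* Z), IsDeg F p ι D T := by
  classical
  obtain ⟨L, hL, hst, hpos, m, hm, hpm⟩ := Helper88.exists_char_list p hS F hF
  have hX := Helper88.isFBiset_XL F L hL hst hpos
  have hfree : BisetTr.RFree S (Helper88.XL L) := fun y c hc => Helper88.right_free hX y c hc
  obtain ⟨f, hf⟩ := @BisetTr.exists_equivariant (S × S) (Helper88.XL L) Z _ _ (chAct χ) (by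
      intro x
      obtain ⟨Q, θ, hθ, hQ⟩ := hX.stab x
      refine ⟨1, ?_⟩
      intro g hg
      have hg' : g ∈ Helper88.gr S Q θ := by
        rw [← hQ]; exact hg
      obtain ⟨h2, h3⟩ := hg'
      show χ g.1 * 1 * (χ g.2)⁻¹ = 1
      have h4 := hinv Q θ hθ ⟨g.2, h2⟩
      have h5 : (⟨θ ⟨g.2, h2⟩, (F.le_of_mem hθ).2 _⟩ : S) = g.1 := Subtype.ext h3
      rw [h5] at h4
      rw [h4]
      simp)
  have hfe : BisetTr.IsEqv χ f := fun a b y => hf (a, b) y
  have hZ : ∀ z : Z, z ^ p = 1 := by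
    intro z
    rw [← hcard]
    exact pow_card_eq_one'
  have hcardRQ : Nat.card (BisetTr.RQ S (Helper88.XL L)) = m := by
    have h1 := BisetTr.card_eq hfree ⟨Quotient.out, Quotient.out_eq⟩
    rw [← Helper88.mark_bot (G := S × S) (Helper88.XL L), Helper88.mark_XL, hm, mul_comm] at h1
    exact (Nat.eq_of_mul_eq_mul_right Nat.card_pos h1).symm
  have hD : ∀ s : S, BisetTr.Deg hfe (BisetTr.lft S (Helper88.XL L) s) = χ s ^ m := by
    intro s
    rw [BisetTr.Deg_lft, hcardRQ]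
  have hD1 : ∀ s : S, BisetTr.Deg hfe (BisetTr.lft S (Helper88.XL L) s) = 1 ↔ χ s = 1 := by
    intro s
    rw [hD]
    constructor
    · intro h1
      obtain ⟨k, hk⟩ := pow_coprime_aux hcard hpm (χ s)
      rw [h1, one_pow] at hk
      exact hk.symm
    · intro h1
      rw [h1, one_pow]
  have hreal : F.IsRealizedBy (BisetTr.lft S (Helper88.XL L)) := Helper88.park_realizes hX
  refine ⟨BisetTr.comm S (Helper88.XL L), inferInstance, BisetTr.lft S (Helper88.XL L),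
    BisetTr.Deg hfe, hreal, hcard, ?_, hTS, fun s => (hD1 s).trans (hker s), ?_⟩
  · intro z
    obtain ⟨k, hk⟩ := pow_coprime_aux hcard hpm z
    obtain ⟨s, hs⟩ := hsurj (z ^ k)
    refine ⟨s, ?_⟩
    rw [hD, hs, ← pow_mul, mul_comm, pow_mul, hk]
  · intro P hP g hg hDg
    by_contra hcon
    apply hDg
    refine BisetTr.Deg_eq_one_of_commute hfree hfe hZ (P.subgroupOf S)
      (hS.to_subgroup _) g (fun x hx => hg ⟨x, hx⟩) ?_
    intro y b H
    by_contra hχb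
    apply hcon
    obtain ⟨Q, θ₀, hθ₀, hQ⟩ := hX.stab y
    have key : ∀ x : S, (x : Ω) ∈ P → ∃ s : S, ∃ hs : (s : Ω) ∈ Q, θ₀ ⟨s, hs⟩ = x ∧ b * s = s * b := by
      intro x hx
      obtain ⟨s, hs, hbs⟩ := H x hx
      have h1 : ((x, s) : S × S) ∈ Helper88.gr S Q θ₀ := by
        rw [← hQ]; exact hs
      obtain ⟨h2, h3⟩ := h1
      exact ⟨s, h2, h3, hbs⟩
    have hRQ : (P.comap θ₀).map Q.subtype ≤ Q := Subgroup.map_subtype_le _
    refine ⟨(P.comap θ₀).map Q.subtype, θ₀.comp (Subgroup.inclusion hRQ), restrict_mem F hθ₀ hRQ,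
      ?_, b, ?_, fun h => hχb ((hD1 b).1 h)⟩
    · ext x
      constructor
      · rintro ⟨⟨_, r, hr, rfl⟩, rfl⟩
        exact hr
      · intro hx
        obtain ⟨s, hs, hs', -⟩ := key ⟨x, hP hx⟩ hx
        refine ⟨⟨s, ⟨⟨s, hs⟩, ?_, rfl⟩⟩, hs'⟩
        show θ₀ ⟨s, hs⟩ ∈ P
        rw [hs']
        exact hx
    · rw [Subgroup.mem_centralizer_iff]
      rintro _ ⟨r, hr, rfl⟩
      obtain ⟨s, hs, hs', hbs⟩ := key ⟨θ₀ r, hP hr⟩ hr
      have h1 : (⟨s, hs⟩ : Q) = r := F.injective_of_mem hθ₀ hs'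
      have h2 : (s : Ω) = r := congrArg Subtype.val h1
      have h3 := congrArg Subtype.val hbs
      simp only [Subgroup.coe_mul] at h3
      rw [h2] at h3
      exact h3.symm

end Cfsg.Agent.Lib.Helper84.PIdx
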