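import Cfsg.Agent.Lib.Helper84.FusionFactorNormal
import Cfsg.Agent.Lib.Helper11.PStable2
import Cfsg.Agent.Lib.Lead.ZJFunctor
import Cfsg.Agent.S2794

set_option autoImplicit false

/-! The fusion system of a `Qd(p)`-free group is solvable (helper84). -/

namespace Cfsg.Agent.Lib.Helper84

open Cfsg Cfsg.FusionSystem

theorem control_of_controlsStrongFusion {G : Type*} [Group G] [Finite G] {p : ℕ} [Fact p.Prime]
    (T : Sylow p G) (h : ControlsStrongFusion p (centerThompsonAOf (T : Subgroup G))) :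
    ∀ (A : Set G) (g : G), A ⊆ (T : Subgroup G) → (∀ a ∈ A, g * a * g⁻¹ ∈ (T : Subgroup G)) →
      ∃ x ∈ Subgroup.normalizer (centerThompsonAOf (T : Subgroup G) : Set G),
        ∀ a ∈ A, g * a * g⁻¹ = x * a * x⁻¹ := by
  obtain ⟨T', hU, hc⟩ := h
  obtain ⟨g₀, hg₀⟩ := MulAction.exists_smul_eq G T T'
  have hT' : (T' : Subgroup G) = (T : Subgroup G).map (MulAut.conj g₀).toMonoidHom := by
    rw [← hg₀]; rfl
  set U := centerThompsonAOf (T : Subgroup G) with hUdef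
  have hUT : U ≤ (T : Subgroup G) := by
    intro x hx
    exact Subgroup.map_subtype_le _ hx.1
  have hmem : ∀ t ∈ (T : Subgroup G), g₀ * t * g₀⁻¹ ∈ (T' : Subgroup G) := by
    intro t ht
    rw [hT']
    exact ⟨t, ht, rfl⟩
  have hmem' : ∀ t : G, g₀ * t * g₀⁻¹ ∈ (T' : Subgroup G) → t ∈ (T : Subgroup G) := by
    intro t ht
    rw [hT'] at ht
    obtain ⟨t', ht', e⟩ := ht
    have e' : g₀ * t' * g₀⁻¹ = g₀ * t * g₀⁻¹ := e
    rw [← mul_left_cancel (mul_right_cancel e')]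
    exact ht'
  obtain ⟨x₀, hx₀, hx₀'⟩ := (hc U hU).2 g₀ (by
    rintro _ ⟨a, ha, rfl⟩
    exact hmem a (hUT ha))
  have hg₀N : g₀ ∈ Subgroup.normalizer (U : Set G) := by
    rw [Subgroup.mem_normalizer_iff] at hx₀ ⊢
    intro u
    constructor
    · intro hu
      rw [hx₀' u hu]
      exact (hx₀ u).1 hu
    · intro hu
      have h1 : x₀⁻¹ * (g₀ * u * g₀⁻¹) * x₀ ∈ U := by
        rw [hx₀]
        simpa [mul_assoc] using hu
      have h2 := hx₀' _ h1
      have h3 : g₀ * (x₀⁻¹ * (g₀ * u * g₀⁻¹) * x₀) * g₀⁻¹ = g₀ * u * g₀⁻¹ := by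
        rw [h2]; group
      rw [← mul_left_cancel (mul_right_cancel h3)]
      exact h1
  intro A g hA hAg
  obtain ⟨x, hx, hx'⟩ := (hc ((fun a => g₀ * a * g₀⁻¹) '' A) (by
    rintro _ ⟨a, ha, rfl⟩
    exact hmem a (hA ha))).2 (g₀ * g * g₀⁻¹) (by
    rintro _ ⟨_, ⟨a, ha, rfl⟩, rfl⟩
    have := hmem _ (hAg a ha)
    have e : g₀ * g * g₀⁻¹ * (g₀ * a * g₀⁻¹) * (g₀ * g * g₀⁻¹)⁻¹ = g₀ * (g * a * g⁻¹) * g₀⁻¹ := by
      group
    show g₀ * g * g₀⁻¹ * (g₀ * a * g₀⁻¹) * (g₀ * g * g₀⁻¹)⁻¹ ∈ (T' : Subgroup G)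
    rw [e]
    exact this)
  refine ⟨g₀⁻¹ * x * g₀, Subgroup.mul_mem _ (Subgroup.mul_mem _ (Subgroup.inv_mem _ hg₀N) hx) hg₀N, ?_⟩
  intro a ha
  have h1 := hx' _ ⟨a, ha, rfl⟩
  have h2 : g * a * g⁻¹ = g₀⁻¹ * (g₀ * g * g₀⁻¹ * (g₀ * a * g₀⁻¹) * (g₀ * g * g₀⁻¹)⁻¹) * g₀ := by
    group
  rw [h2, h1]
  group

theorem centerThompsonAOf_ne_bot {G : Type*} [Group G] {p : ℕ} [Fact p.Prime] (T : Subgroup G)
    [Finite T] (hT : IsPGroup p T) (hne : T ≠ ⊥) : centerThompsonAOf T ≠ ⊥ := by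
  rw [← Lead.inducedFunctor_zjA]
  haveI : Nontrivial T := (Subgroup.nontrivial_iff_ne_bot _).2 hne
  have h1 := Lead.zjA_ne_bot (p := p) T hT
  intro h
  apply h1
  have h2 : (Lead.zjA T).map T.subtype = ⊥ := h
  rwa [Subgroup.map_eq_bot_iff_of_injective _ T.subtype_injective] at h2

theorem groupFus_factor_core_ne_bot {G : Type*} [Group G] [Finite G] {p : ℕ} [Fact p.Prime]
    (hp : p ≠ 2) (hqd : ¬ Involves ↥(qd p) G) (P : Sylow p G) (R : Subgroup G)
    (hR : (groupFusionSystem (P : Subgroup G)).StronglyClosed R) (hne : R ≠ (P : Subgroup G))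
    [hn : (R.subgroupOf (P : Subgroup G)).Normal]
    (E : FusionSystem (⊤ : Subgroup ((P : Subgroup G) ⧸ R.subgroupOf (P : Subgroup G))))
    (hE : (groupFusionSystem (P : Subgroup G)).IsFactorSystem R
      (QuotientGroup.mk' (R.subgroupOf (P : Subgroup G))) E) : E.core ≠ ⊥ := by
  have hRP : R ≤ (P : Subgroup G) := hR.1
  have hPK : (P : Subgroup G) ≤ Subgroup.normalizer (R : Set G) := by
    have key : ∀ s ∈ (P : Subgroup G), ∀ r ∈ R, s * r * s⁻¹ ∈ R := by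
      intro s hs r hr
      exact hn.conj_mem ⟨r, hRP hr⟩ hr ⟨s, hs⟩
    intro s hs
    rw [Subgroup.mem_normalizer_iff]
    intro r
    refine ⟨key s hs r, fun h => ?_⟩
    have := key s⁻¹ (Subgroup.inv_mem _ hs) _ h
    simpa [mul_assoc] using this
  obtain ⟨K, hK⟩ : ∃ K : Subgroup G, K = Subgroup.normalizer (R : Set G) := ⟨_, rfl⟩
  rw [← hK] at hPK
  have hRK : R ≤ K := hRP.trans hPK
  haveI hRn : (R.subgroupOf K).Normal := by
    rw [hK]
    exact Subgroup.normal_in_normalizer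
  set π := QuotientGroup.mk' (R.subgroupOf K) with hπ
  set T : Sylow p (K ⧸ R.subgroupOf K) :=
    (P.subtype hPK).mapSurjective (QuotientGroup.mk'_surjective (R.subgroupOf K)) with hT
  have hTmem : ∀ y : K ⧸ R.subgroupOf K, y ∈ (T : Subgroup _) ↔
      ∃ k : K, (k : G) ∈ (P : Subgroup G) ∧ π k = y := by
    intro y
    rw [hT, Sylow.coe_mapSurjective]
    constructor
    · rintro ⟨k, hk, rfl⟩
      exact ⟨k, hk, rfl⟩
    · rintro ⟨k, hk, rfl⟩
      exact ⟨k, hk, rfl⟩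
  have hπeq : ∀ a b : K, π a = π b ↔ (a : G)⁻¹ * b ∈ R := by
    intro a b
    exact QuotientGroup.eq
  have hTmem' : ∀ k : K, π k ∈ (T : Subgroup _) ↔ (k : G) ∈ (P : Subgroup G) := by
    intro k
    rw [hTmem]
    constructor
    · rintro ⟨k', hk', e⟩
      have := (P : Subgroup G).mul_mem hk' (hRP ((hπeq _ _).1 e))
      simpa using this
    · intro h
      exact ⟨k, h, rfl⟩
  have hctl := control_of_controlsStrongFusion T ((Cfsg.Agent.S2794.result hp).1 hqd K R T)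
  set U := centerThompsonAOf (T : Subgroup (K ⧸ R.subgroupOf K)) with hU
  have hUT : U ≤ (T : Subgroup _) := by
    intro x hx
    exact Subgroup.map_subtype_le _ hx.1
  have hTne : (T : Subgroup (K ⧸ R.subgroupOf K)) ≠ ⊥ := by
    intro h
    apply hne
    apply le_antisymm hRP
    intro s hs
    have h1 : π ⟨s, hPK hs⟩ ∈ (T : Subgroup _) := (hTmem' _).2 hs
    rw [h, Subgroup.mem_bot] at h1
    exact (QuotientGroup.eq_one_iff (N := R.subgroupOf K) (⟨s, hPK hs⟩ : K)).1 h1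
  have hUne : U ≠ ⊥ := centerThompsonAOf_ne_bot (p := p) _ T.isPGroup' hTne
  set W₁ : Subgroup G := (U.comap π).map K.subtype with hW₁
  have hW₁mem : ∀ x : G, x ∈ W₁ ↔ ∃ h : x ∈ K, π ⟨x, h⟩ ∈ U := by
    intro x
    constructor
    · rintro ⟨k, hk, rfl⟩
      exact ⟨k.2, hk⟩
    · rintro ⟨h, hx⟩
      exact ⟨⟨x, h⟩, hx, rfl⟩
  have hW₁P : W₁ ≤ (P : Subgroup G) := by
    intro x hx
    obtain ⟨h, hx'⟩ := (hW₁mem x).1 hx
    exact (hTmem' _).1 (hUT hx')
  have hnorm := factor_normal_of_lift (groupFusionSystem (P : Subgroup G)) hR _ E hE W₁ hW₁P (by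
    intro P₁ Q₁ h1 h2 h3 hRP₁ φ hφ
    obtain ⟨hP₁P, hφP, g, hg⟩ := hφ
    have hgK : g ∈ K := by
      rw [hK]
      have hle : R.map (MulAut.conj g).toMonoidHom ≤ R := by
        rintro _ ⟨r, hr, rfl⟩
        have := hR.2 R le_rfl (conjHom R g) ⟨hRP, fun x => by
          have := hφP ⟨x, hRP₁ x.2⟩
          rw [hg] at this
          exact this, g, fun x => rfl⟩ ⟨r, hr⟩
        exact this
      have heq : R.map (MulAut.conj g).toMonoidHom = R := by
        apply Subgroup.eq_of_le_of_card_ge hle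
        rw [Subgroup.card_map_of_injective (MulAut.conj g).injective]
      rw [Subgroup.mem_normalizer_iff]
      intro r
      constructor
      · intro hr
        exact hle ⟨r, hr, rfl⟩
      · intro hr
        rw [← heq] at hr
        obtain ⟨r', hr', e⟩ := hr
        have e' : g * r' * g⁻¹ = g * r * g⁻¹ := e
        rw [← mul_left_cancel (mul_right_cancel e')]
        exact hr'
    obtain ⟨x, hx, hx'⟩ := hctl {y | ∃ a : P₁, y = π ⟨a, hPK (hP₁P a.2)⟩} (π ⟨g, hgK⟩) (by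
        rintro _ ⟨a, rfl⟩
        exact (hTmem' _).2 (hP₁P a.2)) (by
        rintro _ ⟨a, rfl⟩
        rw [← map_inv, ← map_mul, ← map_mul, hTmem']
        have := hφP a
        rw [hg] at this
        exact this)
    obtain ⟨n, rfl⟩ := QuotientGroup.mk'_surjective _ x
    have hnP₁ : ∀ a : P₁, (g * (a : G) * g⁻¹)⁻¹ * ((n : G) * a * (n : G)⁻¹) ∈ R := by
      intro a
      have := hx' _ ⟨a, rfl⟩
      rw [← map_inv, ← map_mul, ← map_mul, ← map_inv, ← map_mul, ← map_mul, hπeq] at this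
      exact this
    have hnW₁ : ∀ w ∈ W₁, (n : G) * w * (n : G)⁻¹ ∈ W₁ := by
      intro w hw
      obtain ⟨h, hw'⟩ := (hW₁mem w).1 hw
      refine (hW₁mem _).2 ⟨K.mul_mem (K.mul_mem n.2 h) (K.inv_mem n.2), ?_⟩
      have e : π ⟨(n : G) * w * (n : G)⁻¹, K.mul_mem (K.mul_mem n.2 h) (K.inv_mem n.2)⟩ =
          π n * π ⟨w, h⟩ * (π n)⁻¹ := by
        rw [← map_inv, ← map_mul, ← map_mul]
        rfl
      rw [e]
      exact (Subgroup.mem_normalizer_iff.1 hx _).1 hw'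
    have hQ₁ : ∀ x ∈ Q₁, (n : G) * x * (n : G)⁻¹ ∈ (P : Subgroup G) := by
      have hle : P₁ ⊔ W₁ ≤ (P : Subgroup G).comap (MulAut.conj (n : G)).toMonoidHom := by
        apply sup_le
        · intro a ha
          have h5 := hφP ⟨a, ha⟩
          rw [hg] at h5
          have := (P : Subgroup G).mul_mem h5 (hRP (hnP₁ ⟨a, ha⟩))
          rw [mul_inv_cancel_left] at this
          exact this
        · intro w hw
          exact hW₁P (hnW₁ w hw)
      intro x hx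
      exact hle (h3 hx)
    refine ⟨conjHom Q₁ (n : G), ⟨h3.trans (sup_le hP₁P hW₁P), fun x => hQ₁ x x.2, n, fun x => rfl⟩,
      ?_, ?_⟩
    · intro a
      rw [hg]
      exact hnP₁ a
    · intro w
      exact hnW₁ w w.2)
  intro hcore
  have hle : imageAlong (QuotientGroup.mk' (R.subgroupOf (P : Subgroup G))) W₁ ≤ E.core :=
    le_sSup hnorm
  rw [hcore, le_bot_iff] at hle
  apply hUne
  rw [eq_bot_iff]
  intro u hu
  obtain ⟨k, rfl⟩ := QuotientGroup.mk'_surjective _ u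
  have hkW : (k : G) ∈ W₁ := (hW₁mem _).2 ⟨k.2, hu⟩
  have h5 : QuotientGroup.mk' (R.subgroupOf (P : Subgroup G)) ⟨k, hW₁P hkW⟩ ∈
      imageAlong (QuotientGroup.mk' (R.subgroupOf (P : Subgroup G))) W₁ := ⟨_, hkW, rfl⟩
  rw [hle, Subgroup.mem_bot] at h5
  have h6 : (k : G) ∈ R := (QuotientGroup.eq_one_iff (N := R.subgroupOf (P : Subgroup G))
    (⟨k, hW₁P hkW⟩ : (P : Subgroup G))).1 h5
  exact (QuotientGroup.eq_one_iff k).2 h6

end Cfsg.Agent.Lib.Helper84
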