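import Cfsg.Agent.Lib.Helper84.FusionPGExt
import Cfsg.Agent.Lib.Helper84.FusionSat2
import Cfsg.Agent.Lib.Helper47.PRes

set_option autoImplicit false

/-! Towards "small abelian subgroups control fusion" (Benson–Grodal–Henn), part 1 (helper84). -/

namespace Cfsg.Agent.Lib.Helper84

open Cfsg Cfsg.FusionSystem

variable {Ω : Type*} [Group Ω] {S : Subgroup Ω}

/-- automorphisms of `Y` inducing on `A ≤ Y` conjugation by an element of `N_S(A)`. -/
def stabK (S A Y : Subgroup Ω) (hAY : A ≤ Y) : Subgroup (MulAut Y) where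
  carrier := {β | ∃ s ∈ normalizerIn S A, ∀ a (ha : a ∈ A),
    ((β ⟨a, hAY ha⟩ : Y) : Ω) = s * a * s⁻¹}
  one_mem' := ⟨1, one_mem _, fun a ha => by simp⟩
  mul_mem' := by
    rintro β γ ⟨s, hs, hβ⟩ ⟨t, ht, hγ⟩
    refine ⟨s * t, mul_mem hs ht, fun a ha => ?_⟩
    have h1 : t * a * t⁻¹ ∈ A := conj_mem_of_mem_normalizer ht.2 ha
    have h2 : γ ⟨a, hAY ha⟩ = ⟨t * a * t⁻¹, hAY h1⟩ := Subtype.ext (hγ a ha)
    rw [MulAut.mul_apply, h2, hβ _ h1]
    group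
  inv_mem' := by
    rintro β ⟨s, hs, hβ⟩
    refine ⟨s⁻¹, inv_mem hs, fun a ha => ?_⟩
    have h1 : s⁻¹ * a * s⁻¹⁻¹ ∈ A := conj_mem_of_mem_normalizer (inv_mem hs).2 ha
    have h2 : β ⟨s⁻¹ * a * s⁻¹⁻¹, hAY h1⟩ = ⟨a, hAY ha⟩ := Subtype.ext (by rw [hβ _ h1]; group)
    rw [← h2, MulAut.inv_apply_self]

theorem isPGroup_inf_stabK [Finite S] {p : ℕ} [Fact p.Prime] (hS : IsPGroup p S)
    (F : FusionSystem S) {A Y : Subgroup Ω} (hAY : A ≤ Y) (hYS : Y ≤ S)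
    (hPG : ∀ β ∈ F.autGroup Y, ∀ m : ℕ, m.Coprime p → β ^ m = 1 →
      (∀ a (ha : a ∈ A), β ⟨a, hAY ha⟩ = ⟨a, hAY ha⟩) → β = 1) :
    IsPGroup p (F.autGroup Y ⊓ stabK S A Y hAY : Subgroup (MulAut Y)) := by
  rintro ⟨β, hβA, s, hs, hβ⟩
  have hfin : Finite (MulAut Y) := finite_mulAut_of_le hYS
  obtain ⟨j, hj⟩ := hS ⟨s, hs.1⟩
  have hj' : s ^ p ^ j = 1 := congrArg Subtype.val hj
  have hpow : ∀ (n : ℕ) a (ha : a ∈ A), (((β ^ n) ⟨a, hAY ha⟩ : Y) : Ω) = s ^ n * a * (s ^ n)⁻¹ := by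
    intro n
    induction n with
    | zero => intro a ha; simp
    | succ n ih =>
      intro a ha
      have h1 : s * a * s⁻¹ ∈ A := conj_mem_of_mem_normalizer hs.2 ha
      have h2 : β ⟨a, hAY ha⟩ = ⟨s * a * s⁻¹, hAY h1⟩ := Subtype.ext (hβ a ha)
      rw [pow_succ, MulAut.mul_apply, h2, ih _ h1, pow_succ]
      group
  obtain ⟨i, hi⟩ := Cfsg.Agent.Lib.Helper47.exists_pow_coprime (p := p) (β ^ p ^ j)
  have h1 : (β ^ p ^ j) ^ p ^ i = 1 := by
    apply hPG _ (Subgroup.pow_mem _ (Subgroup.pow_mem _ hβA _) _) _ hi (pow_orderOf_eq_one _)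
    intro a ha
    apply Subtype.ext
    rw [← pow_mul, hpow _ a ha, pow_mul, hj']
    simp
  refine ⟨j + i, ?_⟩
  apply Subtype.ext
  show β ^ p ^ (j + i) = 1
  rw [pow_add, pow_mul, h1]

theorem mem_normK_trK_stabK {A Y Y' : Subgroup Ω} (hAY : A ≤ Y) (hAY' : A ≤ Y') (f : Y' ≃* Y)
    (hfix : ∀ a (ha : a ∈ A), ((f ⟨a, hAY' ha⟩ : Y) : Ω) = a) {g : Ω}
    (hgA : g ∈ normalizerIn S A) (hgY : g ∈ Subgroup.normalizer (Y' : Set Ω)) :
    g ∈ normK S Y' (trK f.symm (stabK S A Y hAY)) := by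
  refine ⟨hgA.1, conjAut Y' g hgY, (mem_trK f.symm).2 ⟨g, hgA, fun a ha => ?_⟩, fun x => rfl⟩
  have h1 : f.symm ⟨a, hAY ha⟩ = ⟨a, hAY' ha⟩ := by
    rw [MulEquiv.symm_apply_eq]
    exact Subtype.ext (hfix a ha).symm
  have h2 : g * a * g⁻¹ ∈ A := conj_mem_of_mem_normalizer hgA.2 ha
  show ((f (conjAut Y' g hgY (f.symm ⟨a, hAY ha⟩)) : Y) : Ω) = g * a * g⁻¹
  rw [h1]
  have h3 : conjAut Y' g hgY ⟨a, hAY' ha⟩ = ⟨g * a * g⁻¹, hAY' h2⟩ := rfl
  rw [h3, hfix _ h2]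

theorem mor_of_fix [Finite S] {p : ℕ} [Fact p.Prime] (hS : IsPGroup p S) {E F : FusionSystem S}
    (hF : F.IsSaturated p) {A Y X₂ : Subgroup Ω} (hAY : A ≤ Y) (hAX : A ≤ X₂)
    (hYN : Y ≤ normalizerIn S A) (hXN : X₂ ≤ normalizerIn S A) (hfn : F.IsFullyNormalized A)
    (hPG : ∀ β ∈ F.autGroup Y, ∀ m : ℕ, m.Coprime p → β ^ m = 1 →
      (∀ a (ha : a ∈ A), β ⟨a, hAY ha⟩ = ⟨a, hAY ha⟩) → β = 1)
    (IH : ∀ N : Subgroup Ω, Nat.card Y < Nat.card N → F.Hom N ⊆ E.Hom N)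
    (μ : X₂ ≃* Y) (hμ : Mor F μ.toMonoidHom)
    (hfix : ∀ a (ha : a ∈ A), ((μ ⟨a, hAX ha⟩ : Y) : Ω) = a) :
    Mor E μ.toMonoidHom := by
  have hNS : normalizerIn S A ≤ S := normalizerIn_le S A
  have hYS : Y ≤ S := hYN.trans hNS
  have hXS : X₂ ≤ S := hXN.trans hNS
  have hfinN : Finite (normalizerIn S A) := finite_of_le hNS
  have hfinY : Finite Y := finite_of_le hYS
  have hK := isPGroup_inf_stabK hS F hAY hYS hPG
  obtain ⟨X₀, e, he, hind, hext⟩ := exists_pgroup_target hS hF hYS (stabK S A Y hAY) hK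
  have hX₀S : X₀ ≤ S := he.symm.le_left
  have hcard : Nat.card X₂ = Nat.card Y := Nat.card_congr μ.toEquiv
  by_cases hlt : Y = normalizerIn S A
  · -- the edge case
    have hX2 : X₂ = Y := by
      rw [hlt]
      apply Subgroup.eq_of_le_of_card_ge hXN
      rw [hcard, ← hlt]
    subst hX2
    have hμA : (μ : MulAut X₂) ∈ F.autGroup X₂ := (mem_autGroup_iff F hYS μ).2 hμ
    have hμK : (μ : MulAut X₂) ∈ stabK S A X₂ hAY :=
      ⟨1, one_mem _, fun a ha => by rw [hfix a ha]; simp⟩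
    obtain ⟨s, hsS, hs⟩ := (mem_autInducedBy_iff S X₀ _).1 (hind μ ⟨hμA, hμK⟩)
    -- the image of `A`
    obtain ⟨A₀, hA₀⟩ : ∃ A₀ : Subgroup Ω,
      A₀ = (A.subgroupOf X₂).map (X₀.subtype.comp e.toMonoidHom) := ⟨_, rfl⟩
    have hmemA₀ : ∀ z, z ∈ A₀ ↔ ∃ a, ∃ ha : a ∈ A, ((e ⟨a, hAY ha⟩ : X₀) : Ω) = z := by
      intro z
      rw [hA₀]
      constructor
      · rintro ⟨y, hy, rfl⟩
        exact ⟨y, hy, rfl⟩
      · rintro ⟨a, ha, rfl⟩
        exact ⟨⟨a, hAY ha⟩, ha, rfl⟩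
    have hconj : F.IsConj A A₀ := by
      refine ⟨(X₀.subtype.comp e.toMonoidHom).comp (Subgroup.inclusion hAY),
        restrict_mem F he hAY, ?_⟩
      ext z
      rw [hmemA₀]
      constructor
      · rintro ⟨a, rfl⟩
        exact ⟨a, a.2, rfl⟩
      · rintro ⟨a, ha, rfl⟩
        exact ⟨⟨a, ha⟩, rfl⟩
    have hle := hfn.2 A₀ hconj
    have hX₀N : X₀ ≤ normalizerIn S A₀ := by
      intro x hx
      refine ⟨hX₀S hx, ?_⟩
      have key : ∀ x (hx : x ∈ X₀), ∀ z ∈ A₀, x * z * x⁻¹ ∈ A₀ := by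
        intro x hx z hz
        obtain ⟨a, ha, rfl⟩ := (hmemA₀ z).1 hz
        have hy := (e.symm ⟨x, hx⟩).2
        have h1 : ((e.symm ⟨x, hx⟩ : X₂) : Ω) * a * ((e.symm ⟨x, hx⟩ : X₂) : Ω)⁻¹ ∈ A :=
          conj_mem_of_mem_normalizer (hYN hy).2 ha
        refine (hmemA₀ _).2 ⟨_, h1, ?_⟩
        have h2 : (⟨((e.symm ⟨x, hx⟩ : X₂) : Ω) * a * ((e.symm ⟨x, hx⟩ : X₂) : Ω)⁻¹, hAY h1⟩ : X₂)
            = e.symm ⟨x, hx⟩ * ⟨a, hAY ha⟩ * (e.symm ⟨x, hx⟩)⁻¹ := rfl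
        rw [h2, map_mul, map_mul, map_inv, MulEquiv.apply_symm_apply]
        rfl
      apply mem_normalizer_of_conj_mem (key x hx)
      intro z hz
      have := key x⁻¹ (X₀.inv_mem hx) z hz
      simpa using this
    have hsN : s ∈ normalizerIn S A₀ := by
      refine ⟨hsS, ?_⟩
      have key : ∀ z ∈ A₀, s * z * s⁻¹ = z := by
        intro z hz
        obtain ⟨a, ha, rfl⟩ := (hmemA₀ z).1 hz
        rw [← hs]
        show ((e (μ (e.symm (e ⟨a, hAY ha⟩))) : X₀) : Ω) = _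
        rw [MulEquiv.symm_apply_apply]
        have : μ ⟨a, hAY ha⟩ = ⟨a, hAY ha⟩ := Subtype.ext (hfix a ha)
        rw [this]
      apply mem_normalizer_of_conj_mem
      · intro z hz; rw [key z hz]; exact hz
      · intro z hz
        have h1 := key z hz
        have : s⁻¹ * z * s = z := by
          conv_lhs => rw [← h1]
          group
        rw [this]; exact hz
    have hfinN₀ : Finite (normalizerIn S A₀) := finite_of_le (normalizerIn_le S A₀)
    have hX₀eq : X₀ = normalizerIn S A₀ := by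
      apply Subgroup.eq_of_le_of_card_ge hX₀N
      rw [← Nat.card_congr e.toEquiv]
      conv_rhs => rw [hlt]
      exact hle
    have hsX : s ∈ X₀ := by rw [hX₀eq]; exact hsN
    have hfinal : X₂.subtype.comp μ.toMonoidHom = conjHom X₂ ((e.symm ⟨s, hsX⟩ : X₂) : Ω) := by
      ext y
      have h1 := hs (e y)
      have h2 : MulAut.congr e μ (e y) = e (μ y) := by
        show e (μ (e.symm (e y))) = _
        rw [MulEquiv.symm_apply_apply]
      rw [h2] at h1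
      have h3 : e (μ y) = e (e.symm ⟨s, hsX⟩ * y * (e.symm ⟨s, hsX⟩)⁻¹) := by
        rw [map_mul, map_mul, map_inv, MulEquiv.apply_symm_apply]
        exact Subtype.ext h1
      have h4 := e.injective h3
      show ((μ y : X₂) : Ω) = _
      rw [h4]
      rfl
    unfold Mor
    rw [hfinal]
    exact E.conj_mem hYS (hYS (e.symm ⟨s, hsX⟩).2)
  · -- the main case
    have hYlt : Y < normalizerIn S A := lt_of_le_of_ne hYN hlt
    have hcardlt : Nat.card Y < Nat.card (normalizerIn S A) := by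
      rcases (Subgroup.card_le_of_le hYN).lt_or_eq with h | h
      · exact h
      · exact absurd (Subgroup.eq_of_le_of_card_ge hYN h.ge) hlt
    have main : ∀ (Y' : Subgroup Ω) (hAY' : A ≤ Y') (_ : Y' ≤ normalizerIn S A) (f : Y' ≃* Y),
        Mor F f.toMonoidHom → (∀ a (ha : a ∈ A), ((f ⟨a, hAY' ha⟩ : Y) : Ω) = a) →
        Mor E (f.trans e).toMonoidHom := by
      intro Y' hAY' hY'N f hf hffix
      have hc : Nat.card Y' = Nat.card Y := Nat.card_congr f.toEquiv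
      have hY'lt : Y' < normalizerIn S A := by
        refine lt_of_le_of_ne hY'N (fun h => ?_)
        rw [← h, hc] at hcardlt
        exact lt_irrefl _ hcardlt
      obtain ⟨g, hgN, hgY, hgn⟩ := exists_mem_normalizer_not_mem (hS.to_le hNS) hY'lt
      obtain ⟨N, hY'N', hN, ψ, hψ, s, hs, hψ'⟩ := hext Y' f hf
      have hgN' : g ∈ N := hN (mem_normK_trK_stabK hAY hAY' f hffix hgN hgn)
      have hNS' : N ≤ S := (F.le_of_mem hψ).1
      have hfinN' : Finite N := finite_of_le hNS'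
      have hcN : Nat.card Y < Nat.card N := by
        rw [← hc]
        rcases (Subgroup.card_le_of_le hY'N').lt_or_eq with h | h
        · exact h
        · exact absurd ((Subgroup.eq_of_le_of_card_ge hY'N' h.ge) ▸ hgN') hgY
      have hψE : ψ ∈ E.Hom N := IH N hcN hψ
      have h1 := restrict_mem E hψE hY'N'
      have h2 : ∀ x : Y', (ψ.comp (Subgroup.inclusion hY'N')) x ∈ S := (E.le_of_mem h1).2
      have h3 := E.comp_mem h1 (E.conj_mem (le_refl S) (S.inv_mem hs)) h2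
      have h4 : X₀.subtype.comp (f.trans e).toMonoidHom =
          (conjHom S s⁻¹).comp ((ψ.comp (Subgroup.inclusion hY'N')).codRestrict S h2) := by
        ext x
        show ((e (f x) : X₀) : Ω) = s⁻¹ * ψ ⟨x, hY'N' x.2⟩ * s⁻¹⁻¹
        rw [hψ' x x.2 (hY'N' x.2)]
        group
      unfold Mor
      rw [h4]
      exact h3
    have h1 := main Y hAY hYN (MulEquiv.refl Y) (mor_id F hYS) (fun a ha => rfl)
    have h2 := main X₂ hAX hXN μ hμ hfix
    have h3 : Mor E e.toMonoidHom := h1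
    have h4 := h3.symm.comp h2
    have h5 : e.symm.toMonoidHom.comp (μ.trans e).toMonoidHom = μ.toMonoidHom := by
      ext x
      simp
    rwa [h5] at h4

end Cfsg.Agent.Lib.Helper84
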