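import Cfsg.Agent.Lib.Helper84.FusionSmallAb

set_option autoImplicit false

/-! Towards "small abelian subgroups control fusion" (Benson–Grodal–Henn), part 2 (helper84). -/

namespace Cfsg.Agent.Lib.Helper84

open Cfsg Cfsg.FusionSystem

variable {Ω : Type*} [Group Ω] {S : Subgroup Ω}

theorem mor_mono {E F : FusionSystem S} (hEF : ∀ P : Subgroup Ω, E.Hom P ⊆ F.Hom P)
    {P Q : Subgroup Ω} {f : P →* Q} (h : Mor E f) : Mor F f := hEF P h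

/-- an isomorphism of `F` between subgroups of `N_S(A)` containing `A` and stabilizing `A`. -/
theorem mor_of_stab [Finite S] {p : ℕ} [Fact p.Prime] (hS : IsPGroup p S) {E F : FusionSystem S}
    (hF : F.IsSaturated p) (hEF : ∀ P : Subgroup Ω, E.Hom P ⊆ F.Hom P)
    {A X₁ Y : Subgroup Ω} (hAY : A ≤ Y) (hAX : A ≤ X₁)
    (hYN : Y ≤ normalizerIn S A) (hXN : X₁ ≤ normalizerIn S A) (hfn : F.IsFullyNormalized A)
    (hrec : E.IsReceptive A) (hAE : F.Hom A ⊆ E.Hom A)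
    (hPG : ∀ β ∈ F.autGroup Y, ∀ m : ℕ, m.Coprime p → β ^ m = 1 →
      (∀ a (ha : a ∈ A), β ⟨a, hAY ha⟩ = ⟨a, hAY ha⟩) → β = 1)
    (IH : ∀ N : Subgroup Ω, Nat.card Y < Nat.card N → F.Hom N ⊆ E.Hom N)
    (ν : X₁ ≃* Y) (hν : Mor F ν.toMonoidHom)
    (hνA : ∀ a (ha : a ∈ A), ((ν ⟨a, hAX ha⟩ : Y) : Ω) ∈ A) :
    Mor E ν.toMonoidHom := by
  have hAS : A ≤ S := hfn.1
  have hfinA : Finite A := finite_of_le hAS
  have hinj : Function.Injective (Y.subtype.comp ν.toMonoidHom) := F.injective_of_mem hν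
  have hmap : (A.subgroupOf X₁).map (Y.subtype.comp ν.toMonoidHom) = A := by
    apply Subgroup.eq_of_le_of_card_ge
    · rintro _ ⟨x, hx, rfl⟩
      exact hνA x hx
    · rw [Subgroup.card_map_of_injective hinj]
      exact (Nat.card_congr (Subgroup.subgroupOfEquivOfLe hAX).toEquiv).ge
  obtain ⟨α, hα⟩ : ∃ α : A ≃* A, α = restrictEquiv _ hinj hAX hmap := ⟨_, rfl⟩
  have hαv : ∀ x : A, ((α x : A) : Ω) = ((ν ⟨x, hAX x.2⟩ : Y) : Ω) := by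
    intro x; rw [hα]; rfl
  have hαF : Mor F α.toMonoidHom := by rw [hα]; exact mor_restrictEquiv F hν hAX hmap
  have hαE : Mor E α.toMonoidHom := hAE hαF
  obtain ⟨χ, hχ, hχ'⟩ := exists_extension_of_receptive E hrec α hαE (N := X₁) hXN (by
    intro g hg
    refine ⟨((ν ⟨g, hg⟩ : Y) : Ω), hν.apply_mem _, fun x hx => ?_⟩
    rw [hαv, hαv]
    have : (⟨g * (x : Ω) * g⁻¹, hAX hx⟩ : X₁) = ⟨g, hg⟩ * ⟨x, hAX x.2⟩ * ⟨g, hg⟩⁻¹ := rfl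
    rw [this, map_mul, map_mul, map_inv]
    rfl)
  have hmapχ : (A.subgroupOf X₁).map χ = A := map_eq_of_agree α χ hAX hχ'
  obtain ⟨X₂, hX₂⟩ : ∃ X₂ : Subgroup Ω, χ.range = X₂ := ⟨_, rfl⟩
  obtain ⟨e₃, he₃⟩ : ∃ e₃ : X₁ ≃* X₂, e₃ = equivOfRange χ (E.injective_of_mem hχ) hX₂ := ⟨_, rfl⟩
  have he₃v : ∀ x : X₁, ((e₃ x : X₂) : Ω) = χ x := by intro x; rw [he₃]; rfl
  have he₃E : Mor E e₃.toMonoidHom := by rw [he₃]; exact mor_equivOfRange E hχ hX₂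
  have hAX₂ : A ≤ X₂ := by
    intro a ha
    rw [← hX₂]
    rw [← hmapχ] at ha
    obtain ⟨x, -, rfl⟩ := ha
    exact ⟨x, rfl⟩
  have hX₂N : X₂ ≤ normalizerIn S A := by
    intro y hy
    rw [← hX₂] at hy
    obtain ⟨x, rfl⟩ := hy
    exact map_mem_normalizerIn E hχ hmapχ x (hXN x.2).2
  have hμF : Mor F (e₃.symm.trans ν).toMonoidHom := hν.comp (mor_mono hEF he₃E.symm)
  have hfix : ∀ a (ha : a ∈ A), (((e₃.symm.trans ν) ⟨a, hAX₂ ha⟩ : Y) : Ω) = a := by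
    intro a ha
    have h1 : e₃ ⟨(α.symm ⟨a, ha⟩ : A), hAX (α.symm ⟨a, ha⟩).2⟩ = ⟨a, hAX₂ ha⟩ := by
      apply Subtype.ext
      rw [he₃v, hχ' _ (α.symm ⟨a, ha⟩).2]
      simp
    rw [← h1]
    show ((ν (e₃.symm (e₃ _)) : Y) : Ω) = a
    rw [MulEquiv.symm_apply_apply, ← hαv]
    simp
  have hμE := mor_of_fix hS hF hAY hAX₂ hYN hX₂N hfn hPG IH (e₃.symm.trans ν) hμF hfix
  have h4 := hμE.comp he₃E
  have h5 : (e₃.symm.trans ν).toMonoidHom.comp e₃.toMonoidHom = ν.toMonoidHom := by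
    ext x
    simp
  rwa [h5] at h4

/-- moving a pair `B ⊴ X'` to a fully normalized conjugate of `B`. -/
theorem exists_move [Finite S] {p : ℕ} [Fact p.Prime] (hS : IsPGroup p S) (E : FusionSystem S)
    {A' B X' : Subgroup Ω} (hfa : E.IsFullyAutomized p A') (hrec : E.IsReceptive A')
    (hconj : E.IsConj B A') (hBX : B ≤ X') (hXN : X' ≤ normalizerIn S B) :
    ∃ (X₁ : Subgroup Ω) (e₁ : X' ≃* X₁), Mor E e₁.toMonoidHom ∧ X₁ ≤ normalizerIn S A' ∧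
      (∀ z, z ∈ A' ↔ ∃ b, ∃ hb : b ∈ B, ((e₁ ⟨b, hBX hb⟩ : X₁) : Ω) = z) := by
  obtain ⟨ζ, hζ, hζN, hζmap⟩ := exists_normalizer_hom hS E hfa hrec hconj
  refine ⟨(X'.subgroupOf (normalizerIn S B)).map ζ,
    restrictEquiv ζ (E.injective_of_mem hζ) hXN rfl, mor_restrictEquiv E hζ hXN rfl, ?_, ?_⟩
  · rintro _ ⟨x, -, rfl⟩
    exact hζN x
  · intro z
    rw [← hζmap]
    constructor
    · rintro ⟨x, hx, rfl⟩
      exact ⟨x, hx, rfl⟩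
    · rintro ⟨b, hb, rfl⟩
      exact ⟨⟨b, hXN (hBX hb)⟩, hb, rfl⟩

/-- **The inductive step.** -/
theorem hom_subset_of_small [Finite S] {p : ℕ} [Fact p.Prime] (hS : IsPGroup p S)
    {E F : FusionSystem S} (hE : E.IsSaturated p) (hF : F.IsSaturated p)
    (hEF : ∀ P : Subgroup Ω, E.Hom P ⊆ F.Hom P)
    {A X : Subgroup Ω} (hAX : A ≤ X) (hXN : X ≤ normalizerIn S A)
    (hb : ∀ B : Subgroup Ω, F.IsConj A B → F.Hom B ⊆ E.Hom B)
    (hPG : ∀ β ∈ F.autGroup X, ∀ m : ℕ, m.Coprime p → β ^ m = 1 →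
      (∀ a (ha : a ∈ A), β ⟨a, hAX ha⟩ = ⟨a, hAX ha⟩) → β = 1)
    (IH : ∀ N : Subgroup Ω, Nat.card X < Nat.card N → F.Hom N ⊆ E.Hom N) :
    F.Hom X ⊆ E.Hom X := by
  intro φ hφ
  have hXS : X ≤ S := hXN.trans (normalizerIn_le S A)
  have hAS : A ≤ S := hAX.trans hXS
  have isConj_mono : ∀ {P Q : Subgroup Ω}, E.IsConj P Q → F.IsConj P Q := by
    rintro P Q ⟨ψ, hψ, hr⟩
    exact ⟨ψ, hEF P hψ, hr⟩
  obtain ⟨A', hconjE, hfnE⟩ := exists_fullyNormalized E hAS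
  obtain ⟨-, hfa, hrec⟩ := sat_fullyNormalized hS hE hfnE
  have hconjF : F.IsConj A A' := isConj_mono hconjE
  have hfnF : F.IsFullyNormalized A' := by
    refine ⟨hfnE.1, fun B hB => hfnE.2 B ?_⟩
    obtain ⟨ψ, hψ, hr⟩ := hB
    exact ⟨ψ, hb A' hconjF hψ, hr⟩
  -- the source
  obtain ⟨X₁, e₁, he₁, hX₁N, hA'₁⟩ := exists_move hS E hfa hrec hconjE hAX hXN
  -- the target
  obtain ⟨Y, hY⟩ : ∃ Y : Subgroup Ω, φ.range = Y := ⟨_, rfl⟩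
  obtain ⟨eφ, heφ⟩ : ∃ eφ : X ≃* Y, eφ = equivOfRange φ (F.injective_of_mem hφ) hY := ⟨_, rfl⟩
  have heφv : ∀ x : X, ((eφ x : Y) : Ω) = φ x := by intro x; rw [heφ]; rfl
  have heφF : Mor F eφ.toMonoidHom := by rw [heφ]; exact mor_equivOfRange F hφ hY
  obtain ⟨B, hB⟩ : ∃ B : Subgroup Ω, (A.subgroupOf X).map φ = B := ⟨_, rfl⟩
  have hBY : B ≤ Y := by
    rw [← hB, ← hY]
    rintro _ ⟨x, -, rfl⟩
    exact ⟨x, rfl⟩
  have hYN : Y ≤ normalizerIn S B := by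
    intro y hy
    rw [← hY] at hy
    obtain ⟨x, rfl⟩ := hy
    exact map_mem_normalizerIn F hφ hB x (hXN x.2).2
  have hAB : E.IsConj A B := by
    refine ⟨φ.comp (Subgroup.inclusion hAX), hb A (isConj_refl F hAS) (restrict_mem F hφ hAX), ?_⟩
    rw [← hB]
    ext z
    constructor
    · rintro ⟨a, rfl⟩
      exact ⟨Subgroup.inclusion hAX a, a.2, rfl⟩
    · rintro ⟨x, hx, rfl⟩
      exact ⟨⟨x, hx⟩, rfl⟩
  obtain ⟨Y₁, e₂, he₂, hY₁N, hA'₂⟩ :=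
    exists_move hS E hfa hrec (isConj_trans (isConj_symm hAB) hconjE) hBY hYN
  have hA'X₁ : A' ≤ X₁ := by
    intro z hz
    obtain ⟨b, hb', rfl⟩ := (hA'₁ z).1 hz
    exact (e₁ _).2
  have hA'Y₁ : A' ≤ Y₁ := by
    intro z hz
    obtain ⟨b, hb', rfl⟩ := (hA'₂ z).1 hz
    exact (e₂ _).2
  -- `ι₂ : X ≃ Y₁`
  have hι₂F : Mor F (eφ.trans e₂).toMonoidHom := (mor_mono hEF he₂).comp heφF
  have hι₂A : ∀ a (ha : a ∈ A), (((eφ.trans e₂) ⟨a, hAX ha⟩ : Y₁) : Ω) ∈ A' := by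
    intro a ha
    have h1 : φ ⟨a, hAX ha⟩ ∈ B := by rw [← hB]; exact ⟨⟨a, hAX ha⟩, ha, rfl⟩
    refine (hA'₂ _).2 ⟨_, h1, ?_⟩
    show _ = ((e₂ (eφ ⟨a, hAX ha⟩) : Y₁) : Ω)
    congr 2
    exact Subtype.ext (heφv _).symm
  have hPG' : ∀ β ∈ F.autGroup Y₁, ∀ m : ℕ, m.Coprime p → β ^ m = 1 →
      (∀ a (ha : a ∈ A'), β ⟨a, hA'Y₁ ha⟩ = ⟨a, hA'Y₁ ha⟩) → β = 1 := by
    intro β hβ m hm hβm hfix
    have h1 := hPG (MulAut.congr (eφ.trans e₂).symm β) (congr_mem_autGroup hι₂F.symm hβ) m hm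
      (by rw [← map_pow, hβm, map_one]) (by
        intro a ha
        show (eφ.trans e₂).symm (β ((eφ.trans e₂).symm.symm ⟨a, hAX ha⟩)) = _
        rw [MulEquiv.symm_symm]
        have h2 := hfix _ (hι₂A a ha)
        have h3 : (⟨(((eφ.trans e₂) ⟨a, hAX ha⟩ : Y₁) : Ω), hA'Y₁ (hι₂A a ha)⟩ : Y₁) =
            (eφ.trans e₂) ⟨a, hAX ha⟩ := rfl
        rw [h3] at h2
        rw [h2, MulEquiv.symm_apply_apply])
    exact (map_eq_one_iff _ (MulAut.congr (eφ.trans e₂).symm).injective).1 h1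
  have hcard : Nat.card Y₁ = Nat.card X := (Nat.card_congr (eφ.trans e₂).toEquiv).symm
  have hνF : Mor F (e₁.symm.trans (eφ.trans e₂)).toMonoidHom :=
    hι₂F.comp (mor_mono hEF he₁.symm)
  have hνE := mor_of_stab hS hF hEF hA'Y₁ hA'X₁ hY₁N hX₁N hfnF hrec (hb A' hconjF) hPG'
    (fun N hN => IH N (by rwa [hcard] at hN)) (e₁.symm.trans (eφ.trans e₂)) hνF (by
      intro a ha
      obtain ⟨b, hb', hbe⟩ := (hA'₁ a).1 ha
      have h1 : (⟨a, hA'X₁ ha⟩ : X₁) = e₁ ⟨b, hAX hb'⟩ := Subtype.ext hbe.symm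
      rw [h1]
      show (((eφ.trans e₂) (e₁.symm (e₁ ⟨b, hAX hb'⟩)) : Y₁) : Ω) ∈ A'
      rw [MulEquiv.symm_apply_apply]
      exact hι₂A b hb')
  have h6 := (he₂.symm.comp hνE).comp he₁
  have h7 : (e₂.symm.toMonoidHom.comp (e₁.symm.trans (eφ.trans e₂)).toMonoidHom).comp
      e₁.toMonoidHom = eφ.toMonoidHom := by
    ext x
    simp
  rw [h7] at h6
  have h8 : Y.subtype.comp eφ.toMonoidHom = φ := by
    ext x
    exact heφv x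
  unfold Mor at h6
  rwa [h8] at h6

end Cfsg.Agent.Lib.Helper84
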