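import Cfsg.Agent.Lib.Helper88.CoprimeSmall
import Cfsg.Agent.Lib.Helper84.FusionConseq
import Cfsg.Agent.Lib.Helper84.FusionHyperfocal
import Cfsg.Agent.Lib.Helper47.PRes

set_option autoImplicit false

/-! Fusion controlled on the small cyclic subgroups of the hyperfocal subgroup (helper84). -/

namespace Cfsg.Agent.Lib.Helper84

open Cfsg Cfsg.FusionSystem
open scoped commutatorElement

variable {Ω : Type*} [Group Ω] {S : Subgroup Ω}

theorem small_card (p : ℕ) [Fact p.Prime] {x : Ω} (hx : x ^ p = 1 ∨ (p = 2 ∧ x ^ 4 = 1))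
    (hx1 : x ≠ 1) :
    Nat.card (Subgroup.zpowers x) = p ∨ Nat.card (Subgroup.zpowers x) = 4 := by
  rw [Nat.card_zpowers]
  rcases hx with hx | ⟨rfl, hx⟩
  · left; exact orderOf_eq_prime hx hx1
  · have h4 : orderOf x ∣ 2 ^ 2 := orderOf_dvd_of_pow_eq_one (by norm_num; exact hx)
    obtain ⟨k, hk, hk2⟩ := (Nat.dvd_prime_pow Nat.prime_two).1 h4
    interval_cases k
    · rw [pow_zero, orderOf_eq_one_iff] at hk2; exact absurd hk2 hx1
    · left; simpa using hk2
    · right; simpa using hk2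

theorem restrict_zpowers_mem (F : FusionSystem S) {P : Subgroup Ω} (hPS : P ≤ S) {α : MulAut P}
    (hα : α ∈ F.autGroup P) (x : P) :
    (P.subtype.comp α.toMonoidHom).comp
        (Subgroup.inclusion ((Subgroup.zpowers_le).2 x.2 : Subgroup.zpowers (x : Ω) ≤ P)) ∈
      F.homSet (Subgroup.zpowers (x : Ω)) (Subgroup.zpowers ((α x : P) : Ω)) := by
  refine ⟨restrict_mem F ((mem_autGroup_iff F hPS α).1 hα) _, ?_⟩
  rintro ⟨_, k, rfl⟩
  refine ⟨k, ?_⟩
  show ((α x : P) : Ω) ^ k = ((α ⟨(x : Ω) ^ k, _⟩ : P) : Ω)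
  have : (⟨(x : Ω) ^ k, (Subgroup.zpowers_le).2 x.2 ⟨k, rfl⟩⟩ : P) = x ^ k := by
    ext; simp
  rw [this, map_zpow]
  simp

theorem mem_hyperfocal_of_coprime (F : FusionSystem S) (p : ℕ) {P : Subgroup Ω} (hPS : P ≤ S)
    {α : MulAut P} (hα : α ∈ F.autGroup P) {m : ℕ} (hm : m.Coprime p) (hαm : α ^ m = 1) (y : P) :
    ((y⁻¹ * α y : P) : Ω) ∈ F.hyperfocalSubgroup p := by
  refine Subgroup.subset_closure ⟨P, ⟨α, hα⟩, y, hPS, Subgroup.subset_closure ?_, rfl⟩
  show (orderOf (⟨α, hα⟩ : F.autGroup P)).Coprime p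
  have h1 : orderOf (⟨α, hα⟩ : F.autGroup P) ∣ m := by
    apply orderOf_dvd_of_pow_eq_one
    ext1
    exact hαm
  exact Nat.Coprime.coprime_dvd_left h1 hm

theorem conj_mem_lcs {i : ℕ} {g s : Ω} (hs : s ∈ S) (hg : g ∈ S.lowerCentralSeries i) :
    s * g * s⁻¹ ∈ S.lowerCentralSeries i :=
  (Subgroup.mem_normalizer_iff.1 (S.self_le_normalizer_lowerCentralSeries i hs) g).1 hg

/-- a general descent: a `p'`-automorphism `α ∈ Aut_F(P)` which moves the small elements `x` of
`P ∩ hyp(F) ∩ γ_i(S)` by elements of `γ_{i+1}(S)` is trivial. -/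
theorem fix_of_small_descent [Finite S] (p : ℕ) [Fact p.Prime] (hS : IsPGroup p S)
    (F : FusionSystem S) {P : Subgroup Ω} (hPS : P ≤ S) (α : MulAut P) (hα : α ∈ F.autGroup P)
    (m : ℕ) (hm : m.Coprime p) (hαm : α ^ m = 1)
    (h : ∀ (i : ℕ) (x : P), (x ^ p = 1 ∨ (p = 2 ∧ x ^ 4 = 1)) →
      (x : Ω) ∈ F.hyperfocalSubgroup p → ((α x : P) : Ω) ∈ F.hyperfocalSubgroup p →
      (x : Ω) ∈ S.lowerCentralSeries i → ((x⁻¹ * α x : P) : Ω) ∈ S.lowerCentralSeries (i + 1))
    (n : ℕ) :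
    ∀ D : Subgroup P, Nat.card D ≤ n → (∀ x ∈ D, α x ∈ D) → ∀ x ∈ D, α x = x := by
  have hfinP : Finite P := finite_of_le hPS
  have hPp : IsPGroup p P := hS.to_le hPS
  induction n with
  | zero =>
    intro D hcard
    have := Nat.card_pos (α := D)
    omega
  | succ n ih =>
    intro D hcard hinv
    have IH : ∀ D' : Subgroup P, D' ≤ D → D' ≠ D → (∀ x ∈ D', α x ∈ D') → ∀ x ∈ D', α x = x := by
      intro D' hle hne hinv'
      apply ih D' _ hinv'
      have hlt : Nat.card D' < Nat.card D := by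
        rcases (Subgroup.card_le_of_le hle).lt_or_eq with h1 | h1
        · exact h1
        · exact absurd (Subgroup.eq_of_le_of_card_ge hle h1.ge) hne
      omega
    have hhyp := fun y => mem_hyperfocal_of_coprime F p hPS hα hm hαm y
    obtain ⟨D₁, hD₁⟩ : ∃ D₁ : Subgroup P, D₁ = Subgroup.closure {z | ∃ y ∈ D, z = y⁻¹ * α y} :=
      ⟨_, rfl⟩
    have hD₁le : D₁ ≤ D := by
      rw [hD₁, Subgroup.closure_le]
      rintro _ ⟨y, hy, rfl⟩
      exact D.mul_mem (D.inv_mem hy) (hinv y hy)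
    have hD₁mem : ∀ y ∈ D, y⁻¹ * α y ∈ D₁ := by
      intro y hy
      rw [hD₁]
      exact Subgroup.subset_closure ⟨y, hy, rfl⟩
    have hD₁inv : ∀ x ∈ D₁, α x ∈ D₁ := by
      intro x hx
      have : D₁ ≤ D₁.comap α.toMonoidHom := by
        conv_lhs => rw [hD₁]
        rw [Subgroup.closure_le]
        rintro _ ⟨y, hy, rfl⟩
        show α (y⁻¹ * α y) ∈ D₁
        rw [map_mul, map_inv]
        exact hD₁mem _ (hinv y hy)
      exact this hx
    by_cases h1 : D₁ = D
    swap
    · intro x hx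
      have hfix := IH D₁ hD₁le h1 hD₁inv
      have h3 := Cfsg.Agent.Lib.Helper88.eq_one_of_twist p α m hm hαm
        (x := x) (t := x⁻¹ * α x) (by group) (hfix _ (hD₁mem x hx)) (hPp _)
      have : α x = x * (x⁻¹ * α x) := by group
      rw [this, h3, mul_one]
    obtain ⟨D₂, hD₂⟩ : ∃ D₂ : Subgroup P,
      D₂ = Subgroup.closure {z | z ∈ D ∧ (z ^ p = 1 ∨ (p = 2 ∧ z ^ 4 = 1))} := ⟨_, rfl⟩
    have hD₂le : D₂ ≤ D := by
      rw [hD₂, Subgroup.closure_le]
      rintro z ⟨hz, -⟩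
      exact hz
    have hD₂mem : ∀ z ∈ D, (z ^ p = 1 ∨ (p = 2 ∧ z ^ 4 = 1)) → z ∈ D₂ := by
      intro y hy hs
      rw [hD₂]
      exact Subgroup.subset_closure ⟨hy, hs⟩
    have hsmall : ∀ z : P, (z ^ p = 1 ∨ (p = 2 ∧ z ^ 4 = 1)) →
        ((α z) ^ p = 1 ∨ (p = 2 ∧ (α z) ^ 4 = 1)) := by
      intro z hz
      rcases hz with hz | ⟨h2, hz⟩
      · left; rw [← map_pow, hz, map_one]
      · right; exact ⟨h2, by rw [← map_pow, hz, map_one]⟩
    have hD₂inv : ∀ x ∈ D₂, α x ∈ D₂ := by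
      intro x hx
      have : D₂ ≤ D₂.comap α.toMonoidHom := by
        conv_lhs => rw [hD₂]
        rw [Subgroup.closure_le]
        rintro z ⟨hz, hs⟩
        exact hD₂mem _ (hinv z hz) (hsmall z hs)
      exact this hx
    by_cases h2 : D₂ = D
    swap
    · have hfix := IH D₂ hD₂le h2 hD₂inv
      exact Cfsg.Agent.Lib.Helper88.fixes_of_fixes_small p α m hm hαm (Nat.card D) D
        inferInstance (hPp.to_subgroup D) le_rfl hinv (fun x hx hs => hfix x (hD₂mem x hx hs))
    -- the main case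
    have hDH : ∀ x ∈ D, (x : Ω) ∈ F.hyperfocalSubgroup p := by
      have : D₁ ≤ (F.hyperfocalSubgroup p).subgroupOf P := by
        rw [hD₁, Subgroup.closure_le]
        rintro _ ⟨y, -, rfl⟩
        exact hhyp y
      intro x hx
      rw [← h1] at hx
      exact this hx
    have key : ∀ i : ℕ, ∀ x ∈ D, (x : Ω) ∈ S.lowerCentralSeries i := by
      intro i
      induction i with
      | zero => intro x _; exact hPS x.2
      | succ i ihi =>
        have hstep : ∀ x ∈ D₂, ((x⁻¹ * α x : P) : Ω) ∈ S.lowerCentralSeries (i + 1) := by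
          intro x hx
          rw [hD₂] at hx
          induction hx using Subgroup.closure_induction with
          | mem z hz => exact h i z hz.2 (hDH z hz.1) (hDH _ (hinv z hz.1)) (ihi z hz.1)
          | one => simp
          | mul a b _ _ ha hb =>
            have : (((a * b)⁻¹ * α (a * b) : P) : Ω) =
                ((b : Ω)⁻¹ * ((a⁻¹ * α a : P) : Ω) * ((b : Ω)⁻¹)⁻¹) * ((b⁻¹ * α b : P) : Ω) := by
              rw [map_mul]
              push_cast
              group
            rw [this]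
            exact Subgroup.mul_mem _ (conj_mem_lcs (S.inv_mem (hPS b.2)) ha) hb
          | inv a _ ha =>
            have : (((a⁻¹)⁻¹ * α (a⁻¹) : P) : Ω) =
                (a : Ω) * (((a⁻¹ * α a : P) : Ω))⁻¹ * (a : Ω)⁻¹ := by
              rw [map_inv]
              push_cast
              group
            rw [this]
            exact conj_mem_lcs (hPS a.2) (Subgroup.inv_mem _ ha)
        have : D₁ ≤ (S.lowerCentralSeries (i + 1)).subgroupOf P := by
          rw [hD₁, Subgroup.closure_le]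
          rintro _ ⟨y, hy, rfl⟩
          rw [← h2] at hy
          exact hstep y hy
        intro x hx
        rw [← h1] at hx
        exact this hx
    obtain ⟨k, hk⟩ := (Subgroup.isNilpotent_iff_lowerCentralSeries S).1 hS.isNilpotent
    intro x hx
    have hx1 := key k x hx
    rw [hk, Subgroup.mem_bot] at hx1
    have : x = 1 := by ext; exact hx1
    rw [this, map_one]

theorem isPGroup_autGroup_of_fix [Finite S] (p : ℕ) [Fact p.Prime] (F : FusionSystem S)
    {P : Subgroup Ω} (hPS : P ≤ S)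
    (h : ∀ α ∈ F.autGroup P, ∀ m : ℕ, m.Coprime p → α ^ m = 1 → α = 1) :
    IsPGroup p (F.autGroup P) := by
  have hfinA : Finite (F.autGroup P) := finite_autGroup F hPS
  intro a
  obtain ⟨k, hk⟩ := Cfsg.Agent.Lib.Helper47.exists_pow_coprime (p := p) a
  refine ⟨k, ?_⟩
  have h1 := h ((a ^ p ^ k : F.autGroup P) : MulAut P) (a ^ p ^ k).2 _ hk (by
    have := pow_orderOf_eq_one (a ^ p ^ k)
    exact congrArg Subtype.val this)
  ext1
  exact h1

end Cfsg.Agent.Lib.Helper84
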