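import Cfsg.Agent.S0093
import Cfsg.Agent.Lib.Lead.Critical
import Cfsg.Agent.Lib.Helper88.CoprimeSmall
import Cfsg.Agent.Lib.Helper2.PGroupFrattini
import Cfsg.Agent.Lib.Helper64.StabRes

set_option autoImplicit false

/-! A finite `p`-group has a characteristic subgroup of exponent `p` (or `4`) on which every
`p'`-automorphism acts faithfully (Gorenstein 5.3.13 and its analogue for `p = 2`) (helper84). -/

namespace Cfsg.Agent.Lib.Helper84

open Cfsg
open scoped commutatorElement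

theorem exists_small_faithful {Q : Type*} [Group Q] [Finite Q] {p : ℕ} [Fact p.Prime]
    (hQ : IsPGroup p Q) :
    ∃ D : Subgroup Q, D.Characteristic ∧ (∀ x ∈ D, x ^ p = 1 ∨ (p = 2 ∧ x ^ 4 = 1)) ∧
      ∀ φ : MulAut Q, (orderOf φ).Coprime p → (∀ x ∈ D, φ x = x) → φ = 1 := by
  have hp : p.Prime := Fact.out
  obtain ⟨C, hchar, hfr, hcomm, hcen⟩ := Cfsg.Agent.S0093.result hQ
  have hCinv : ∀ φ : MulAut Q, ∀ x ∈ C, φ x ∈ C := fun φ x hx =>
    (Subgroup.characteristic_iff_le_comap.1 hchar φ) hx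
  -- commutators are central in `C`
  have hd : ∀ x ∈ C, ∀ y ∈ C, ∀ z ∈ C, Commute ⁅y, x⁆ z := by
    intro x _ y hy z hz
    have h1 : ⁅y, x⁆ ∈ Subgroup.centralizer (C : Set Q) :=
      (hcomm (Subgroup.commutator_mem_commutator hy (Subgroup.mem_top x))).2
    exact ((Subgroup.mem_centralizer_iff.1 h1) z hz).symm
  have hyx : ∀ x y : Q, y * x = ⁅y, x⁆ * (x * y) := by
    intro x y
    rw [commutatorElement_def]; group
  have hpz : ∀ y ∈ C, ∀ z ∈ C, Commute (y ^ p) z := by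
    intro y hy z hz
    have h1 : y ^ p ∈ Subgroup.centralizer (C : Set Q) := by
      apply hfr
      exact ⟨(⟨y, hy⟩ : C) ^ p,
        Cfsg.Agent.Lib.Helper2.pow_p_mem_frattini (hQ.to_subgroup C) _, rfl⟩
    exact ((Subgroup.mem_centralizer_iff.1 h1) z hz).symm
  have hmul : ∀ x ∈ C, ∀ y ∈ C, (x ^ p = 1 ∨ (p = 2 ∧ x ^ 4 = 1)) →
      (y ^ p = 1 ∨ (p = 2 ∧ y ^ 4 = 1)) → ((x * y) ^ p = 1 ∨ (p = 2 ∧ (x * y) ^ 4 = 1)) := by
    intro x hx y hy hxs hys
    have hdx := hd x hx y hy x hx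
    have hdy := hd x hx y hy y hy
    by_cases hp2 : p = 2
    · right
      refine ⟨hp2, ?_⟩
      have hx4 : x ^ 4 = 1 := by
        rcases hxs with h | ⟨-, h⟩
        · rw [hp2] at h
          rw [show 4 = 2 * 2 by norm_num, pow_mul, h, one_pow]
        · exact h
      have hy4 : y ^ 4 = 1 := by
        rcases hys with h | ⟨-, h⟩
        · rw [hp2] at h
          rw [show 4 = 2 * 2 by norm_num, pow_mul, h, one_pow]
        · exact h
      have h1 := Cfsg.Agent.Lib.Helper88.pow_mul_comm_central (hyx x y) hdy 2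
      have h2 : y ^ 2 * x = x * y ^ 2 := by
        have := hpz y hy x hx
        rw [hp2] at this
        exact this.eq
      have h3 : ⁅y, x⁆ ^ 2 = 1 := by
        rw [h2] at h1
        exact (mul_eq_right.1 h1.symm)
      rw [Cfsg.Agent.Lib.Helper88.mul_pow_central (hyx x y) hdx hdy 4, hx4, hy4]
      have : Nat.choose 4 2 = 2 * 3 := by decide
      rw [this, pow_mul, h3]
      simp
    · left
      have hxp : x ^ p = 1 := by
        rcases hxs with h | ⟨h, -⟩
        · exact h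
        · exact absurd h hp2
      have hyp : y ^ p = 1 := by
        rcases hys with h | ⟨h, -⟩
        · exact h
        · exact absurd h hp2
      have h1 := Cfsg.Agent.Lib.Helper88.pow_mul_comm_central (hyx x y) hdy p
      have h3 : ⁅y, x⁆ ^ p = 1 := by
        rw [hyp, one_mul, mul_one] at h1
        exact (mul_eq_right.1 h1.symm)
      rw [Cfsg.Agent.Lib.Helper88.mul_pow_central (hyx x y) hdx hdy p, hxp, hyp]
      have h2lt : 2 < p := lt_of_le_of_ne hp.two_le (Ne.symm hp2)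
      obtain ⟨r, hr⟩ := hp.dvd_choose_self (by norm_num : (2 : ℕ) ≠ 0) h2lt
      rw [hr, pow_mul, h3]
      simp
  let D : Subgroup Q :=
    { carrier := {x | x ∈ C ∧ (x ^ p = 1 ∨ (p = 2 ∧ x ^ 4 = 1))}
      one_mem' := ⟨C.one_mem, Or.inl (one_pow _)⟩
      mul_mem' := fun {a b} ha hb => ⟨C.mul_mem ha.1 hb.1, hmul a ha.1 b hb.1 ha.2 hb.2⟩
      inv_mem' := by
        rintro a ⟨ha, hs⟩
        refine ⟨C.inv_mem ha, ?_⟩
        rcases hs with h | ⟨h2, h⟩
        · left; rw [inv_pow, h, inv_one]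
        · right; exact ⟨h2, by rw [inv_pow, h, inv_one]⟩ }
  refine ⟨D, ?_, fun x hx => hx.2, ?_⟩
  · rw [Subgroup.characteristic_iff_le_comap]
    rintro φ x ⟨hx, hs⟩
    refine ⟨hCinv φ x hx, ?_⟩
    show ((φ x) ^ p = 1 ∨ (p = 2 ∧ (φ x) ^ 4 = 1))
    rcases hs with h | ⟨h2, h⟩
    · left; rw [← map_pow, h, map_one]
    · right; exact ⟨h2, by rw [← map_pow, h, map_one]⟩
  · intro φ hφ hfix
    have hfixC := Cfsg.Agent.Lib.Helper88.fixes_of_fixes_small p φ (orderOf φ) hφ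
      (pow_orderOf_eq_one φ) (Nat.card C) C inferInstance (hQ.to_subgroup C) le_rfl (hCinv φ)
      (fun x hx hs => hfix x ⟨hx, hs⟩)
    haveI : C.Normal := Subgroup.normal_of_characteristic C
    exact Cfsg.Agent.Lib.Lead.mulAut_eq_one_of_fix_selfCentralizing hQ C hcen φ hφ hfixC

theorem resAut_pow_apply {R : Type*} [Group R] (D : Subgroup R) (g : MulAut R)
    (h : ∀ d ∈ D, g d ∈ D) (h' : ∀ d ∈ D, g⁻¹ d ∈ D) (j : ℕ) (d : D) :
    ((((Cfsg.Agent.Lib.Helper64.resAut D g h h') ^ j) d : D) : R) = (g ^ j) d := by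
  induction j generalizing d with
  | zero => simp
  | succ j ih =>
    rw [pow_succ, pow_succ, MulAut.mul_apply, MulAut.mul_apply, ih]
    rfl

/-- Relative version: `Q ≤ P` invariant under a group `A` of automorphisms of `P`. -/
theorem exists_small_faithful_rel {P : Type*} [Group P] [Finite P] {p : ℕ} [Fact p.Prime]
    (hP : IsPGroup p P) (Q : Subgroup P) :
    ∃ D : Subgroup P, D ≤ Q ∧ (∀ x ∈ D, x ^ p = 1 ∨ (p = 2 ∧ x ^ 4 = 1)) ∧
      (∀ α : MulAut P, (∀ x ∈ Q, α x ∈ Q) → (∀ x ∈ Q, α⁻¹ x ∈ Q) → ∀ x ∈ D, α x ∈ D) ∧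
      ∀ β : MulAut P, (∀ x ∈ Q, β x ∈ Q) → (∀ x ∈ Q, β⁻¹ x ∈ Q) → ∀ m : ℕ, m.Coprime p →
        β ^ m = 1 → (∀ x ∈ D, β x = x) → ∀ x ∈ Q, β x = x := by
  obtain ⟨D₀, hchar, hsmall, hfaith⟩ := exists_small_faithful (hP.to_subgroup Q)
  refine ⟨D₀.map Q.subtype, Subgroup.map_subtype_le _, ?_, ?_, ?_⟩
  · rintro _ ⟨x, hx, rfl⟩
    rcases hsmall x hx with h | ⟨h2, h⟩
    · left; exact congrArg Subtype.val h
    · right; exact ⟨h2, congrArg Subtype.val h⟩
  · rintro α h1 h2 _ ⟨x, hx, rfl⟩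
    exact ⟨Cfsg.Agent.Lib.Helper64.resAut Q α h1 h2 x,
      (Subgroup.characteristic_iff_le_comap.1 hchar _) hx, rfl⟩
  · intro β h1 h2 m hm hβm hfix x hx
    have h3 : Cfsg.Agent.Lib.Helper64.resAut Q β h1 h2 = 1 := by
      apply hfaith
      · apply Nat.Coprime.coprime_dvd_left _ hm
        apply orderOf_dvd_of_pow_eq_one
        ext d
        rw [resAut_pow_apply, hβm]
        rfl
      · intro d hd
        ext
        exact hfix _ ⟨d, hd, rfl⟩
    have := congrArg (fun f : MulAut Q => ((f ⟨x, hx⟩ : Q) : P)) h3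
    exact this

end Cfsg.Agent.Lib.Helper84
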