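import Cfsg.Agent.Lib.Helper84.FusionSmallAb2
import Cfsg.Agent.Lib.Helper84.FusionSmallCyclic
import Cfsg.Agent.Lib.Helper84.SmallFaithful
import Cfsg.Agent.Lib.Helper25.SelfCentralizing
import Cfsg.Agent.S5124

set_option autoImplicit false

/-! "Small abelian subgroups of the hyperfocal subgroup control fusion" (Benson–Grodal–Henn),
part 3 (helper84). -/

namespace Cfsg.Agent.Lib.Helper84

open Cfsg Cfsg.FusionSystem
open scoped commutatorElement

theorem fixes_of_fix_selfCentralizing {P : Type*} [Group P] (p : ℕ) (β : MulAut P) (m : ℕ)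
    (hm : m.Coprime p) (hβm : β ^ m = 1) (D A₀ : Subgroup P) (hD : IsPGroup p D)
    (hinv : ∀ x ∈ D, β x ∈ D) (hnorm : ∀ x ∈ D, ∀ h ∈ A₀, x * h * x⁻¹ ∈ A₀)
    (hC : D ⊓ Subgroup.centralizer (A₀ : Set P) ≤ A₀) (hfix : ∀ a ∈ A₀, β a = a) :
    ∀ x ∈ D, β x = x := by
  intro x hx
  have hcD : x⁻¹ * β x ∈ D := D.mul_mem (D.inv_mem hx) (hinv x hx)
  have hcC : x⁻¹ * β x ∈ Subgroup.centralizer (A₀ : Set P) := by
    rw [Subgroup.mem_centralizer_iff]
    intro h hh
    have h1 : β (x * h * x⁻¹) = x * h * x⁻¹ := hfix _ (hnorm x hx h hh)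
    rw [map_mul, map_mul, map_inv, hfix h hh] at h1
    have h2 : β x * h = x * h * x⁻¹ * β x := by
      rw [← h1]; group
    calc h * (x⁻¹ * β x) = x⁻¹ * (x * h * x⁻¹ * β x) := by group
      _ = x⁻¹ * (β x * h) := by rw [h2]
      _ = x⁻¹ * β x * h := by group
  have hcA := hC ⟨hcD, hcC⟩
  have hpk : ∃ k : ℕ, (x⁻¹ * β x) ^ p ^ k = 1 := by
    obtain ⟨k, hk⟩ := hD ⟨_, hcD⟩
    exact ⟨k, congrArg Subtype.val hk⟩
  have h3 := Cfsg.Agent.Lib.Helper88.eq_one_of_twist p β m hm hβm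
    (x := x) (t := x⁻¹ * β x) (by group) (hfix _ hcA) hpk
  have : β x = x * (x⁻¹ * β x) := by group
  rw [this, h3, mul_one]

theorem exists_normal_abelian_rel {R : Type*} [Group R] [Finite R] [Group.IsNilpotent R]
    (D : Subgroup R) [hDn : D.Normal] :
    ∃ A : Subgroup R, A ≤ D ∧ A.Normal ∧ IsMulCommutative A ∧
      D ⊓ Subgroup.centralizer (A : Set R) ≤ A := by
  obtain ⟨A, -, hA⟩ := Finite.exists_le_maximal
    (p := fun B : Subgroup R => B ≤ D ∧ B.Normal ∧ IsMulCommutative B)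
    (a := ⊥) ⟨bot_le, inferInstance, inferInstance⟩
  obtain ⟨hAD, hAn, hAc⟩ := hA.prop
  refine ⟨A, hAD, hAn, hAc, ?_⟩
  by_contra hcon
  have hCn : (D ⊓ Subgroup.centralizer (A : Set R)).Normal := inferInstance
  obtain ⟨x, hxC, hxA, hx⟩ :=
    Cfsg.Agent.Lib.Helper25.exists_mem_not_mem_commutator_mem A
      (D ⊓ Subgroup.centralizer (A : Set R)) hcon
  obtain ⟨B, hB⟩ : ∃ B : Subgroup R, B = Subgroup.closure ((A : Set R) ∪ {x}) := ⟨_, rfl⟩
  have hAB : A ≤ B := fun a ha => hB ▸ Subgroup.subset_closure (Or.inl ha)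
  have hxB : x ∈ B := hB ▸ Subgroup.subset_closure (Or.inr rfl)
  have hBD : B ≤ D := by
    rw [hB, Subgroup.closure_le]
    rintro y (hy | hy)
    · exact hAD hy
    · rw [Set.mem_singleton_iff] at hy; rw [hy]; exact hxC.1
  have hBc : IsMulCommutative B := by
    rw [hB]
    apply Subgroup.isMulCommutative_closure
    rintro y (hy | hy) z (hz | hz)
    · exact setLike_mul_comm hy hz
    · rw [Set.mem_singleton_iff] at hz; subst hz
      exact (hxC.2 y hy)
    · rw [Set.mem_singleton_iff] at hy; subst hy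
      exact (hxC.2 z hz).symm
    · rw [Set.mem_singleton_iff] at hy hz; rw [hy, hz]
  have hBn : B.Normal := by
    constructor
    intro n hn g
    rw [hB] at hn
    induction hn using Subgroup.closure_induction with
    | mem y hy =>
      rcases hy with hy | hy
      · exact hAB (hAn.conj_mem y hy g)
      · rw [Set.mem_singleton_iff] at hy; subst hy
        have h1 : ⁅y, g⁆ ∈ A := hx g
        have h2 : g * y * g⁻¹ = ⁅y, g⁆⁻¹ * y := by
          rw [commutatorElement_def]; group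
        rw [h2]
        exact B.mul_mem (B.inv_mem (hAB h1)) hxB
    | one => simp
    | mul y z _ _ hy hz =>
      have : g * (y * z) * g⁻¹ = (g * y * g⁻¹) * (g * z * g⁻¹) := by group
      rw [this]; exact B.mul_mem hy hz
    | inv y _ hy =>
      have : g * y⁻¹ * g⁻¹ = (g * y * g⁻¹)⁻¹ := by group
      rw [this]; exact B.inv_mem hy
  exact hxA (hA.le_of_ge ⟨hBD, hBn, hBc⟩ hAB hxB)

variable {Ω : Type*} [Group Ω] {S : Subgroup Ω}

/-- **Small abelian subgroups of the hyperfocal subgroup control fusion.** -/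
theorem hom_subset_of_small_abelian [Finite S] (p : ℕ) [Fact p.Prime] (hS : IsPGroup p S)
    (E F : FusionSystem S) (hE : E.IsSaturated p) (hF : F.IsSaturated p)
    (hEF : ∀ P : Subgroup Ω, E.Hom P ⊆ F.Hom P)
    (h : ∀ A : Subgroup Ω, A ≤ F.hyperfocalSubgroup p → (∀ x ∈ A, ∀ y ∈ A, x * y = y * x) →
      (∀ x ∈ A, x ^ p = 1 ∨ (p = 2 ∧ x ^ 4 = 1)) → F.Hom A ⊆ E.Hom A) :
    ∀ X : Subgroup Ω, F.Hom X ⊆ E.Hom X := by
  have hsc := Cfsg.Agent.S5124.result p hS F hF
  intro X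
  induction' hn : Nat.card S - Nat.card X using Nat.strong_induction_on with n ih generalizing X
  intro φ₀ hφ₀
  have hXS : X ≤ S := (F.le_of_mem hφ₀).1
  have IH : ∀ N : Subgroup Ω, Nat.card X < Nat.card N → F.Hom N ⊆ E.Hom N := by
    intro N hN ψ hψ
    have hNS : N ≤ S := (F.le_of_mem hψ).1
    have h1 := Subgroup.card_le_of_le hNS
    exact ih (Nat.card S - Nat.card N) (by omega) N rfl hψ
  have hfinX : Finite X := finite_of_le hXS
  have hXp : IsPGroup p X := hS.to_le hXS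
  have hnil : Group.IsNilpotent X := hXp.isNilpotent
  obtain ⟨Q, hQ⟩ : ∃ Q : Subgroup X, Q = (F.hyperfocalSubgroup p).subgroupOf X := ⟨_, rfl⟩
  have hQinv : ∀ α ∈ F.autGroup X, ∀ x ∈ Q, α x ∈ Q := by
    intro α hα x hx
    rw [hQ, Subgroup.mem_subgroupOf] at hx ⊢
    have h1 := (restrict_zpowers_mem F hXS hα x).1
    exact hsc.2 _ ((Subgroup.zpowers_le).2 hx) _ h1 ⟨(x : Ω), Subgroup.mem_zpowers _⟩
  obtain ⟨D, hDQ, hDsmall, hDinv', hDfaith⟩ := exists_small_faithful_rel hXp Q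
  have hDinv : ∀ α ∈ F.autGroup X, ∀ x ∈ D, α x ∈ D := fun α hα =>
    hDinv' α (hQinv α hα) (hQinv _ (Subgroup.inv_mem _ hα))
  have hinn : ∀ g : X, MulAut.conj g ∈ F.autGroup X := by
    intro g
    apply autInducedBy_le_autGroup F hXS
    exact (mem_autInducedBy_iff S X _).2 ⟨g, hXS g.2, fun x => rfl⟩
  have hDn : D.Normal := ⟨fun d hd g => hDinv _ (hinn g) d hd⟩
  obtain ⟨A₀, hA₀D, hA₀n, hA₀c, hA₀C⟩ := exists_normal_abelian_rel D
  obtain ⟨A, hA⟩ : ∃ A : Subgroup Ω, A = A₀.map X.subtype := ⟨_, rfl⟩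
  have hAX : A ≤ X := by rw [hA]; exact Subgroup.map_subtype_le _
  have hmemA : ∀ a (ha : a ∈ A), (⟨a, hAX ha⟩ : X) ∈ A₀ := by
    intro a ha
    have ha' := ha
    rw [hA] at ha'
    obtain ⟨x, hx, hxa⟩ := ha'
    have : (⟨a, hAX ha⟩ : X) = x := Subtype.ext hxa.symm
    rwa [this]
  have hmemA' : ∀ x ∈ A₀, (x : Ω) ∈ A := by
    intro x hx; rw [hA]; exact ⟨x, hx, rfl⟩
  have hXN : X ≤ normalizerIn S A := by
    intro g hg
    refine ⟨hXS hg, ?_⟩
    apply mem_normalizer_of_conj_mem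
    · intro a ha
      exact hmemA' _ (hA₀n.conj_mem _ (hmemA a ha) ⟨g, hg⟩)
    · intro a ha
      have := hmemA' _ (hA₀n.conj_mem _ (hmemA a ha) (⟨g, hg⟩ : X)⁻¹)
      simpa using this
  have hAH : A ≤ F.hyperfocalSubgroup p := by
    intro a ha
    have := hDQ (hA₀D (hmemA a ha))
    rwa [hQ, Subgroup.mem_subgroupOf] at this
  have hAcomm : ∀ x ∈ A, ∀ y ∈ A, x * y = y * x := by
    intro x hx y hy
    have := setLike_mul_comm (hmemA x hx) (hmemA y hy)
    exact congrArg Subtype.val this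
  have hAsmall : ∀ x ∈ A, x ^ p = 1 ∨ (p = 2 ∧ x ^ 4 = 1) := by
    intro x hx
    rcases hDsmall _ (hA₀D (hmemA x hx)) with h1 | ⟨h2, h1⟩
    · left; exact congrArg Subtype.val h1
    · right; exact ⟨h2, congrArg Subtype.val h1⟩
  refine hom_subset_of_small hS hE hF hEF hAX hXN ?_ ?_ IH hφ₀
  · rintro B ⟨ψ, hψ, rfl⟩
    apply h
    · rintro _ ⟨a, rfl⟩
      exact hsc.2 A hAH ψ hψ a
    · rintro _ ⟨a, rfl⟩ _ ⟨b, rfl⟩
      rw [← map_mul, ← map_mul]
      congr 1
      exact Subtype.ext (hAcomm a a.2 b b.2)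
    · rintro _ ⟨a, rfl⟩
      rcases hAsmall a a.2 with h1 | ⟨h2, h1⟩
      · left
        rw [← map_pow]
        have : a ^ p = 1 := Subtype.ext h1
        rw [this, map_one]
      · right
        refine ⟨h2, ?_⟩
        rw [← map_pow]
        have : a ^ 4 = 1 := Subtype.ext h1
        rw [this, map_one]
  · intro β hβ m hm hβm hfix
    have hfixD := fixes_of_fix_selfCentralizing p β m hm hβm D A₀ (hXp.to_subgroup D)
      (hDinv β hβ) (fun x _ a ha => hA₀n.conj_mem a ha x) hA₀C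
      (fun a ha => hfix a (hmemA' a ha))
    have hfixQ := hDfaith β (hQinv β hβ) (hQinv _ (Subgroup.inv_mem _ hβ)) m hm hβm hfixD
    ext1 x
    have h1 : β x = x * (x⁻¹ * β x) := by group
    have h2 : x⁻¹ * β x ∈ Q := by
      rw [hQ, Subgroup.mem_subgroupOf]
      exact mem_hyperfocal_of_coprime F p hXS hβ hm hβm x
    have h3 := Cfsg.Agent.Lib.Helper88.eq_one_of_twist p β m hm hβm h1 (hfixQ _ h2) (hXp _)
    rw [h3, mul_one] at h1
    exact h1

end Cfsg.Agent.Lib.Helper84
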