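import Cfsg.Agent.Lib.Helper84.FusionSmallCyclic
import Cfsg.Agent.Lib.Helper84.SmallFaithful
import Cfsg.Agent.Lib.Helper84.ChainStab2
import Cfsg.Agent.S5124
import Cfsg.Agent.S5301

set_option autoImplicit false

/-! `S` is normal in `F` if the maps between small cyclic subgroups of the hyperfocal subgroup
preserve the lower central series of `S` (helper84). -/

namespace Cfsg.Agent.Lib.Helper84

open Cfsg Cfsg.FusionSystem
open scoped commutatorElement

variable {Ω : Type*} [Group Ω] {S : Subgroup Ω}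

theorem map_mem_lcs {K : Subgroup Ω} (hSK : S ≤ K) (ψ : K →* Ω)
    (hψ : (S.subgroupOf K).map ψ = S) (j : ℕ) {x : Ω} (hx : x ∈ S.lowerCentralSeries j)
    (hxK : x ∈ K) : ψ ⟨x, hxK⟩ ∈ S.lowerCentralSeries j := by
  have h1 : ((S.subgroupOf K).lowerCentralSeries j).map ψ = S.lowerCentralSeries j := by
    rw [Subgroup.map_lowerCentralSeries, hψ]
  have h2 : ((S.subgroupOf K).lowerCentralSeries j).map K.subtype = S.lowerCentralSeries j := by
    rw [Subgroup.map_lowerCentralSeries, Subgroup.map_subgroupOf_eq_of_le hSK]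
  rw [← h2] at hx
  obtain ⟨y, hy, hyx⟩ := hx
  have : (⟨x, hxK⟩ : K) = y := Subtype.ext hyx.symm
  rw [this, ← h1]
  exact ⟨y, hy, rfl⟩

theorem normal_of_small_lcs [Finite S] (p : ℕ) [Fact p.Prime] (hS : IsPGroup p S)
    (F : FusionSystem S) (hF : F.IsSaturated p)
    (h : ∀ (P : Subgroup Ω), P ≤ S → ∀ α ∈ F.autGroup P, ∀ (i : ℕ) (x : P),
      (x ^ p = 1 ∨ (p = 2 ∧ x ^ 4 = 1)) →
      (x : Ω) ∈ F.hyperfocalSubgroup p → ((α x : P) : Ω) ∈ F.hyperfocalSubgroup p →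
      (x : Ω) ∈ S.lowerCentralSeries i → ((α x : P) : Ω) ∈ S.lowerCentralSeries i) :
    F.IsNormal S := by
  apply Cfsg.Agent.S5301.result p hS F hF
  intro P hfn _ _
  obtain ⟨-, hfa, -⟩ := sat_fullyNormalized hS hF hfn
  obtain ⟨hPS, R, hR⟩ := hfa
  have hfinP : Finite P := finite_of_le hPS
  have hPp : IsPGroup p P := hS.to_le hPS
  have hfinA : Finite (F.autGroup P) := finite_autGroup F hPS
  have hsc := Cfsg.Agent.S5124.result p hS F hF
  obtain ⟨Q, hQ⟩ : ∃ Q : Subgroup P, Q = (F.hyperfocalSubgroup p).subgroupOf P := ⟨_, rfl⟩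
  have hQinv : ∀ α ∈ F.autGroup P, ∀ x ∈ Q, α x ∈ Q := by
    intro α hα x hx
    rw [hQ, Subgroup.mem_subgroupOf] at hx ⊢
    have h1 := (restrict_zpowers_mem F hPS hα x).1
    exact hsc.2 _ ((Subgroup.zpowers_le).2 hx) _ h1 ⟨(x : Ω), Subgroup.mem_zpowers _⟩
  obtain ⟨D, hDQ, hDsmall, hDinv', hDfaith⟩ := exists_small_faithful_rel hPp Q
  have hDinv : ∀ α ∈ F.autGroup P, ∀ x ∈ D, α x ∈ D := fun α hα =>
    hDinv' α (hQinv α hα) (hQinv _ (Subgroup.inv_mem _ hα))
  have hDH : ∀ x ∈ D, (x : Ω) ∈ F.hyperfocalSubgroup p := by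
    intro x hx
    have := hDQ hx
    rwa [hQ, Subgroup.mem_subgroupOf] at this
  obtain ⟨k, hk⟩ := (Subgroup.isNilpotent_iff_lowerCentralSeries S).1 hS.isNilpotent
  let c : ℕ → Subgroup P := fun i => D ⊓ (S.lowerCentralSeries (k - i)).subgroupOf P
  have hc : Monotone c := by
    intro i j hij
    apply inf_le_inf_left
    intro x hx
    exact S.lowerCentralSeries_antitone (by omega : k - j ≤ k - i) hx
  have hc0 : c 0 = ⊥ := by
    rw [eq_bot_iff]
    rintro x ⟨-, hx⟩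
    replace hx : (x : Ω) ∈ S.lowerCentralSeries (k - 0) := hx
    rw [Nat.sub_zero, hk, Subgroup.mem_bot] at hx
    rw [Subgroup.mem_bot]
    ext; exact hx
  have hck : c k = D := by
    apply le_antisymm inf_le_left
    intro x hx
    refine ⟨hx, ?_⟩
    show (x : Ω) ∈ S.lowerCentralSeries (k - k)
    rw [Nat.sub_self]
    exact hPS x.2
  have hcinv : ∀ α ∈ F.autGroup P, ∀ i, ∀ x ∈ c i, α x ∈ c i := by
    rintro α hα i x ⟨hxD, hx⟩
    exact ⟨hDinv α hα x hxD,
      h P hPS α hα _ x (hDsmall x hxD) (hDH x hxD) (hDH _ (hDinv α hα x hxD)) hx⟩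
  have hG0n := chainStab_normal c hc (F.autGroup P) hcinv
  have hRstep : ∀ κ ∈ autInducedBy S P, ∀ i, ∀ x ∈ c (i + 1), x⁻¹ * κ x ∈ c i := by
    rintro κ hκ i x ⟨hxD, hx⟩
    have hκA : κ ∈ F.autGroup P := autInducedBy_le_autGroup F hPS hκ
    have hD1 : x⁻¹ * κ x ∈ D := D.mul_mem (D.inv_mem hxD) (hDinv κ hκA x hxD)
    refine ⟨hD1, ?_⟩
    replace hx : (x : Ω) ∈ S.lowerCentralSeries (k - (i + 1)) := hx
    show ((x⁻¹ * κ x : P) : Ω) ∈ S.lowerCentralSeries (k - i)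
    by_cases hik : i + 1 ≤ k
    · obtain ⟨s, hsS, hs'⟩ := (mem_autInducedBy_iff S P _).1 hκ
      have h3 : ((x⁻¹ * κ x : P) : Ω) = ⁅(x : Ω)⁻¹, s⁆ := by
        push_cast
        rw [hs' x, commutatorElement_def]
        group
      have h4 : k - i = (k - (i + 1)) + 1 := by omega
      rw [h3, h4, Subgroup.lowerCentralSeries_succ]
      exact Subgroup.commutator_mem_commutator (Subgroup.inv_mem _ hx) hsS
    · have h4 : k - i = 0 := by omega
      rw [h4]
      exact hPS (x⁻¹ * κ x).2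
  have hRG0 : (R : Subgroup (F.autGroup P)) ≤ (chainStab c hc).subgroupOf (F.autGroup P) := by
    intro κ hκ
    rw [hR, Subgroup.mem_subgroupOf] at hκ
    rw [Subgroup.mem_subgroupOf, mem_chainStab]
    intro i x hx
    exact ⟨hRstep _ hκ i x hx, hRstep _ (Subgroup.inv_mem _ hκ) i x hx⟩
  have hG0p : IsPGroup p ((chainStab c hc).subgroupOf (F.autGroup P)) := by
    rintro ⟨κ, hκ⟩
    rw [Subgroup.mem_subgroupOf] at hκ
    obtain ⟨k₁, hk₁⟩ := chainStab_exists_pow_fix hPp c hc hc0 hκ k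
    rw [hck] at hk₁
    obtain ⟨a, ha⟩ := Cfsg.Agent.Lib.Helper47.exists_pow_coprime (p := p) (κ ^ p ^ k₁)
    obtain ⟨β, hβ⟩ : ∃ β : MulAut P, β = ((κ : MulAut P) ^ p ^ k₁) ^ p ^ a := ⟨_, rfl⟩
    have hβA : β ∈ F.autGroup P := by
      rw [hβ]; exact Subgroup.pow_mem _ (Subgroup.pow_mem _ κ.2 _) _
    have hβm : β ^ orderOf ((κ ^ p ^ k₁) ^ p ^ a) = 1 := by
      have := pow_orderOf_eq_one ((κ ^ p ^ k₁) ^ p ^ a)
      rw [hβ]
      exact congrArg Subtype.val this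
    have hfixD : ∀ x ∈ D, β x = x := by
      intro x hx
      rw [hβ]
      have : ∀ j : ℕ, (((κ : MulAut P) ^ p ^ k₁) ^ j) x = x := by
        intro j
        induction j with
        | zero => simp
        | succ j ih => rw [pow_succ', MulAut.mul_apply, ih, hk₁ x hx]
      exact this _
    have hfixQ := hDfaith β (hQinv β hβA) (hQinv _ (Subgroup.inv_mem _ hβA)) _ ha hβm hfixD
    have hβ1 : β = 1 := by
      ext1 x
      have h1 : β x = x * (x⁻¹ * β x) := by group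
      have h2 : x⁻¹ * β x ∈ Q := by
        rw [hQ, Subgroup.mem_subgroupOf]
        exact mem_hyperfocal_of_coprime F p hPS hβA ha hβm x
      have h3 := Cfsg.Agent.Lib.Helper88.eq_one_of_twist p β _ ha hβm h1 (hfixQ _ h2) (hPp _)
      rw [h3, mul_one] at h1
      exact h1
    refine ⟨k₁ + a, ?_⟩
    apply Subtype.ext
    apply Subtype.ext
    show (κ : MulAut P) ^ p ^ (k₁ + a) = 1
    rw [pow_add, pow_mul, ← hβ, hβ1]
  refine ⟨R, ?_⟩
  have : (chainStab c hc).subgroupOf (F.autGroup P) = R := R.3 hG0p hRG0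
  rw [← this]
  exact hG0n

end Cfsg.Agent.Lib.Helper84
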