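import Cfsg.Agent.Lib.Helper84.BisetTransfer
import Cfsg.Agent.Lib.Helper88.FusTransfer
import Cfsg.Agent.Lib.Helper84.FusionFocal
import Cfsg.Agent.Lib.Helper85.FusPIndex2
import Cfsg.Agent.S5124

set_option autoImplicit false

/-! Tate's theorem for fusion systems, via a refined transfer (helper84).

Main result `exists_hom_extending`: every `S`-invariant homomorphism from the hyperfocal subgroup to an abelian group
extends to a homomorphism of `S`. -/

namespace Cfsg.Agent.Lib.Helper84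

open Cfsg Cfsg.FusionSystem

variable {Ω : Type*} [Group Ω] {S : Subgroup Ω}

/-- The maps of `F` which are, modulo `N`, conjugations by elements of `S`. -/
def ctlSystem (F : FusionSystem S) (N : Subgroup Ω) (hN : ∀ g ∈ S, ∀ t ∈ N, g * t * g⁻¹ ∈ N) :
    FusionSystem S where
  Hom P := {φ | φ ∈ F.Hom P ∧ ∃ r ∈ S, ∀ x : P, (r * x * r⁻¹)⁻¹ * φ x ∈ N}
  le_of_mem h := F.le_of_mem h.1
  injective_of_mem h := F.injective_of_mem h.1
  conj_mem := by
    intro P g hP hg
    refine ⟨F.conj_mem hP hg, g, hg, fun x => ?_⟩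
    rw [conjHom_apply, inv_mul_cancel]
    exact N.one_mem
  comp_mem := by
    rintro P Q φ ψ ⟨hφ, r, hr, hφ'⟩ ⟨hψ, r', hr', hψ'⟩ h
    refine ⟨F.comp_mem hφ hψ h, r' * r, S.mul_mem hr' hr, fun x => ?_⟩
    have h1 := N.mul_mem (hN r' hr' _ (hφ' x)) (hψ' (φ.codRestrict Q h x))
    have e : (r' * r * x * (r' * r)⁻¹)⁻¹ * (ψ.comp (φ.codRestrict Q h)) x =
        r' * ((r * x * r⁻¹)⁻¹ * φ x) * r'⁻¹ *
          ((r' * ((φ.codRestrict Q h x : Q) : Ω) * r'⁻¹)⁻¹ * ψ (φ.codRestrict Q h x)) := by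
      have e1 : ((φ.codRestrict Q h x : Q) : Ω) = φ x := rfl
      rw [e1, MonoidHom.comp_apply]
      group
    rw [e]
    exact h1
  inv_mem := by
    rintro P φ ⟨hφ, r, hr, hφ'⟩
    obtain ⟨ψ, hψ, hψ'⟩ := F.inv_mem hφ
    refine ⟨ψ, ⟨hψ, r⁻¹, S.inv_mem hr, ?_⟩, hψ'⟩
    rintro ⟨_, x, rfl⟩
    rw [hψ']
    have h1 := hN r⁻¹ (S.inv_mem hr) _ (N.inv_mem (hφ' x))
    have e : (r⁻¹ * ((⟨φ x, ⟨x, rfl⟩⟩ : φ.range) : Ω) * r⁻¹⁻¹)⁻¹ * (x : Ω) =
        r⁻¹ * ((r * x * r⁻¹)⁻¹ * φ x)⁻¹ * r⁻¹⁻¹ := by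
      group
    rw [e]
    exact h1

/-- every map of a saturated fusion system is, modulo the hyperfocal subgroup, a conjugation by an element of `S`. -/
theorem exists_control [Finite S] {p : ℕ} [Fact p.Prime] (hS : IsPGroup p S) (F : FusionSystem S)
    (hF : F.IsSaturated p) {P : Subgroup Ω} {φ : P →* Ω} (hφ : φ ∈ F.Hom P) :
    ∃ r ∈ S, ∀ x : P, (r * x * r⁻¹)⁻¹ * φ x ∈ F.hyperfocalSubgroup p := by
  have hle : F ≤ ctlSystem F (F.hyperfocalSubgroup p)
      (fun g hg t ht => Cfsg.Agent.S5124.conj_mem_hyp F p hg ht) := by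
    apply alperin hS F hF
    intro P hP
    have hPn : F.IsFullyNormalized P := by
      rcases hP with rfl | hP
      · exact fullyNormalized_self F
      · exact hP.2.1
    have hPS : P ≤ S := hPn.1
    intro α hα
    rw [mem_autGroup_iff _ hPS]
    refine ⟨(mem_autGroup_iff F hPS α).1 hα, ?_⟩
    obtain ⟨τ, hτ, β, hβ, rfl⟩ := Cfsg.Agent.Lib.Helper85.exists_mul_of_fullyAutomized F
      (sat_fullyNormalized hS hF hPn).2.1 hα
    obtain ⟨g, hg, hg'⟩ := (mem_autInducedBy_iff S P _).1 hτ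
    refine ⟨g, hg, fun x => ?_⟩
    have h1 := Cfsg.Agent.S5124.conj_mem_hyp F p hg
      (Cfsg.Agent.Lib.Helper85.gen_mem_hyperfocal F p hPS hβ x)
    have e : (g * (x : Ω) * g⁻¹)⁻¹ * (P.subtype.comp (τ * β).toMonoidHom) x =
        g * ((x : Ω)⁻¹ * (β x : P)) * g⁻¹ := by
      have : (P.subtype.comp (τ * β).toMonoidHom) x = ((τ (β x) : P) : Ω) := rfl
      rw [this, hg']
      group
    rw [e]
    exact h1
  exact (hle P hφ).2

/-- a function on the hyperfocal subgroup which is multiplicative and invariant under the system is trivial. -/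
theorem stable_trivial [Finite S] {p : ℕ} [Fact p.Prime] (hS : IsPGroup p S) (F : FusionSystem S)
    {Z : Type*} [CommGroup Z] (ω : Ω → Z)
    (hmul : ∀ a ∈ F.hyperfocalSubgroup p, ∀ b ∈ F.hyperfocalSubgroup p, ω (a * b) = ω a * ω b)
    (hst : ∀ (P : Subgroup Ω) (φ : P →* Ω), φ ∈ F.Hom P → ∀ u : P,
      (u : Ω) ∈ F.hyperfocalSubgroup p → ω (φ u) = ω u) :
    ∀ t ∈ F.hyperfocalSubgroup p, ω t = 1 := by
  set h := F.hyperfocalSubgroup p with hh
  have hone : ω 1 = 1 := by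
    have := hmul 1 h.one_mem 1 h.one_mem
    rw [mul_one] at this
    exact mul_eq_left.1 this.symm
  have hinv : ∀ a ∈ h, ω a⁻¹ = (ω a)⁻¹ := by
    intro a ha
    have := hmul a ha a⁻¹ (h.inv_mem ha)
    rw [mul_inv_cancel, hone] at this
    exact (inv_eq_of_mul_eq_one_right this.symm).symm
  have hpow : ∀ a ∈ h, ∀ k : ℕ, ω (a ^ k) = ω a ^ k := by
    intro a ha k
    induction k with
    | zero => simp [hone]
    | succ k ih => rw [pow_succ, pow_succ, hmul _ (h.pow_mem ha k) _ ha, ih]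
  have hgen : ∀ (P : Subgroup Ω), P ≤ S → ∀ α : F.autGroup P, α ∈ pResidual p (F.autGroup P) →
      ∀ x : P, ω ((x : Ω)⁻¹ * ((α : MulAut P) x : P)) = 1 := by
    intro P hPS α hα
    have hm : ∀ β : F.autGroup P, β ∈ pResidual p (F.autGroup P) → ∀ x : P,
        (x : Ω)⁻¹ * ((β : MulAut P) x : P) ∈ h :=
      fun β hβ x => Subgroup.subset_closure ⟨P, β, x, hPS, hβ, rfl⟩
    have hstα : ∀ β : F.autGroup P, ∀ y : P, (y : Ω) ∈ h →
        ω (((β : MulAut P) y : P) : Ω) = ω y := by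
      intro β y hy
      exact hst P _ ((mem_autGroup_iff F hPS β).1 β.2) y hy
    have hsplit : ∀ (β γ : F.autGroup P), β ∈ pResidual p (F.autGroup P) →
        γ ∈ pResidual p (F.autGroup P) → ∀ x : P,
        ω ((x : Ω)⁻¹ * (((β * γ : F.autGroup P) : MulAut P) x : P)) =
          ω ((x : Ω)⁻¹ * ((β : MulAut P) x : P)) * ω ((x : Ω)⁻¹ * ((γ : MulAut P) x : P)) := by
      intro β γ hβ hγ x
      have e : (x : Ω)⁻¹ * (((β * γ : F.autGroup P) : MulAut P) x : P) =
          ((x : Ω)⁻¹ * ((β : MulAut P) x : P)) *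
            (((β : MulAut P) (x⁻¹ * (γ : MulAut P) x) : P) : Ω) := by
        rw [map_mul, map_inv]
        show _ = (x : Ω)⁻¹ * ((β : MulAut P) x : P) *
          ((((β : MulAut P) x : P) : Ω)⁻¹ * (((β : MulAut P) ((γ : MulAut P) x) : P) : Ω))
        rw [mul_assoc, mul_inv_cancel_left]
        rfl
      have hy : ((x⁻¹ * (γ : MulAut P) x : P) : Ω) ∈ h := hm γ hγ x
      have hy' : (((β : MulAut P) (x⁻¹ * (γ : MulAut P) x) : P) : Ω) ∈ h := by
        have h1 := h.mul_mem (h.inv_mem (hm β hβ x))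
          (hm (β * γ) (Subgroup.mul_mem _ hβ hγ) x)
        rw [e, inv_mul_cancel_left] at h1
        exact h1
      rw [e, hmul _ (hm β hβ x) _ hy', hstα β _ hy]
      rfl
    unfold pResidual at hα
    induction hα using Subgroup.closure_induction with
    | mem α hα =>
      intro x
      have hαr : α ∈ pResidual p (F.autGroup P) := Subgroup.subset_closure hα
      have hk : ∀ k : ℕ, ω ((x : Ω)⁻¹ * (((α ^ k : F.autGroup P) : MulAut P) x : P)) =
          ω ((x : Ω)⁻¹ * ((α : MulAut P) x : P)) ^ k := by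
        intro k
        induction k with
        | zero => simp [hone]
        | succ k ih =>
          rw [pow_succ', hsplit α (α ^ k) hαr (Subgroup.pow_mem _ hαr k) x, ih, pow_succ']
      have h1 := hk (orderOf α)
      rw [pow_orderOf_eq_one] at h1
      have h2 : ω ((x : Ω)⁻¹ * ((α : MulAut P) x : P)) ^ orderOf α = 1 := by
        rw [← h1]
        simp [hone]
      have h3 : ω ((x : Ω)⁻¹ * ((α : MulAut P) x : P)) ^ Nat.card S = 1 := by
        rw [← hpow _ (hm α hαr x)]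
        have hxS : (x : Ω)⁻¹ * ((α : MulAut P) x : P) ∈ S := hyperfocal_le F p (hm α hαr x)
        have h4 : (⟨_, hxS⟩ : S) ^ Nat.card S = 1 := pow_card_eq_one'
        have h5 := congrArg (fun z : S => (z : Ω)) h4
        simp only [Subgroup.coe_pow, Subgroup.coe_one] at h5
        rw [h5, hone]
      obtain ⟨n, hn⟩ := IsPGroup.iff_card.1 hS
      have hcop : Nat.Coprime (orderOf α) (Nat.card S) := by
        rw [hn]
        exact Nat.Coprime.pow_right n hα
      have d1 := orderOf_dvd_of_pow_eq_one h2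
      have d2 := orderOf_dvd_of_pow_eq_one h3
      have d3 := Nat.dvd_gcd d1 d2
      rw [hcop.gcd_eq_one, Nat.dvd_one, orderOf_eq_one_iff] at d3
      exact d3
    | one => intro x; simp [hone]
    | mul a b ha hb iha ihb =>
      intro x
      rw [hsplit a b ha hb x, iha x, ihb x, one_mul]
    | inv a ha iha =>
      intro x
      have e : (x : Ω)⁻¹ * (((a⁻¹ : F.autGroup P) : MulAut P) x : P) =
          (((((a⁻¹ : F.autGroup P) : MulAut P) x : P) : Ω)⁻¹ *
            ((a : MulAut P) (((a⁻¹ : F.autGroup P) : MulAut P) x) : P))⁻¹ := by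
        have : (a : MulAut P) (((a⁻¹ : F.autGroup P) : MulAut P) x) = x := by
          show ((a : MulAut P) * ((a⁻¹ : F.autGroup P) : MulAut P)) x = x
          simp
        rw [this]
        group
      rw [e, hinv _ (hm a ha _), iha, inv_one]
  intro t ht
  rw [hh] at ht
  unfold FusionSystem.hyperfocalSubgroup at ht
  induction ht using Subgroup.closure_induction with
  | mem y hy =>
    obtain ⟨P, α, x, hPS, hα, rfl⟩ := hy
    exact hgen P hPS α hα x
  | one => exact hone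
  | mul a b ha hb iha ihb => rw [hmul a ha b hb, iha, ihb, one_mul]
  | inv a ha iha => rw [hinv a ha, iha, inv_one]

/-- **The hyperfocal subgroup modulo `[hyp, S]` is a direct factor**: every function on the hyperfocal subgroup which is
multiplicative and `S`-invariant extends to a homomorphism of `S`. -/
theorem exists_hom_extending [Finite S] {p : ℕ} [Fact p.Prime] (hS : IsPGroup p S)
    (F : FusionSystem S) (hF : F.IsSaturated p) {Z : Type*} [CommGroup Z] (χ : Ω → Z)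
    (hmul : ∀ a ∈ F.hyperfocalSubgroup p, ∀ b ∈ F.hyperfocalSubgroup p, χ (a * b) = χ a * χ b)
    (hconj : ∀ s ∈ S, ∀ a ∈ F.hyperfocalSubgroup p, χ (s * a * s⁻¹) = χ a) :
    ∃ μ : S →* Z, ∀ t : S, (t : Ω) ∈ F.hyperfocalSubgroup p → μ t = χ t := by
  classical
  obtain ⟨L, hL, hst, hpos, m, hm, hpm⟩ := Helper88.exists_char_list p hS F hF
  have hX := Helper88.isFBiset_XL F L hL hst hpos
  have hfree : BisetTr.RFree S (Helper88.XL L) := fun y c hc => Helper88.right_free hX y c hc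
  set h := F.hyperfocalSubgroup p with hh
  have hnorm : (h.subgroupOf S).Normal :=
    ⟨fun t ht g => Cfsg.Agent.S5124.conj_mem_hyp F p g.2 ht⟩
  obtain ⟨f, hf⟩ := @BisetTr.exists_equivariant (S × S) (Helper88.XL L) (S ⧸ h.subgroupOf S) _ _
    (BisetTr.quotAct _) (by
      intro x
      obtain ⟨Q, θ, hθ, hQ⟩ := hX.stab x
      obtain ⟨r, hr, hr'⟩ := exists_control hS F hF hθ
      refine ⟨((⟨r, hr⟩ : S) : S ⧸ h.subgroupOf S), ?_⟩
      intro g hg
      have hg' : g ∈ Helper88.gr S Q θ := by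
        rw [← hQ]; exact hg
      obtain ⟨h2, h3⟩ := hg'
      show (g.1 : S ⧸ h.subgroupOf S) * ((⟨r, hr⟩ : S) : S ⧸ h.subgroupOf S) *
        (g.2 : S ⧸ h.subgroupOf S)⁻¹ = ((⟨r, hr⟩ : S) : S ⧸ h.subgroupOf S)
      have h4 := hr' ⟨g.2, h2⟩
      rw [h3] at h4
      have e : (((⟨r, hr⟩ : S) * g.2 * (⟨r, hr⟩ : S)⁻¹ : S) : S ⧸ h.subgroupOf S) =
          (g.1 : S ⧸ h.subgroupOf S) := QuotientGroup.eq.2 h4
      rw [← e]
      simp)
  obtain ⟨Fr, hFr⟩ := BisetTr.exists_good_frame (h.subgroupOf S) f (fun a b y => hf (a, b) y)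
  letI : Fintype (BisetTr.RQ S (Helper88.XL L)) := Fintype.ofFinite _
  have hχ : BisetTr.IsChar (h.subgroupOf S) (fun s : S => χ s) :=
    ⟨fun a ha b hb => hmul a ha b hb, fun s a ha => hconj s s.2 a ha⟩
  have hcard : Fintype.card (BisetTr.RQ S (Helper88.XL L)) = m := by
    have h1 := BisetTr.card_eq hfree Fr
    rw [← Helper88.mark_bot (G := S × S) (Helper88.XL L), Helper88.mark_XL, hm, mul_comm,
      Nat.card_eq_fintype_card (α := BisetTr.RQ S (Helper88.XL L))] at h1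
    exact (Nat.eq_of_mul_eq_mul_right Nat.card_pos h1).symm
  set δ : S →* Z := MonoidHom.mk' (Fr.del (fun s : S => χ s)) (Fr.del_mul hfree hχ hFr) with hδ
  have hδh : ∀ t : S, (t : Ω) ∈ h →
      δ t = χ t ^ m * Fr.w (fun s : S => χ s) (BisetTr.lft S (Helper88.XL L) t) := by
    intro t ht
    have := Fr.del_of_mem hχ hFr (t := t) ht
    rw [hcard] at this
    exact this
  have hsc := Cfsg.Agent.S5124.result p hS F hF
  have hhS : h ≤ S := hyperfocal_le F p
  have key := stable_trivial hS F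
    (fun y => if hy : y ∈ S then Fr.w (fun s : S => χ s) (BisetTr.lft S (Helper88.XL L) ⟨y, hy⟩)
      else 1) (by
      intro a ha b hb
      have hab : a * b ∈ h := h.mul_mem ha hb
      simp only [dif_pos (hhS ha), dif_pos (hhS hb), dif_pos (hhS hab)]
      have e1 := hδh ⟨a, hhS ha⟩ ha
      have e2 := hδh ⟨b, hhS hb⟩ hb
      have e3 := hδh ⟨a * b, hhS hab⟩ hab
      have e4 : (⟨a * b, hhS hab⟩ : S) = ⟨a, hhS ha⟩ * ⟨b, hhS hb⟩ := rfl
      rw [e4, map_mul, e1, e2] at e3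
      simp only [Subgroup.coe_mul] at e3
      rw [hmul a ha b hb, mul_pow] at e3
      have e5 : χ a ^ m * χ b ^ m * (Fr.w (fun s : S => χ s)
            (BisetTr.lft S (Helper88.XL L) ⟨a, hhS ha⟩) *
          Fr.w (fun s : S => χ s) (BisetTr.lft S (Helper88.XL L) ⟨b, hhS hb⟩)) =
          χ a ^ m * χ b ^ m * Fr.w (fun s : S => χ s)
            (BisetTr.lft S (Helper88.XL L) (⟨a, hhS ha⟩ * ⟨b, hhS hb⟩)) := by
        rw [← e3]
        exact mul_mul_mul_comm _ _ _ _
      exact (mul_left_cancel e5).symm) (by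
      intro P φ hφ u hu
      have huS : (u : Ω) ∈ S := (F.le_of_mem hφ).1 u.2
      have hφS : φ u ∈ S := (F.le_of_mem hφ).2 u
      have hφh : φ u ∈ h :=
        hsc.2 (P ⊓ h) inf_le_right _ (restrict_mem F hφ inf_le_left) ⟨u, ⟨u.2, hu⟩⟩
      simp only [dif_pos huS, dif_pos hφS]
      obtain ⟨g, hg⟩ := Helper88.exists_park_conj hX hφ
      refine Fr.w_conj hfree hχ _ _ ⟨(g : Equiv.Perm (Helper88.XL L)), g.2⟩
        (fun j => Fr.bet_mem hFr (t := ⟨u, huS⟩) hu j)
        (fun j => Fr.bet_mem hFr (t := ⟨φ u, hφS⟩) hφh j) ?_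
      have h1 := hg u
      rw [eq_mul_inv_iff_mul_eq] at h1
      apply Subtype.ext
      exact congrArg Subtype.val h1)
  have hδχ : ∀ t : S, (t : Ω) ∈ h → δ t = χ t ^ m := by
    intro t ht
    have h1 := key t ht
    simp only [dif_pos t.2] at h1
    rw [hδh t ht, h1, mul_one]
  have hone : χ 1 = 1 := by
    have := hmul 1 h.one_mem 1 h.one_mem
    rw [mul_one] at this
    exact mul_eq_left.1 this.symm
  have hpow : ∀ a ∈ h, ∀ k : ℕ, χ (a ^ k) = χ a ^ k := by
    intro a ha k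
    induction k with
    | zero => simp [hone]
    | succ k ih => rw [pow_succ, pow_succ, hmul _ (h.pow_mem ha k) _ ha, ih]
  obtain ⟨n, hn⟩ := IsPGroup.iff_card.1 hS
  have hcop : Nat.Coprime m (Nat.card S) := by
    rw [hn]
    exact Nat.Coprime.pow_right n ((Nat.Prime.coprime_iff_not_dvd Fact.out).2 hpm).symm
  refine ⟨(zpowGroupHom (Nat.gcdA m (Nat.card S))).comp δ, fun t ht => ?_⟩
  have h1 : χ t ^ Nat.card S = 1 := by
    rw [← hpow _ ht]
    have h4 : t ^ Nat.card S = 1 := pow_card_eq_one'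
    have h5 := congrArg (fun z : S => (z : Ω)) h4
    simp only [Subgroup.coe_pow, Subgroup.coe_one] at h5
    rw [h5, hone]
  have h2 := Nat.gcd_eq_gcd_ab m (Nat.card S)
  rw [hcop.gcd_eq_one] at h2
  rw [MonoidHom.comp_apply, hδχ t ht, zpowGroupHom_apply, ← zpow_natCast, ← zpow_mul]
  have h3 : χ t ^ ((1 : ℕ) : ℤ) = χ t := by simp
  rw [h2, zpow_add, zpow_mul _ (Nat.card S : ℤ), zpow_natCast, h1, one_zpow, mul_one] at h3
  exact h3

end Cfsg.Agent.Lib.Helper84
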