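import Cfsg.Agent.Lib.Helper84.FusionTate

set_option autoImplicit false

/-! Tate's theorem for fusion systems (helper84). -/

namespace Cfsg.Agent.Lib.Helper84

open Cfsg Cfsg.FusionSystem
open scoped commutatorElement

theorem eq_bot_of_le_commutator_top {G : Type*} [Group G] [Group.IsNilpotent G] (A : Subgroup G)
    (h : A ≤ ⁅A, (⊤ : Subgroup G)⁆) : A = ⊥ := by
  obtain ⟨n, hn⟩ := Subgroup.nilpotent_iff_lowerCentralSeries.1
    (inferInstance : Group.IsNilpotent G)
  have key : ∀ k, A ≤ Subgroup.lowerCentralSeries (⊤ : Subgroup G) k := by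
    intro k
    induction k with
    | zero => simp
    | succ k ih => exact h.trans (Subgroup.commutator_mono ih le_rfl)
  exact le_bot_iff.1 (hn ▸ key n)

theorem le_of_le_sup_commutator_top {G : Type*} [Group G] [Group.IsNilpotent G] (A B : Subgroup G)
    [B.Normal] (h : A ≤ B ⊔ ⁅A, (⊤ : Subgroup G)⁆) : A ≤ B := by
  have h1 : A.map (QuotientGroup.mk' B) ≤
      ⁅A.map (QuotientGroup.mk' B), (⊤ : Subgroup (G ⧸ B))⁆ := by
    refine (Subgroup.map_mono h).trans ?_
    rw [Subgroup.map_sup, Subgroup.map_commutator]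
    apply sup_le
    · rw [(Subgroup.map_eq_bot_iff B).2 (by rw [QuotientGroup.ker_mk'])]
      exact bot_le
    · exact Subgroup.commutator_mono le_rfl le_top
  have h2 := eq_bot_of_le_commutator_top _ h1
  rw [Subgroup.map_eq_bot_iff, QuotientGroup.ker_mk'] at h2
  exact h2

variable {Ω : Type*} [Group Ω] {S : Subgroup Ω}

theorem tate_aux [Finite S] {p : ℕ} [Fact p.Prime] (hS : IsPGroup p S)
    (F : FusionSystem S) (hF : F.IsSaturated p) {Z : Type*} [CommGroup Z] [Finite Z] (χ : Ω → Z)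
    (hmul : ∀ a ∈ F.hyperfocalSubgroup p, ∀ b ∈ F.hyperfocalSubgroup p, χ (a * b) = χ a * χ b)
    (hconj : ∀ s ∈ S, ∀ a ∈ F.hyperfocalSubgroup p, χ (s * a * s⁻¹) = χ a)
    (hsurj : ∀ z : Z, ∃ t ∈ F.hyperfocalSubgroup p, χ t = z)
    (D : Subgroup Ω) (hD : ∀ t ∈ D, t ∈ F.hyperfocalSubgroup p ∧ χ t = 1)
    (hle : F.hyperfocalSubgroup p ≤ (frattini S).map S.subtype ⊔ (D ⊔ ⁅S, S⁆)) :
    ∀ z : Z, z = 1 := by
  obtain ⟨μ, hμ⟩ := exists_hom_extending hS F hF χ hmul hconj
  have hhS : F.hyperfocalSubgroup p ≤ S := hyperfocal_le F p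
  have hμs : Function.Surjective μ := by
    intro z
    obtain ⟨t, ht, rfl⟩ := hsurj z
    exact ⟨⟨t, hhS ht⟩, hμ ⟨t, hhS ht⟩ ht⟩
  have h1 : (frattini S).map S.subtype ⊔ (D ⊔ ⁅S, S⁆) ≤
      ((frattini Z).comap μ).map S.subtype := by
    refine sup_le (Subgroup.map_mono (frattini_le_comap_frattini_of_surjective hμs))
      (sup_le ?_ ?_)
    · intro t ht
      obtain ⟨ht1, ht2⟩ := hD t ht
      refine ⟨⟨t, hhS ht1⟩, ?_, rfl⟩
      show μ _ ∈ frattini Z
      rw [hμ ⟨t, hhS ht1⟩ ht1, ht2]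
      exact Subgroup.one_mem _
    · rw [Subgroup.commutator_le]
      intro a ha b hb
      refine ⟨⁅(⟨a, ha⟩ : S), ⟨b, hb⟩⁆, ?_, rfl⟩
      show μ _ ∈ frattini Z
      rw [map_commutatorElement, commutatorElement_eq_one_iff_mul_comm.2 (mul_comm _ _)]
      exact Subgroup.one_mem _
  have h2 : frattini Z = ⊤ := by
    rw [eq_top_iff]
    intro z _
    obtain ⟨t, ht, rfl⟩ := hsurj z
    obtain ⟨y, hy, hyt⟩ := h1 (hle ht)
    have : y = ⟨t, hhS ht⟩ := Subtype.ext hyt
    rw [this] at hy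
    have hy' : μ ⟨t, hhS ht⟩ ∈ frattini Z := hy
    rwa [hμ ⟨t, hhS ht⟩ ht] at hy'
  have h3 : (⊥ : Subgroup Z) = ⊤ := frattini_nongenerating (by rw [h2, sup_top_eq])
  intro z
  have : z ∈ (⊥ : Subgroup Z) := h3 ▸ Subgroup.mem_top z
  exact Subgroup.mem_bot.1 this

theorem tate_core [Finite S] {p : ℕ} [Fact p.Prime] (hS : IsPGroup p S)
    (F : FusionSystem S) (hF : F.IsSaturated p) (D : Subgroup Ω)
    (hD1 : D ≤ F.hyperfocalSubgroup p) (hD2 : ⁅F.hyperfocalSubgroup p, S⁆ ≤ D)
    (hle : F.hyperfocalSubgroup p ≤ (frattini S).map S.subtype ⊔ (D ⊔ ⁅S, S⁆)) :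
    F.hyperfocalSubgroup p ≤ D := by
  classical
  set h := F.hyperfocalSubgroup p with hh
  have hhS : h ≤ S := hyperfocal_le F p
  have hfin : Finite h := Finite.of_injective (Subgroup.inclusion hhS)
    (Subgroup.inclusion_injective hhS)
  have hnorm : (D.subgroupOf h).Normal := by
    refine ⟨fun d hd t => ?_⟩
    have h1 : ⁅(t : Ω), (d : Ω)⁆ ∈ D :=
      hD2 (Subgroup.commutator_mem_commutator t.2 (hhS d.2))
    have h2 := D.mul_mem h1 hd
    rw [commutatorElement_def] at h2
    rw [Subgroup.mem_subgroupOf]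
    simpa [mul_assoc] using h2
  have hcomm : _root_.commutator h ≤ D.subgroupOf h := by
    rw [commutator_def, Subgroup.commutator_le]
    intro a _ b _
    exact hD2 (Subgroup.commutator_mem_commutator a.2 (hhS b.2))
  letI : CommGroup (h ⧸ D.subgroupOf h) :=
    { (QuotientGroup.Quotient.group (D.subgroupOf h)) with
      mul_comm := (Subgroup.Normal.quotient_commutative_iff_commutator_le.2 hcomm).is_comm.comm }
  have key := tate_aux hS F hF (Z := h ⧸ D.subgroupOf h)
    (fun y => if hy : y ∈ h then ((⟨y, hy⟩ : h) : h ⧸ D.subgroupOf h) else 1)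
    (by
      intro a ha b hb
      have ha' : a ∈ h := ha
      have hb' : b ∈ h := hb
      simp only [dif_pos ha', dif_pos hb', dif_pos (h.mul_mem ha' hb')]
      rfl)
    (by
      intro s hs a ha
      have hsa : s * a * s⁻¹ ∈ h := Cfsg.Agent.S5124.conj_mem_hyp F p hs ha
      have ha' : a ∈ h := ha
      simp only [dif_pos ha', dif_pos hsa]
      apply QuotientGroup.eq.2
      rw [Subgroup.mem_subgroupOf]
      have h1 : ⁅a⁻¹, s⁆ ∈ D := hD2 (Subgroup.commutator_mem_commutator (h.inv_mem ha') hs)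
      have h2 := D.inv_mem h1
      rw [commutatorElement_def] at h2
      simpa [mul_assoc] using h2)
    (by
      intro z
      obtain ⟨t, rfl⟩ := QuotientGroup.mk_surjective z
      exact ⟨t, t.2, by simp only [dif_pos t.2]⟩)
    D (by
      intro t ht
      refine ⟨hD1 ht, ?_⟩
      simp only [dif_pos (hD1 ht)]
      exact (QuotientGroup.eq_one_iff _).2 ht)
    hle
  intro t ht
  have := key ((⟨t, ht⟩ : h) : h ⧸ D.subgroupOf h)
  exact (QuotientGroup.eq_one_iff (N := D.subgroupOf h) (⟨t, ht⟩ : h)).1 this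

/-- **Tate's theorem**: if the elementary focal subgroups of `H ≤ F` agree then so do the hyperfocal subgroups. -/
theorem tate [Finite S] {p : ℕ} [Fact p.Prime] (hS : IsPGroup p S)
    (F : FusionSystem S) (hF : F.IsSaturated p) (H : FusionSystem S) (hH : H.IsSaturated p)
    (hle : H.hyperfocalSubgroup p ≤ F.hyperfocalSubgroup p)
    (h : F.focalSubgroup ≤ (frattini S).map S.subtype ⊔ H.focalSubgroup) :
    F.hyperfocalSubgroup p ≤ H.hyperfocalSubgroup p := by
  set hf := F.hyperfocalSubgroup p with hhf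
  set hh := H.hyperfocalSubgroup p with hhh
  have hfS : hf ≤ S := hyperfocal_le F p
  have hhS : hh ≤ S := hyperfocal_le H p
  have hcomm : ⁅hf, S⁆ ≤ hf := by
    rw [Subgroup.commutator_le]
    intro a ha b hb
    have h1 := Cfsg.Agent.S5124.conj_mem_hyp F p hb (hf.inv_mem ha)
    have h2 := hf.mul_mem ha h1
    rw [commutatorElement_def]
    simpa [mul_assoc] using h2
  have h1 : hf ≤ hh ⊔ ⁅hf, S⁆ := by
    apply tate_core hS F hF _ (sup_le hle hcomm) le_sup_right
    have e1 : hf ≤ F.focalSubgroup := by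
      rw [focal_eq hS F hF]; exact le_sup_left
    refine e1.trans (h.trans ?_)
    rw [focal_eq hS H hH]
    exact sup_le_sup_left (sup_le_sup_right le_sup_left _) _
  have hnil : Group.IsNilpotent S := hS.isNilpotent
  have hnorm : (hh.subgroupOf S).Normal :=
    ⟨fun t ht g => Cfsg.Agent.S5124.conj_mem_hyp H p g.2 ht⟩
  have h2 : hf.subgroupOf S ≤ hh.subgroupOf S := by
    apply le_of_le_sup_commutator_top
    rw [← Subgroup.map_le_map_iff_of_injective S.subtype_injective, Subgroup.map_sup,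
      Subgroup.map_commutator, Subgroup.map_subgroupOf_eq_of_le hfS,
      Subgroup.map_subgroupOf_eq_of_le hhS, ← MonoidHom.range_eq_map, Subgroup.range_subtype]
    exact h1
  intro t ht
  exact h2 (show (⟨t, hfS ht⟩ : S) ∈ hf.subgroupOf S from ht)

end Cfsg.Agent.Lib.Helper84
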