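import Cfsg.Agent.Lib.Helper84.FusionTate2
import Cfsg.Agent.Lib.Helper84.FusionAlperin3
import Cfsg.Agent.Lib.Helper84.FusionNormSys
import Cfsg.Agent.Lib.Lead.Residual

set_option autoImplicit false

/-! Consequences of Tate's theorem for fusion systems (helper84). -/

namespace Cfsg.Agent.Lib.Helper84

open Cfsg Cfsg.FusionSystem
open scoped commutatorElement

variable {Ω : Type*} [Group Ω] {S : Subgroup Ω}

/-- a saturated fusion system with trivial hyperfocal subgroup is inner -/
theorem eq_inner_of_hyperfocal_eq_bot [Finite S] {p : ℕ} [Fact p.Prime] (hS : IsPGroup p S)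
    (F : FusionSystem S) (hF : F.IsSaturated p) (h : F.hyperfocalSubgroup p = ⊥) :
    F = innerFusionSystem S := by
  apply eq_inner_of_isPGroup hS F hF
  intro P hPS
  have hfin : Finite (F.autGroup P) := finite_autGroup F hPS
  have h1 : pResidual p (F.autGroup P) = ⊥ := by
    rw [eq_bot_iff]
    intro α hα
    rw [Subgroup.mem_bot]
    apply Subtype.ext
    ext x
    have h2 : (x : Ω)⁻¹ * ((α : MulAut P) x : P) ∈ F.hyperfocalSubgroup p :=
      Subgroup.subset_closure ⟨P, α, x, hPS, hα, rfl⟩
    rw [h, Subgroup.mem_bot, inv_mul_eq_one] at h2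
    exact h2.symm
  obtain ⟨k, hk⟩ := Cfsg.Agent.Lib.Lead.index_pResidual (p := p) (G := F.autGroup P)
  rw [h1, Subgroup.index_bot] at hk
  exact IsPGroup.of_card hk

/-- **Tate**: a saturated fusion system whose focal subgroup lies in the Frattini subgroup is inner. -/
theorem eq_inner_of_focal_le_frattini [Finite S] {p : ℕ} [Fact p.Prime] (hS : IsPGroup p S)
    (F : FusionSystem S) (hF : F.IsSaturated p)
    (h : F.focalSubgroup ≤ (frattini S).map S.subtype) : F = innerFusionSystem S := by
  apply eq_inner_of_hyperfocal_eq_bot hS F hF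
  set hf := F.hyperfocalSubgroup p with hhf
  have hfS : hf ≤ S := hyperfocal_le F p
  have hcomm : ⁅hf, S⁆ ≤ hf := by
    rw [Subgroup.commutator_le]
    intro a ha b hb
    have h1 := Cfsg.Agent.S5124.conj_mem_hyp F p hb (hf.inv_mem ha)
    have h2 := hf.mul_mem ha h1
    rw [commutatorElement_def]
    simpa [mul_assoc] using h2
  have h1 : hf ≤ ⁅hf, S⁆ := by
    apply tate_core hS F hF _ hcomm le_rfl
    have e1 : hf ≤ F.focalSubgroup := by
      rw [focal_eq hS F hF]; exact le_sup_left
    exact e1.trans (h.trans le_sup_left)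
  have hnil : Group.IsNilpotent S := hS.isNilpotent
  have h2 : hf.subgroupOf S = ⊥ := by
    apply eq_bot_of_le_commutator_top
    rw [← Subgroup.map_le_map_iff_of_injective S.subtype_injective,
      Subgroup.map_commutator, Subgroup.map_subgroupOf_eq_of_le hfS,
      ← MonoidHom.range_eq_map, Subgroup.range_subtype]
    exact h1
  rw [eq_bot_iff]
  intro t ht
  have h3 : (⟨t, hfS ht⟩ : S) ∈ hf.subgroupOf S := ht
  rw [h2, Subgroup.mem_bot] at h3
  exact Subgroup.mem_bot.2 (congrArg Subtype.val h3)

/-- If `T ≥ [S,S]` is strongly closed and `Aut_F(S)` acts trivially on `S/T` then the focal subgroup lies in `T`. -/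
theorem focal_le_of_stronglyClosed [Finite S] {p : ℕ} [Fact p.Prime] (hS : IsPGroup p S)
    (F : FusionSystem S) (hF : F.IsSaturated p) {T : Subgroup Ω} (hT : F.StronglyClosed T)
    (hST : ⁅S, S⁆ ≤ T) (hA : ∀ α ∈ F.autGroup S, ∀ x : S, (x : Ω)⁻¹ * (α x : S) ∈ T) :
    F.focalSubgroup ≤ T := by
  have hle : F ≤ focSystem F T hST := by
    apply alperin_ext hS F hF
    intro P hP
    by_cases hPeq : P = S
    · subst hPeq
      refine le_trans ?_ le_sup_left
      intro α hα
      rw [mem_autGroup_iff _ le_rfl]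
      exact ⟨(mem_autGroup_iff F le_rfl α).1 hα, hA α hα⟩
    · have hess : F.IsEssential p P := hP.resolve_left hPeq
      have hPn : F.IsFullyNormalized P := hess.2.1
      have hPS : P ≤ S := hPn.1
      obtain ⟨-, haut, hrec⟩ := sat_fullyNormalized hS hF hPn
      have hlt : P < S := lt_of_le_of_ne hPS hPeq
      obtain ⟨g, hgS, hgP, hgN⟩ := exists_mem_normalizer_not_mem hS hlt
      have hC : (focSystem F T hST).autGroup P ≤ F.autGroup P := by
        intro α hα
        rw [mem_autGroup_iff _ hPS] at hα ⊢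
        exact hα.1
      have hconj : ∀ β ∈ F.autGroup P, ∀ γ ∈ (focSystem F T hST).autGroup P,
          β * γ * β⁻¹ ∈ (focSystem F T hST).autGroup P := by
        intro β hβ γ hγ
        have hγF := hC hγ
        rw [mem_autGroup_iff _ hPS] at hγ ⊢
        refine ⟨(mem_autGroup_iff F hPS _).1
          (Subgroup.mul_mem _ (Subgroup.mul_mem _ hβ hγF) (Subgroup.inv_mem _ hβ)), fun x => ?_⟩
        have h1 := hγ.2 (β⁻¹ x)
        have h2 : (((β⁻¹ x)⁻¹ * γ (β⁻¹ x) : P) : Ω) ∈ T := h1
        have h3 := hT.2 (P ⊓ T) inf_le_right _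
          (restrict_mem F ((mem_autGroup_iff F hPS β).1 hβ) inf_le_left)
          ⟨_, ⟨((β⁻¹ x)⁻¹ * γ (β⁻¹ x) : P).2, h2⟩⟩
        have h4 : (x : Ω)⁻¹ * (P.subtype.comp (β * γ * β⁻¹).toMonoidHom) x =
            ((β ((β⁻¹ x)⁻¹ * γ (β⁻¹ x)) : P) : Ω) := by
          rw [map_mul, map_inv, MulAut.apply_inv_self]
          rfl
        rw [h4]
        exact h3
      refine frattini_ext hS hrec haut hC ?_ hgS hgN hgP ?_
      · intro β hβ
        rw [Subgroup.mem_normalizer_iff]
        intro γ
        refine ⟨hconj β hβ γ, fun h => ?_⟩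
        have := hconj β⁻¹ (Subgroup.inv_mem _ hβ) _ h
        simpa [mul_assoc] using this
      · rw [mem_autGroup_iff _ hPS]
        refine ⟨(mem_autGroup_iff F hPS _).1
          (autInducedBy_le_autGroup F hPS (conjAut_mem_autInducedBy hgN hgS)), fun x => hST ?_⟩
        have := Subgroup.commutator_mem_commutator (S.inv_mem (hPS x.2)) hgS
        rw [commutatorElement_def] at this
        have e : (x : Ω)⁻¹ * (P.subtype.comp (conjAut P g hgN).toMonoidHom) x =
            (x : Ω)⁻¹ * g * (x : Ω)⁻¹⁻¹ * g⁻¹ := by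
          have : (P.subtype.comp (conjAut P g hgN).toMonoidHom) x = g * x * g⁻¹ := rfl
          rw [this]
          group
        rw [e]
        exact this
  unfold FusionSystem.focalSubgroup
  rw [Subgroup.closure_le]
  rintro _ ⟨P, φ, x, hφ, rfl⟩
  exact (hle P hφ).2 x

end Cfsg.Agent.Lib.Helper84
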