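import Cfsg.Agent.Lib.Helper84.YoshidaCore
import Cfsg.Agent.Lib.Helper84.FusionTate3

set_option autoImplicit false

/-! Yoshida's theorem for fusion systems (helper84). -/

namespace Cfsg.Agent.Lib.Helper84

open Cfsg Cfsg.FusionSystem
open scoped commutatorElement

namespace BisetTr

/-- the left action on the set of right orbits -/
abbrev rqAct (T X : Type*) [Group T] [MulAction (T × T) X] : MulAction T (RQ T X) where
  smul s j := sig (lft T X s) j
  one_smul j := by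
    show sig (lft T X 1) j = j
    rw [map_one, sig_one]
  mul_smul s s' j := by
    show sig (lft T X (s * s')) j = sig (lft T X s) (sig (lft T X s') j)
    rw [map_mul, sig_mul]

end BisetTr

variable {Ω : Type*} [Group Ω] {S : Subgroup Ω} {F : FusionSystem S}
  {X : Type*} [MulAction (S × S) X] {C : Type*} [CommGroup C]

/-- characters which are constant on the `F`-classes -/
def Stable (F : FusionSystem S) (ν : S →* C) : Prop :=
  ∀ (P : Subgroup Ω) (φ : P →* Ω) (hφ : φ ∈ F.Hom P) (u : P),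
    ν ⟨φ u, (F.le_of_mem hφ).2 u⟩ = ν ⟨u, (F.le_of_mem hφ).1 u.2⟩

/-- characters which are invariant under the automorphisms of `S` in `F` -/
def TopInv (F : FusionSystem S) (ν : S →* C) : Prop :=
  ∀ (P : Subgroup Ω) (φ : P →* Ω) (hφ : φ ∈ F.Hom P), P = S → ∀ (u : P),
    ν ⟨φ u, (F.le_of_mem hφ).2 u⟩ = ν ⟨u, (F.le_of_mem hφ).1 u.2⟩

theorem Stable.topInv {ν : S →* C} (h : Stable F ν) : TopInv F ν := fun P φ hφ _ u => h P φ hφ u

theorem bet_fixed (hX : Helper88.IsFBiset F X) (Fr : BisetTr.Frame S X) (j : BisetTr.RQ S X) :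
    ∃ (Q : Subgroup Ω) (θ : Q →* Ω), θ ∈ F.Hom Q ∧ ∀ s : S,
      BisetTr.sig (BisetTr.lft S X s) j = j →
      ∃ h : ((Fr.bet (BisetTr.lft S X s) j : S) : Ω) ∈ Q, θ ⟨_, h⟩ = ((s⁻¹ : S) : Ω) := by
  obtain ⟨Q, θ, hθ, hQ⟩ := hX.stab (Fr.x j)
  refine ⟨Q, θ, hθ, fun s hs => ?_⟩
  have h1 := Fr.bet_spec (BisetTr.lft S X s) j
  rw [hs, BisetTr.lft_apply] at h1
  have h2 : ((s⁻¹, Fr.bet (BisetTr.lft S X s) j) : S × S) ∈ Helper88.gr S Q θ := by
    rw [← hQ, MulAction.mem_stabilizer_iff]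
    have e : ((s⁻¹, Fr.bet (BisetTr.lft S X s) j) : S × S) =
        (s⁻¹, (1 : S)) * ((1 : S), Fr.bet (BisetTr.lft S X s) j) := by simp
    rw [e, mul_smul, h1, ← mul_smul]
    simp only [Prod.mk_mul_mk, mul_one, inv_mul_cancel]
    exact one_smul (S × S) _
  exact h2

theorem orderOf_bet_fixed (hX : Helper88.IsFBiset F X) (Fr : BisetTr.Frame S X)
    (j : BisetTr.RQ S X) (s : S) (hs : BisetTr.sig (BisetTr.lft S X s) j = j) :
    orderOf (Fr.bet (BisetTr.lft S X s) j) = orderOf s := by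
  obtain ⟨Q, θ, hθ, h⟩ := bet_fixed hX Fr j
  obtain ⟨h1, h2⟩ := h s hs
  have h3 := orderOf_injective θ (F.injective_of_mem hθ) ⟨_, h1⟩
  rw [h2, Subgroup.orderOf_coe, orderOf_inv] at h3
  rw [h3, ← Subgroup.orderOf_coe, ← Subgroup.orderOf_coe (a := (⟨_, h1⟩ : Q))]

theorem stable_bet_fixed (hX : Helper88.IsFBiset F X) (Fr : BisetTr.Frame S X)
    {ρ : S →* C} (hρ : Stable F ρ)
    (j : BisetTr.RQ S X) (s : S) (hs : BisetTr.sig (BisetTr.lft S X s) j = j) :
    ρ (Fr.bet (BisetTr.lft S X s) j) = (ρ s)⁻¹ := by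
  obtain ⟨Q, θ, hθ, h⟩ := bet_fixed hX Fr j
  obtain ⟨h1, h2⟩ := h s hs
  have h3 := hρ Q θ hθ ⟨_, h1⟩
  rw [← map_inv]
  refine Eq.trans ?_ (h3.symm.trans ?_)
  · rfl
  · congr 1
    exact Subtype.ext h2

theorem topInv_bet_fixed [Finite S] (hX : Helper88.IsFBiset F X) (Fr : BisetTr.Frame S X)
    {ν : S →* C} (hν : TopInv F ν)
    (j : BisetTr.RQ S X) (hj : ∀ s : S, BisetTr.sig (BisetTr.lft S X s) j = j) (s : S) :
    ν (Fr.bet (BisetTr.lft S X s) j) = (ν s)⁻¹ := by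
  obtain ⟨Q, θ, hθ, h⟩ := bet_fixed hX Fr j
  have hQS : Q ≤ S := (F.le_of_mem hθ).1
  have hQ : Q = S := by
    haveI : Finite Q := finite_of_le hQS
    apply Subgroup.eq_of_le_of_card_ge hQS
    have hinj : Function.Injective (fun s : S => (⟨_, (h s⁻¹ (hj _)).choose⟩ : Q)) := by
      intro a b hab
      have ha := (h a⁻¹ (hj _)).choose_spec
      have hb := (h b⁻¹ (hj _)).choose_spec
      have hab' : (⟨_, (h a⁻¹ (hj _)).choose⟩ : Q) = ⟨_, (h b⁻¹ (hj _)).choose⟩ := hab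
      rw [hab', hb] at ha
      simpa using ha.symm
    exact Nat.card_le_card_of_injective _ hinj
  obtain ⟨h1, h2⟩ := h s (hj s)
  have h3 := hν Q θ hθ hQ ⟨_, h1⟩
  rw [← map_inv]
  refine Eq.trans ?_ (h3.symm.trans ?_)
  · rfl
  · congr 1
    exact Subtype.ext h2

section tr

variable [Fintype (BisetTr.RQ S X)]

/-- the transfer of a character -/
noncomputable def trc (hfree : BisetTr.RFree S X) (Fr : BisetTr.Frame S X) (ν : S →* C) : S →* C :=
  MonoidHom.mk' (fun s => ∏ j, ν (Fr.bet (BisetTr.lft S X s) j)) (by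
    intro s s'
    rw [← (BisetTr.sig_bijective (BisetTr.lft S X s')).prod_comp
      (fun j => ν (Fr.bet (BisetTr.lft S X s) j)), mul_comm, ← Finset.prod_mul_distrib]
    apply Finset.prod_congr rfl
    intro j _
    rw [map_mul, Fr.bet_mul hfree, map_mul])

theorem trc_apply (hfree : BisetTr.RFree S X) (Fr : BisetTr.Frame S X) (ν : S →* C) (s : S) :
    trc hfree Fr ν s = ∏ j, ν (Fr.bet (BisetTr.lft S X s) j) := rfl

theorem trc_mul (hfree : BisetTr.RFree S X) (Fr : BisetTr.Frame S X) (ν ν' : S →* C) :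
    trc hfree Fr (ν * ν') = trc hfree Fr ν * trc hfree Fr ν' := by
  ext s
  rw [MonoidHom.mul_apply, trc_apply, trc_apply, trc_apply, ← Finset.prod_mul_distrib]
  rfl

theorem trc_pow (hfree : BisetTr.RFree S X) (Fr : BisetTr.Frame S X) (ν : S →* C) (m : ℕ) :
    trc hfree Fr (ν ^ m) = trc hfree Fr ν ^ m := by
  induction m with
  | zero =>
    ext s
    rw [pow_zero, pow_zero, trc_apply]
    simp
  | succ m ih => rw [pow_succ, pow_succ, trc_mul, ih]

theorem trc_stable [Finite S] [Finite X] (hX : Helper88.IsFBiset F X)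
    (hfree : BisetTr.RFree S X) (Fr : BisetTr.Frame S X) (ν : S →* C) :
    Stable F (trc hfree Fr ν) := by
  intro P φ hφ u
  obtain ⟨g, hg⟩ := Helper88.exists_park_conj hX hφ
  have hχ : BisetTr.IsChar (⊤ : Subgroup S) (fun s : S => ν s) :=
    ⟨fun a _ b _ => map_mul ν a b, fun s a _ => by
      rw [map_mul, map_mul, map_inv, mul_comm, inv_mul_cancel_left]⟩
  refine Fr.w_conj hfree hχ _ _ ⟨(g : Equiv.Perm X), g.2⟩ (fun j => trivial) (fun j => trivial) ?_
  have h1 := hg u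
  rw [eq_mul_inv_iff_mul_eq] at h1
  apply Subtype.ext
  exact congrArg Subtype.val h1

theorem coc_bet (hfree : BisetTr.RFree S X) (Fr : BisetTr.Frame S X) (ν : S →* C)
    (g g' : S) (j : BisetTr.RQ S X) :
    ν (Fr.bet (BisetTr.lft S X (g * g')) j) =
      ν (Fr.bet (BisetTr.lft S X g') j) *
        ν (Fr.bet (BisetTr.lft S X g) (BisetTr.sig (BisetTr.lft S X g') j)) := by
  rw [map_mul, Fr.bet_mul hfree, map_mul]

theorem trc_of_stable [Finite S] (hX : Helper88.IsFBiset F X)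
    (hfree : BisetTr.RFree S X) (Fr : BisetTr.Frame S X) {ρ : S →* C} (hρ : Stable F ρ) (s : S) :
    trc hfree Fr ρ s * ρ s ^ Fintype.card (BisetTr.RQ S X) = 1 := by
  classical
  letI := BisetTr.rqAct S X
  have h1 := Yoshida.cyc s (orderOf_pos s) (fun j => ρ (Fr.bet (BisetTr.lft S X s) j) * ρ s)
    Finset.univ (fun _ _ => Finset.mem_univ _) (by
      intro j _
      rw [Finset.prod_mul_distrib, Finset.prod_const, Finset.card_range,
        ← Yoshida.coc_pow (fun g j => ρ (Fr.bet (BisetTr.lft S X g) j)) (coc_bet hfree Fr ρ),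
        stable_bet_fixed hX Fr hρ j _ (MulAction.pow_period_smul s j), map_pow, inv_mul_cancel])
  rw [Finset.prod_mul_distrib, Finset.prod_const, Finset.card_univ] at h1
  exact h1

theorem eq_one_of_pow_eq_one {p k : ℕ} (hp : p.Prime) (hk : ¬ p ∣ k) (z : C) (h1 : z ^ p = 1)
    (h2 : z ^ k = 1) : z = 1 := by
  have d1 := orderOf_dvd_of_pow_eq_one h1
  have d2 := orderOf_dvd_of_pow_eq_one h2
  rcases (Nat.dvd_prime hp).1 d1 with h | h
  · exact orderOf_eq_one_iff.1 h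
  · exact absurd (h ▸ d2) hk

/-- the transfer is injective on the invariant characters of order `p`. -/
theorem eq_one_of_trc_eq_one [Finite S] {p : ℕ} [hp : Fact p.Prime] (hS : IsPGroup p S)
    (hC : ∀ H : Subgroup C, (∀ z ∈ H, z ^ p = 1) → Nat.card H ∣ p)
    (hW : ¬ ∃ (W : Sylow p (Equiv.Perm (Fin (p ^ 2)))) (f : S →* W), Function.Surjective f)
    (hX : Helper88.IsFBiset F X) (hfree : BisetTr.RFree S X) (Fr : BisetTr.Frame S X)
    (hm : ¬ p ∣ Fintype.card (BisetTr.RQ S X)) {ν : S →* C} (hν : TopInv F ν)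
    (hνp : ∀ s, ν s ^ p = 1) (htr : ∀ s, trc hfree Fr ν s = 1) (s : S) : ν s = 1 := by
  classical
  by_contra hs
  obtain ⟨x, hx, hmin⟩ : ∃ x : S, ν x ≠ 1 ∧ ∀ y : S, orderOf y < orderOf x → ν y = 1 := by
    have hP : ∃ n : ℕ, ∃ x : S, orderOf x = n ∧ ν x ≠ 1 := ⟨_, s, rfl, hs⟩
    obtain ⟨x, hx1, hx2⟩ := Nat.find_spec hP
    refine ⟨x, hx2, fun y hy => ?_⟩
    by_contra h
    exact Nat.find_min hP (hx1 ▸ hy) ⟨y, rfl, h⟩
  letI := BisetTr.rqAct S X
  have h1 := Yoshida.core (G := S) (J := BisetTr.RQ S X) hS hC hW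
    (fun g j => ν (Fr.bet (BisetTr.lft S X g) j)) (coc_bet hfree Fr ν) (fun g j => hνp _) x (by
      intro y j hy hyj
      apply hmin
      rw [orderOf_bet_fixed hX Fr j y hyj]
      exact hy)
  have h2 : ∏ j, ν (Fr.bet (BisetTr.lft S X x) j) = 1 := htr x
  have h4 : ∏ j ∈ Finset.univ.filter (fun j : BisetTr.RQ S X => ∀ g : S, g • j = j),
      ν (Fr.bet (BisetTr.lft S X x) j) =
      ∏ j ∈ Finset.univ.filter (fun j : BisetTr.RQ S X => ∀ g : S, g • j = j), (ν x)⁻¹ :=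
    Finset.prod_congr rfl (fun j hj => topInv_bet_fixed hX Fr hν j (Finset.mem_filter.1 hj).2 x)
  rw [h2, h4, Finset.prod_const] at h1
  have h3 := hS.card_modEq_card_fixedPoints (BisetTr.RQ S X)
  rw [Nat.card_eq_fintype_card, show Nat.card (MulAction.fixedPoints S (BisetTr.RQ S X)) =
    (Finset.univ.filter (fun j : BisetTr.RQ S X => ∀ g : S, g • j = j)).card from
      Nat.subtype_card _ (fun j => by simp [MulAction.mem_fixedPoints])] at h3
  apply hx
  apply eq_one_of_pow_eq_one hp.out (k := (Finset.univ.filter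
    (fun j : BisetTr.RQ S X => ∀ g : S, g • j = j)).card) _ _ (hνp x)
  · rw [inv_pow, eq_comm, inv_eq_one] at h1
    exact h1
  · intro hd
    apply hm
    exact (Nat.modEq_zero_iff_dvd.1 (h3.trans (Nat.modEq_zero_iff_dvd.2 hd)))

/-- **Yoshida**: the invariant characters of order `p` are stable. -/
theorem stable_of_topInv [Finite S] [Finite X] {p : ℕ} [hp : Fact p.Prime] (hS : IsPGroup p S)
    (hC : ∀ H : Subgroup C, (∀ z ∈ H, z ^ p = 1) → Nat.card H ∣ p)
    (hW : ¬ ∃ (W : Sylow p (Equiv.Perm (Fin (p ^ 2)))) (f : S →* W), Function.Surjective f)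
    (hX : Helper88.IsFBiset F X) (hfree : BisetTr.RFree S X) (Fr : BisetTr.Frame S X)
    (hm : ¬ p ∣ Fintype.card (BisetTr.RQ S X)) {ν : S →* C} (hν : TopInv F ν)
    (hνp : ∀ s, ν s ^ p = 1) : Stable F ν := by
  set m := Fintype.card (BisetTr.RQ S X) with hmdef
  have hst := trc_stable hX hfree Fr ν
  have key := eq_one_of_trc_eq_one hS hC hW hX hfree Fr hm (ν := ν ^ m * trc hfree Fr ν) (by
      intro P φ hφ hP u
      rw [MonoidHom.mul_apply, MonoidHom.mul_apply, hst P φ hφ u]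
      congr 1
      show ν _ ^ m = ν _ ^ m
      rw [hν P φ hφ hP u]) (by
      intro s
      rw [MonoidHom.mul_apply, mul_pow]
      have e1 : ((ν ^ m) s) ^ p = 1 := by
        show (ν s ^ m) ^ p = 1
        rw [pow_right_comm, hνp, one_pow]
      rw [e1, one_mul, trc_apply, ← Finset.prod_pow]
      exact Finset.prod_eq_one (fun j _ => hνp _)) (by
      intro s
      rw [trc_mul, trc_pow, MonoidHom.mul_apply, mul_comm]
      exact trc_of_stable hX hfree Fr hst s)
  intro P φ hφ u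
  have k1 := key ⟨φ u, (F.le_of_mem hφ).2 u⟩
  have k2 := key ⟨u, (F.le_of_mem hφ).1 u.2⟩
  rw [MonoidHom.mul_apply, hst P φ hφ u] at k1
  rw [MonoidHom.mul_apply] at k2
  have k3 : ν ⟨φ u, (F.le_of_mem hφ).2 u⟩ ^ m = ν ⟨u, (F.le_of_mem hφ).1 u.2⟩ ^ m :=
    mul_right_cancel (k1.trans k2.symm)
  rw [← div_eq_one]
  apply eq_one_of_pow_eq_one hp.out hm
  · rw [div_pow, hνp, hνp, div_one]
  · rw [div_pow, k3, div_self']

end tr


theorem card_dvd_of_pow_eq_one (p : ℕ) [hp : Fact p.Prime] (H : Subgroup ℂˣ)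
    (h : ∀ z ∈ H, z ^ p = 1) : Nat.card H ∣ p := by
  haveI : NeZero p := ⟨hp.out.ne_zero⟩
  have h1 : H ≤ rootsOfUnity p ℂ := fun z hz => (mem_rootsOfUnity _ _).2 (h z hz)
  have h2 := Subgroup.card_dvd_of_le h1
  rwa [Complex.card_rootsOfUnity] at h2

theorem exists_char_of_frattini_le {P : Type*} [Group P] [Finite P] {p : ℕ} [hp : Fact p.Prime]
    (hP : IsPGroup p P) (E : Subgroup P) (hE : frattini P ≤ E) (t : P) (ht : t ∉ E) :
    ∃ ν : P →* ℂˣ, (∀ e ∈ E, ν e = 1) ∧ (∀ s, ν s ^ p = 1) ∧ ν t ≠ 1 := by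
  have hcomm : _root_.commutator P ≤ E := (Helper2.commutator_le_frattini hP).trans hE
  have hn : E.Normal := by
    refine ⟨fun e he g => ?_⟩
    have h1 : ⁅g, e⁆ ∈ E := hcomm (Subgroup.commutator_mem_commutator (Subgroup.mem_top g) (Subgroup.mem_top e))
    have h2 := E.mul_mem h1 he
    rw [commutatorElement_def] at h2
    simpa [mul_assoc] using h2
  letI : CommGroup (P ⧸ E) :=
    { (QuotientGroup.Quotient.group E) with
      mul_comm := (Subgroup.Normal.quotient_commutative_iff_commutator_le.2 hcomm).is_comm.comm }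
  have hne : (t : P ⧸ E) ≠ 1 := by rwa [Ne, QuotientGroup.eq_one_iff]
  obtain ⟨ν₀, hν₀⟩ := CommGroup.exists_apply_ne_one_of_hasEnoughRootsOfUnity (P ⧸ E) ℂ hne
  refine ⟨ν₀.comp (QuotientGroup.mk' E), ?_, ?_, hν₀⟩
  · intro e he
    rw [MonoidHom.comp_apply, QuotientGroup.mk'_apply, (QuotientGroup.eq_one_iff e).2 he, map_one]
  · intro s
    rw [← map_pow, MonoidHom.comp_apply, QuotientGroup.mk'_apply,
      (QuotientGroup.eq_one_iff _).2 (hE (Helper2.pow_p_mem_frattini hP s)), map_one]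


/-- the focal subgroup is generated, modulo the Frattini subgroup, by the contribution of `Aut_F(S)`, unless `S` maps
onto `C_p ≀ C_p`. -/
theorem yoshida_le [Finite S] {p : ℕ} [hp : Fact p.Prime] (hS : IsPGroup p S) (F : FusionSystem S)
    (hF : F.IsSaturated p)
    (hW : ¬ ∃ (W : Sylow p (Equiv.Perm (Fin (p ^ 2)))) (f : S →* W), Function.Surjective f)
    (D : Subgroup Ω)
    (hD : ∀ (P : Subgroup Ω) (φ : P →* Ω), φ ∈ F.Hom P → P = S → ∀ u : P, (u : Ω)⁻¹ * φ u ∈ D) :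
    F.focalSubgroup ≤ (frattini S).map S.subtype ⊔ D := by
  classical
  obtain ⟨L, hL, hst, hpos, m, hm, hpm⟩ := Helper88.exists_char_list p hS F hF
  have hX := Helper88.isFBiset_XL F L hL hst hpos
  have hfree : BisetTr.RFree S (Helper88.XL L) := fun y c hc => Helper88.right_free hX y c hc
  have Fr : BisetTr.Frame S (Helper88.XL L) := ⟨fun j => j.out, fun j => Quotient.out_eq j⟩
  letI : Fintype (BisetTr.RQ S (Helper88.XL L)) := Fintype.ofFinite _
  have hcard : Fintype.card (BisetTr.RQ S (Helper88.XL L)) = m := by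
    have h1 := BisetTr.card_eq hfree Fr
    rw [← Helper88.mark_bot (G := S × S) (Helper88.XL L), Helper88.mark_XL, hm, mul_comm,
      Nat.card_eq_fintype_card (α := BisetTr.RQ S (Helper88.XL L))] at h1
    exact (Nat.eq_of_mul_eq_mul_right Nat.card_pos h1).symm
  set E := (frattini S).map S.subtype ⊔ D with hE
  unfold FusionSystem.focalSubgroup
  rw [Subgroup.closure_le]
  rintro _ ⟨P, φ, x, hφ, rfl⟩
  by_contra hne
  have ht : (⟨x, (F.le_of_mem hφ).1 x.2⟩ : S)⁻¹ * ⟨φ x, (F.le_of_mem hφ).2 x⟩ ∉ E.subgroupOf S := hne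
  obtain ⟨ν, h1, h2, h3⟩ := exists_char_of_frattini_le hS (E.subgroupOf S)
    (fun z hz => (le_sup_left : _ ≤ E) ⟨z, hz, rfl⟩) _ ht
  have hinv : TopInv F ν := by
    intro P' φ' hφ' hP' u
    have h4 := h1 ((⟨u, (F.le_of_mem hφ').1 u.2⟩ : S)⁻¹ * ⟨φ' u, (F.le_of_mem hφ').2 u⟩)
      ((le_sup_right : _ ≤ E) (hD P' φ' hφ' hP' u))
    rw [map_mul, map_inv, inv_mul_eq_one] at h4
    exact h4.symm
  have hstb := stable_of_topInv hS (card_dvd_of_pow_eq_one p) hW hX hfree Fr (hcard ▸ hpm) hinv h2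
  apply h3
  rw [map_mul, map_inv, hstb P φ hφ x, inv_mul_cancel]

/-- **Yoshida's theorem** for a saturated subsystem containing `Aut_F(S)`. -/
theorem yoshida_sub [Finite S] {p : ℕ} [hp : Fact p.Prime] (hS : IsPGroup p S) (F : FusionSystem S)
    (hF : F.IsSaturated p)
    (hW : ¬ ∃ (W : Sylow p (Equiv.Perm (Fin (p ^ 2)))) (f : S →* W), Function.Surjective f)
    (H : FusionSystem S) (hH : H.IsSaturated p) (hHF : H.IsSubsystemOf F)
    (htop : ∀ (P : Subgroup Ω) (φ : P →* Ω), φ ∈ F.Hom P → P = S →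
      ∀ u : P, (u : Ω)⁻¹ * φ u ∈ H.focalSubgroup) :
    H.focalSubgroup = F.focalSubgroup := by
  have h1 := yoshida_le hS F hF hW H.focalSubgroup htop
  have hle : H.hyperfocalSubgroup p ≤ F.hyperfocalSubgroup p :=
    hyperfocal_mono le_rfl H F p (fun P hP => Helper85.autGroup_le_of_subsystem hHF hP)
  have h2 := tate hS F hF H hH hle h1
  rw [focal_eq hS F hF, focal_eq hS H hH, le_antisymm h2 hle]

theorem yoshida_transport [Finite S] {p : ℕ} [hp : Fact p.Prime] (hS : IsPGroup p S)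
    (F : FusionSystem S) (hF : F.IsSaturated p)
    (hW : ¬ ∃ (W : Sylow p (Equiv.Perm (Fin (p ^ 2)))) (f : S →* W), Function.Surjective f) :
    ∀ (S₁ : Subgroup Ω), S₁ = S → ∀ (H : FusionSystem S₁), H.IsSaturated p → H.IsSubsystemOf F →
    (∀ (P : Subgroup Ω) (φ : P →* Ω), φ ∈ F.Hom P → P = S →
      ∀ u : P, (u : Ω)⁻¹ * φ u ∈ H.focalSubgroup) →
    H.focalSubgroup = F.focalSubgroup := by
  rintro _ rfl H hH hHF htop
  exact yoshida_sub hS F hF hW H hH hHF htop

/-- **Yoshida's theorem** for fusion systems. -/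
theorem yoshida [Finite S] {p : ℕ} [hp : Fact p.Prime] (hS : IsPGroup p S)
    (F : FusionSystem S) (hF : F.IsSaturated p)
    (hW : ¬ ∃ (W : Sylow p (Equiv.Perm (Fin (p ^ 2)))) (f : S →* W), Function.Surjective f)
    (N : FusionSystem (normalizerIn S S)) (hN : F.IsNormalizerSystem S N) :
    N.focalSubgroup = F.focalSubgroup := by
  have hS1 : normalizerIn S S = S := inf_eq_left.2 Subgroup.le_normalizer
  have hsat := normalizerSystem_saturated hS hF (fullyNormalized_self F) N hN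
  refine yoshida_transport hS F hF hW _ hS1 N hsat (fun P φ hφ => ?_) ?_
  · rw [hN] at hφ
    exact hφ.1
  · intro P φ hφ hP u
    have key : ∀ P : Subgroup Ω, P = S → ∀ φ ∈ F.Hom P, ∀ u : P,
        ∃ ψ ∈ N.Hom P, ψ u = φ u := by
      rintro P rfl φ hφ u
      have hrange := range_eq_of_card F hφ
      have he := mor_equivOfRange F hφ hrange
      have hα := (mem_autGroup_iff F le_rfl _).2 he
      rw [← autGroup_normalizerSystem le_rfl hN, mem_autGroup_iff N (le_normalizerIn le_rfl)] at hα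
      exact ⟨_, hα, rfl⟩
    obtain ⟨ψ, hψ, hψu⟩ := key P hP φ hφ u
    rw [← hψu]
    exact Subgroup.subset_closure ⟨P, ψ, u, hψ, rfl⟩

end Cfsg.Agent.Lib.Helper84
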