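import Cfsg.Agent.Lib.Helper84.RedL1
import Cfsg.Agent.Lib.Helper70.RedA

set_option autoImplicit false

/-! Piece RED-L of helper85's S5202 farm: final form (helper84). -/

namespace Cfsg.Agent.Lib.Helper84

open Cfsg Cfsg.FusionSystem Cfsg.Agent.Lib.Helper85

universe u

variable {Ω : Type u} [Group Ω] {S : Subgroup Ω}

theorem factAStmt (p : ℕ) [Fact p.Prime] : FactAStmt Ω p :=
  fun _ _ hS F hF F₂ hF₂ h₂ _ hH F₁ hF₁ h₁ D hD hD₂ =>
    Cfsg.Agent.Lib.Helper70.RedA.factA hS F hF F₂ hF₂ h₂ hH F₁ hF₁ h₁ D hD hD₂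

theorem sameLim_of_primeIdx [Finite S] {p : ℕ} [Fact p.Prime] (hS : IsPGroup p S)
    (F : FusionSystem S) (hF : F.IsSaturated p) (F₂ : FusionSystem S) (hF₂ : F₂.IsSaturated p)
    (h₂ : F₂.HasPrimeToPIndexIn F p) {U V : Subgroup Ω} (L : FusionSystem U)
    (hL : L.IsResidualLimitOf F p) (L₂ : FusionSystem V) (hL₂ : L₂.IsResidualLimitOf F₂ p) :
    SameHom L L₂ :=
  sameLim_of_primeIdx_aux (factAStmt p) hS F hF F₂ hF₂ h₂ L hL L₂ hL₂

/-- limits of `F` and of `O^{p'}(F)` agree -/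
theorem sameLim_residual [Finite S] {p : ℕ} [Fact p.Prime] (hS : IsPGroup p S)
    (F : FusionSystem S) (hF : F.IsSaturated p) (D : FusionSystem S)
    (hD : F.IsPPrimeResidual p D) {U V : Subgroup Ω} (L : FusionSystem U)
    (hL : L.IsResidualLimitOf F p) (L' : FusionSystem V) (hL' : L'.IsResidualLimitOf D p) :
    SameHom L L' :=
  sameLim_residual_aux p (factAStmt p) _ S rfl hS F hF D hD L hL L' hL'

end Cfsg.Agent.Lib.Helper84
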