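import Cfsg.Agent.Lib.Helper85.FusResLimit2
import Cfsg.Agent.Lib.Helper85.PIdxFrat
import Cfsg.Agent.Lib.Helper85.FusPrimeIdx
import Cfsg.Agent.S5113
import Cfsg.Agent.S5140
import Cfsg.Agent.S5120
import Cfsg.Agent.S5203
import Cfsg.Agent.S5124

set_option autoImplicit false

/-! Residual limits: existence, and invariance under passing to a subsystem of index prime to `p`
(piece RED-L of helper85's S5202 farm) (helper84). -/

namespace Cfsg.Agent.Lib.Helper84

open Cfsg Cfsg.FusionSystem Cfsg.Agent.Lib.Helper85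

universe u

variable {Ω : Type u} [Group Ω] {S : Subgroup Ω}

theorem limit_sub {U : Subgroup Ω} {L : FusionSystem U} {F : FusionSystem S} {p : ℕ}
    (h : L.IsResidualLimitOf F p) : L.IsSubsystemOf F := by
  induction h with
  | stable F p h1 h2 => exact fun P => subset_rfl
  | step F p D D' hD hD' hlim ih =>
    exact fun P => ((ih P).trans (hD'.2.1.1 P)).trans (hD.2.1 P)

theorem primeIdx_iff {E F : FusionSystem S} {p : ℕ} :
    E.HasPrimeToPIndexIn F p ↔ E.IsSubsystemOf F ∧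
      ∀ P : Subgroup Ω, P ≤ S → pElt p (F.autGroup P) ≤ E.autGroup P := by
  unfold HasPrimeToPIndexIn
  simp only [map_closure_pElt]

theorem primeIdx_self (F : FusionSystem S) (p : ℕ) : F.HasPrimeToPIndexIn F p :=
  primeIdx_iff.2 ⟨fun _ => subset_rfl, fun _ _ => pElt_le _ _⟩

theorem pElt_le_pElt_of_le {X : Type*} [Group X] {p : ℕ} {A B : Subgroup X}
    (h : pElt p A ≤ B) : pElt p A ≤ pElt p B := by
  have h0 := h
  unfold pElt at h0 ⊢
  rw [Subgroup.closure_le]
  rintro a ⟨ha, k, hk⟩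
  exact Subgroup.subset_closure ⟨h (mem_pElt ha hk), k, hk⟩

theorem primeIdx_trans {X D' D : FusionSystem S} {p : ℕ} (h1 : X.HasPrimeToPIndexIn D' p)
    (h2 : D'.HasPrimeToPIndexIn D p) : X.HasPrimeToPIndexIn D p := by
  rw [primeIdx_iff] at h1 h2 ⊢
  exact ⟨fun P => (h1.1 P).trans (h2.1 P),
    fun P hP => (pElt_le_pElt_of_le (h2.2 P hP)).trans (h1.2 P hP)⟩

theorem pElt_mono' {X : Type*} [Group X] (p : ℕ) {A B : Subgroup X} (h : A ≤ B) :
    pElt p A ≤ pElt p B :=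
  Subgroup.closure_mono fun _ ha => ⟨h ha.1, ha.2⟩

theorem primeIdx_of_le {X F₂ F : FusionSystem S} {p : ℕ} (h1 : X.IsSubsystemOf F₂)
    (h2 : F₂.IsSubsystemOf F) (h3 : X.HasPrimeToPIndexIn F p) : X.HasPrimeToPIndexIn F₂ p := by
  rw [primeIdx_iff] at h3 ⊢
  exact ⟨h1, fun P hP => (pElt_mono' p (autGroup_le_of_subsystem h2 hP)).trans (h3.2 P hP)⟩

/-- `O^{p'}(F₂) = O^{p'}(F)` for `F₂` saturated of index prime to `p` in `F`. -/
theorem residual_of_primeIdx {F F₂ D : FusionSystem S} {p : ℕ} (hD : F.IsPPrimeResidual p D)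
    (hF₂ : F₂.IsSaturated p) (h₂ : F₂.HasPrimeToPIndexIn F p) : F₂.IsPPrimeResidual p D :=
  ⟨hD.1, primeIdx_of_le (hD.2.2 F₂ hF₂ h₂) h₂.1 hD.2.1,
    fun X hX hX₂ => hD.2.2 X hX (primeIdx_trans hX₂ h₂)⟩

theorem residual_idem {F D : FusionSystem S} {p : ℕ} (hD : F.IsPPrimeResidual p D) :
    D.IsPPrimeResidual p D := residual_of_primeIdx hD hD.1 hD.2.1

theorem exists_limit_aux (p : ℕ) [Fact p.Prime] : ∀ (n : ℕ) (S : Subgroup Ω) [Finite S],
    Nat.card S = n → IsPGroup p S → ∀ F : FusionSystem S, F.IsSaturated p →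
    ∃ (U : Subgroup Ω) (L : FusionSystem U), L.IsResidualLimitOf F p := by
  intro n
  induction n using Nat.strong_induction_on with
  | _ n ih =>
    intro S _ hn hS F hF
    have hle := hyperfocal_le F p
    have hfin : Finite ↥(F.hyperfocalSubgroup p) := finite_of_le hle
    have hp : IsPGroup p ↥(F.hyperfocalSubgroup p) := hS.to_le hle
    obtain ⟨D, ⟨hD1, hD2⟩, -⟩ := Cfsg.Agent.S5113.result p hS F hF _ hle le_rfl
    obtain ⟨D', hD'⟩ := Cfsg.Agent.S5140.result p hp D hD1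
    have hcard : Nat.card ↥(F.hyperfocalSubgroup p) ≤ n := hn ▸ Subgroup.card_le_of_le hle
    rcases hcard.lt_or_eq with hlt | heq
    · obtain ⟨U, L, hL⟩ := ih _ hlt _ rfl hp D' hD'.1
      exact ⟨U, L, IsResidualLimitOf.step F p D D' ⟨hD1, hD2⟩ hD' hL⟩
    · have hle' := hyperfocal_le D' p
      by_cases hst : D'.hyperfocalSubgroup p = F.hyperfocalSubgroup p
      · exact ⟨_, D', IsResidualLimitOf.step F p D D' ⟨hD1, hD2⟩ hD'
          (IsResidualLimitOf.stable D' p hst (residual_idem hD'))⟩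
      · have hfin' : Finite ↥(D'.hyperfocalSubgroup p) := finite_of_le hle'
        have hp' : IsPGroup p ↥(D'.hyperfocalSubgroup p) := hp.to_le hle'
        obtain ⟨D₂, ⟨hD₂1, hD₂2⟩, -⟩ := Cfsg.Agent.S5113.result p hp D' hD'.1 _ hle' le_rfl
        obtain ⟨D₂', hD₂'⟩ := Cfsg.Agent.S5140.result p hp' D₂ hD₂1
        have hlt : Nat.card ↥(D'.hyperfocalSubgroup p) < n := by
          rw [← heq]
          exact card_lt_card_of_lt (lt_of_le_of_ne hle' hst)
        obtain ⟨U, L, hL⟩ := ih _ hlt _ rfl hp' D₂' hD₂'.1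
        exact ⟨U, L, IsResidualLimitOf.step F p D D' ⟨hD1, hD2⟩ hD'
          (IsResidualLimitOf.step D' p D₂ D₂' ⟨hD₂1, hD₂2⟩ hD₂' hL)⟩

theorem exists_limit [Finite S] {p : ℕ} [Fact p.Prime] (hS : IsPGroup p S) (F : FusionSystem S)
    (hF : F.IsSaturated p) : ∃ (U : Subgroup Ω) (L : FusionSystem U), L.IsResidualLimitOf F p :=
  exists_limit_aux p _ S rfl hS F hF

/-- the statement of piece RED-A -/
def FactAStmt (Ω : Type u) [Group Ω] (p : ℕ) [Fact p.Prime] : Prop :=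
  ∀ (S : Subgroup Ω) [Finite S] (_ : IsPGroup p S) (F : FusionSystem S)
    (_ : F.IsSaturated p) (F₂ : FusionSystem S) (_ : F₂.IsSaturated p)
    (_ : F₂.HasPrimeToPIndexIn F p) (H : Subgroup Ω) (_ : F.StronglyClosed H)
    (F₁ : FusionSystem H) (_ : F₁.IsSaturated p) (_ : F₁.HasPPowerIndexIn F p)
    (D : FusionSystem H) (_ : D.IsSaturated p) (_ : D.HasPPowerIndexIn F₂ p),
    D.HasPrimeToPIndexIn F₁ p

theorem sameLim_residual_aux (p : ℕ) [Fact p.Prime] (hA : FactAStmt Ω p) :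
    ∀ (n : ℕ) (S : Subgroup Ω) [Finite S],
    Nat.card S = n → IsPGroup p S → ∀ F : FusionSystem S, F.IsSaturated p →
    ∀ D : FusionSystem S, F.IsPPrimeResidual p D →
    ∀ {U V : Subgroup Ω} (L : FusionSystem U), L.IsResidualLimitOf F p →
    ∀ (L' : FusionSystem V), L'.IsResidualLimitOf D p → SameHom L L' := by
  intro n
  induction n using Nat.strong_induction_on with
  | _ n ih =>
    intro S _ hn hS F hF D hD U V L hL L' hL'
    have hle := hyperfocal_le F p
    by_cases hH : F.hyperfocalSubgroup p = S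
    · exact limit_unique hL hS hF L'
        (limit_step' F p hH.symm F D hF (hasPPowerIndexIn_self F p) hD hL')
    have hfin : Finite ↥(F.hyperfocalSubgroup p) := finite_of_le hle
    have hp : IsPGroup p ↥(F.hyperfocalSubgroup p) := hS.to_le hle
    have hlt : Nat.card ↥(F.hyperfocalSubgroup p) < n := by
      rw [← hn]
      exact card_lt_card_of_lt (lt_of_le_of_ne hle hH)
    have hsc : F.StronglyClosed (F.hyperfocalSubgroup p) := Cfsg.Agent.S5124.result p hS F hF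
    obtain ⟨F₁, ⟨hF₁1, hF₁2⟩, -⟩ := Cfsg.Agent.S5113.result p hS F hF _ hle le_rfl
    obtain ⟨R, hR⟩ := Cfsg.Agent.S5140.result p hp F₁ hF₁1
    obtain ⟨_, LR, hLR⟩ := exists_limit hp R hR.1
    have h1 : SameHom L LR := limit_unique hL hS hF LR
      (IsResidualLimitOf.step F p F₁ R ⟨hF₁1, hF₁2⟩ hR hLR)
    have hhyp : D.hyperfocalSubgroup p ≤ F.hyperfocalSubgroup p :=
      hyperfocal_mono le_rfl D F p (fun P hP => autGroup_le_of_subsystem hD.2.1.1 hP)
    obtain ⟨D', ⟨hD'1, hD'2⟩, -⟩ := Cfsg.Agent.S5113.result p hS D hD.1 _ hle hhyp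
    have hnorm : ((F.hyperfocalSubgroup p).subgroupOf S).Normal := by
      constructor
      intro t ht g
      exact Helper87.sc_conj_mem hsc g.2 ht
    have hD'n : D'.IsNormalIn D p :=
      Cfsg.Agent.S5120.result p hS D hD.1 _ hle hnorm hhyp D' hD'1 hD'2
    obtain ⟨_, LD', hLD'⟩ := exists_limit hp D' hD'1
    have h3 : SameHom L' LD' := Cfsg.Agent.S5203.result p hS D hD.1 D' hD'n hD'2 L' hL' LD' hLD'
    have hfa : D'.HasPrimeToPIndexIn F₁ p :=
      hA S hS F hF D hD.1 hD.2.1 _ hsc F₁ hF₁1 hF₁2 D' hD'1 hD'2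
    have hres : D'.IsPPrimeResidual p R := residual_of_primeIdx hR hD'1 hfa
    have h2 : SameHom LD' LR := ih _ hlt _ rfl hp D' hD'1 R hres LD' hLD' LR hLR
    exact h1.trans (h2.symm.trans h3.symm)

theorem sameLim_of_primeIdx_aux [Finite S] {p : ℕ} [Fact p.Prime] (hA : FactAStmt Ω p)
    (hS : IsPGroup p S)
    (F : FusionSystem S) (hF : F.IsSaturated p) (F₂ : FusionSystem S) (hF₂ : F₂.IsSaturated p)
    (h₂ : F₂.HasPrimeToPIndexIn F p) {U V : Subgroup Ω} (L : FusionSystem U)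
    (hL : L.IsResidualLimitOf F p) (L₂ : FusionSystem V) (hL₂ : L₂.IsResidualLimitOf F₂ p) :
    SameHom L L₂ := by
  obtain ⟨D, hD⟩ := Cfsg.Agent.S5140.result p hS F hF
  obtain ⟨_, LD, hLD⟩ := exists_limit hS D hD.1
  have h1 := sameLim_residual_aux p hA _ S rfl hS F hF D hD L hL LD hLD
  have h2 := sameLim_residual_aux p hA _ S rfl hS F₂ hF₂ D (residual_of_primeIdx hD hF₂ h₂)
    L₂ hL₂ LD hLD
  exact h1.trans h2.symm

end Cfsg.Agent.Lib.Helper84
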